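import Mathlib
import Cfsg.Agent.Lib.PLocal.QdSection

/-!
# Offenders in groups without section `S₃`: the vocabulary

`fixp ρ E` is the space of fixed points of `E`, `O2Triv ρ` says that a normal subgroup inducing a
`2`-group acts trivially, and `NoOffender` is the statement to be proved: without section `S₃`
an elementary abelian `E` with `|E| |C_V(E)| ≥ |V|` acts trivially.
-/

set_option autoImplicit false

namespace CfsgLib.S4NoFF

universe u

section Defs

variable {X : Type*} [Group X] {V : Type*} [AddCommGroup V] [Module (ZMod 2) V]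

/-- The fixed points of a subgroup. -/
def fixp (ρ : Representation (ZMod 2) X V) (E : Subgroup X) : Submodule (ZMod 2) V where
  carrier := {v | ∀ e ∈ E, ρ e v = v}
  add_mem' := fun ha hb e he => by rw [map_add, ha e he, hb e he]
  zero_mem' := fun _ _ => map_zero _
  smul_mem' := fun c v hv e he => by rw [map_smul, hv e he]

theorem mem_fixp {ρ : Representation (ZMod 2) X V} {E : Subgroup X} {v : V} :
    v ∈ fixp ρ E ↔ ∀ e ∈ E, ρ e v = v := Iff.rfl

/-- A normal subgroup inducing a `2`-group acts trivially. -/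
def O2Triv (ρ : Representation (ZMod 2) X V) : Prop :=
  ∀ D : Subgroup X, D.Normal → (∀ d ∈ D, ∃ k : ℕ, ρ (d ^ 2 ^ k) = 1) → ∀ d ∈ D, ρ d = 1

/-- `E` induces an elementary abelian group with `|E| |C_V(E)| ≥ |V|`. -/
def IsOff (ρ : Representation (ZMod 2) X V) (E : Subgroup X) : Prop :=
  (∀ e ∈ E, ρ (e * e) = 1) ∧
    Nat.card V ≤ Nat.card (E.map (MonoidHom.toHomUnits ρ)) * Nat.card (fixp ρ E)

end Defs

/-- **The lemma**: without section `S₃` every offender acts trivially. -/
def NoOffender : Prop :=
  ∀ (X V : Type u) [Group X] [Finite X] [AddCommGroup V] [Module (ZMod 2) V] [Finite V]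
    (ρ : Representation (ZMod 2) X V), ¬ CfsgLib.PLocal.InvHom (Equiv.Perm (Fin 3)) X →
    O2Triv ρ → ∀ E : Subgroup X, IsOff ρ E → ∀ e ∈ E, ρ e = 1

end CfsgLib.S4NoFF
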