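import Mathlib

/-!
# No regular family with a large invariant space of maps

A linear family `l : A → End P` with `l a` and `l a - 1` invertible for `a ≠ 0`, and an invariant
space `N` of maps out of `P` of codimension between `1` and `dim A` which loses at most as much on
every subspace: the characteristic polynomial of `N` divides that of `P`, and the quotient gives a
polynomial function of degree less than `dim A` which vanishes everywhere but at `0`.
-/

set_option autoImplicit false

namespace CfsgLib.S4NoFF

open Polynomial Module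

section Divides

variable {K : Type*} [Field K] {M : Type*} [AddCommGroup M] [Module K M] [FiniteDimensional K M]

/-- Any polynomial killing a matrix has a power divisible by the characteristic polynomial. -/
theorem charpoly_dvd_pow_matrix {n : Type*} [Fintype n] [DecidableEq n] (B : Matrix n n K)
    {q : K[X]} (hq : aeval B q = 0) : B.charpoly ∣ q ^ Fintype.card n := by
  classical
  set Xs : Matrix n n K[X] := Matrix.scalar n (X : K[X]) with hXs
  set B' : Matrix n n K[X] := (C : K →+* K[X]).mapMatrix B with hB'
  have hcomm : Commute Xs B' := Matrix.scalar_commute _ (fun r => Commute.all _ _) _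
  let ψ : Matrix n n K →ₐ[K] Matrix n n K[X] := (Algebra.ofId K K[X]).mapMatrix
  have hψ : ψ B = B' := rfl
  have hdiv : ∀ p : K[X], (Xs - B') ∣ (aeval Xs p - aeval B' p) := by
    intro p
    induction p using Polynomial.induction_on' with
    | add p r hp hr =>
      simp only [map_add]
      rw [add_sub_add_comm]
      exact dvd_add hp hr
    | monomial k c =>
      rw [aeval_monomial, aeval_monomial, ← mul_sub, ← Algebra.smul_def]
      obtain ⟨w, hw⟩ : (Xs - B') ∣ (Xs ^ k - B' ^ k) :=
        ⟨_, (hcomm.mul_geom_sum₂ k).symm⟩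
      exact ⟨c • w, by rw [hw, mul_smul_comm]⟩
  have hXq : aeval Xs q = Matrix.scalar n q := by
    let sc : K[X] →ₐ[K] Matrix n n K[X] :=
      (Algebra.ofId K[X] (Matrix n n K[X])).restrictScalars K
    have : sc X = Xs := rfl
    rw [← this, aeval_algHom_apply, aeval_X_left_apply]
    rfl
  have hBq : aeval B' q = 0 := by
    rw [← hψ, aeval_algHom_apply, hq, map_zero]
  obtain ⟨w, hw⟩ := hdiv q
  rw [hXq, hBq, sub_zero] at hw
  have := congrArg Matrix.det hw
  rw [Matrix.det_mul, Matrix.scalar_apply, Matrix.det_diagonal, Finset.prod_const,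
    Finset.card_univ] at this
  exact ⟨_, this⟩

/-- Any polynomial killing an endomorphism has a power divisible by the characteristic polynomial. -/
theorem charpoly_dvd_pow (f : Module.End K M) {q : K[X]} (hq : aeval f q = 0) :
    f.charpoly ∣ q ^ finrank K M := by
  classical
  let b := Module.finBasis K M
  have h0 : aeval (LinearMap.toMatrixAlgEquiv b f) q = 0 := by
    rw [aeval_algHom_apply (LinearMap.toMatrixAlgEquiv b), hq, map_zero]
  have h := charpoly_dvd_pow_matrix _ h0
  rw [Fintype.card_fin] at h
  rwa [← LinearMap.charpoly_toMatrix f b]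

/-- The kernel of a coprime factor of the characteristic polynomial has the expected dimension. -/
theorem finrank_ker_aeval (f : Module.End K M) {q r : K[X]} (hq : q.Monic) (_hr : r.Monic)
    (hqr : IsCoprime q r) (hf : f.charpoly = q * r) :
    finrank K (LinearMap.ker (aeval f q)) = q.natDegree := by
  classical
  set U := LinearMap.ker (aeval f q)
  set W := LinearMap.ker (aeval f r)
  have hc : IsCompl U W := by
    refine ⟨disjoint_ker_aeval_of_isCoprime f hqr, codisjoint_iff.2 ?_⟩
    rw [sup_ker_aeval_eq_ker_aeval_mul_of_coprime f hqr, ← hf, LinearMap.aeval_self_charpoly,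
      LinearMap.ker_zero]
  have hinv : ∀ (p : K[X]) (x : M), aeval f p x = 0 → aeval f p (f x) = 0 := by
    intro p x hx
    have e : aeval f p * f = f * aeval f p := by
      have := congrArg (aeval f) (mul_comm p X)
      simpa [map_mul] using this
    have := LinearMap.congr_fun e x
    simp only [Module.End.mul_apply] at this
    rw [this, hx, map_zero]
  let fU : Module.End K U := f.restrict fun x hx => hinv q x hx
  let fW : Module.End K W := f.restrict fun x hx => hinv r x hx
  have haev : ∀ (S : Submodule K M) (hS : ∀ x ∈ S, f x ∈ S) (p : K[X]) (x : S),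
      ((aeval (f.restrict hS) p) x : M) = aeval f p (x : M) := by
    intro S hS p
    induction p using Polynomial.induction_on' with
    | add p r hp hr => intro x; simp [map_add, hp x, hr x]
    | monomial k c =>
      intro x
      have hp : ∀ y : S, (((f.restrict hS) ^ k) y : M) = (f ^ k) (y : M) := by
        clear x
        induction k with
        | zero => intro y; simp
        | succ k ih => intro y; rw [pow_succ', pow_succ', Module.End.mul_apply,
            Module.End.mul_apply, ← ih y]; rfl
      simp [aeval_monomial, Module.algebraMap_end_apply, hp x]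
  have h1 : aeval fU q = 0 := LinearMap.ext fun x => Subtype.ext (by
    exact (haev _ _ _ x).trans x.2)
  have h2 : aeval fW r = 0 := LinearMap.ext fun x => Subtype.ext (by
    exact (haev _ _ _ x).trans x.2)
  let e := Submodule.prodEquivOfIsCompl U W hc
  have hconj : e.conj (fU.prodMap fW) = f := by
    apply LinearMap.ext
    intro x
    obtain ⟨⟨u, w⟩, rfl⟩ := e.surjective x
    simp [e, LinearEquiv.conj_apply, fU, fW, Submodule.coe_prodEquivOfIsCompl']
    exact rfl
  have hprod : fU.charpoly * fW.charpoly = q * r := by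
    rw [← LinearMap.charpoly_prodMap, ← LinearEquiv.charpoly_conj e, hconj, hf]
  have hdU := charpoly_dvd_pow fU h1
  have hdW := charpoly_dvd_pow fW h2
  have c1 : IsCoprime q fW.charpoly := hqr.pow_right.of_isCoprime_of_dvd_right hdW
  have c2 : IsCoprime fU.charpoly r := hqr.pow_left.of_isCoprime_of_dvd_left hdU
  have d1 : q ∣ fU.charpoly := c1.dvd_of_dvd_mul_right (by rw [hprod]; exact dvd_mul_right q r)
  have d2 : fU.charpoly ∣ q := c2.dvd_of_dvd_mul_right (by rw [← hprod]; exact dvd_mul_right _ _)
  have := eq_of_monic_of_associated hq fU.charpoly_monic (associated_of_dvd_dvd d1 d2)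
  rw [this, LinearMap.charpoly_natDegree]

end Divides

section Compare

variable {K : Type*} [Field K] {M M' : Type*} [AddCommGroup M] [Module K M] [FiniteDimensional K M]
  [AddCommGroup M'] [Module K M'] [FiniteDimensional K M']

theorem exists_prime_power_split {a p : K[X]} (ha : a.Monic) (hp : Prime p) (hpm : p.Monic) :
    ∃ (m : ℕ) (r : K[X]), a = p ^ m * r ∧ r.Monic ∧ IsCoprime p r ∧ emultiplicity p a = m := by
  have hfm : FiniteMultiplicity p a := FiniteMultiplicity.of_prime_left hp ha.ne_zero
  obtain ⟨r, hr, hndvd⟩ := hfm.exists_eq_pow_mul_and_not_dvd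
  refine ⟨multiplicity p a, r, hr, ?_, hp.irreducible.coprime_iff_not_dvd.2 hndvd,
    hfm.emultiplicity_eq_multiplicity⟩
  refine (hpm.pow (multiplicity p a)).of_mul_monic_left ?_
  rwa [← hr]

/-- Smaller polynomial kernels give a smaller characteristic polynomial. -/
theorem charpoly_dvd_of_finrank_ker_le (f : Module.End K M) (g : Module.End K M')
    (h : ∀ p : K[X], finrank K (LinearMap.ker (aeval f p)) ≤
      finrank K (LinearMap.ker (aeval g p))) : f.charpoly ∣ g.charpoly := by
  refine (UniqueFactorizationMonoid.dvd_iff_emultiplicity_le (a := f.charpoly)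
    f.charpoly_monic.ne_zero).2 ?_
  classical
  intro p hp
  by_contra hlt
  rw [not_le] at hlt
  have hp0 : p ≠ 0 := hp.ne_zero
  set p₁ := normalize p with hp₁def
  have hp₁ : Prime p₁ := (Associated.prime_iff (normalize_associated p)).2 hp
  have hpm : p₁.Monic := monic_normalize hp0
  obtain ⟨m, r, hf, hrm, hrc, hem⟩ := exists_prime_power_split f.charpoly_monic hp₁ hpm
  obtain ⟨m', r', hg, hrm', hrc', hem'⟩ := exists_prime_power_split g.charpoly_monic hp₁ hpm
  have ha : Associated p p₁ := (normalize_associated p).symm
  rw [emultiplicity_eq_of_associated_left ha] at hem hem'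
  rw [hem, hem'] at hlt
  have hmm : m' < m := by exact_mod_cast hlt
  have k1 := finrank_ker_aeval f (hpm.pow m) hrm hrc.pow_left hf
  have k2 := finrank_ker_aeval g (hpm.pow m') hrm' hrc'.pow_left hg
  have k3 : LinearMap.ker (aeval g (p₁ ^ m)) ≤ LinearMap.ker (aeval g (p₁ ^ m')) := by
    intro x hx
    rw [LinearMap.mem_ker] at hx ⊢
    obtain ⟨u, v, huv⟩ := (hrc'.pow_left (m := m - m') : IsCoprime (p₁ ^ (m - m')) r')
    have e : p₁ ^ m' = u * p₁ ^ m + v * g.charpoly := by
      rw [hg, show p₁ ^ m = p₁ ^ m' * p₁ ^ (m - m') by rw [← pow_add]; congr 1; omega]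
      linear_combination -(p₁ ^ m') * huv
    rw [e, map_add, map_mul, map_mul, LinearMap.aeval_self_charpoly, mul_zero, add_zero,
      Module.End.mul_apply, hx, map_zero]
  have k4 := (h (p₁ ^ m)).trans (Submodule.finrank_mono k3)
  rw [k1, k2, natDegree_pow, natDegree_pow] at k4
  have hpos : 0 < p₁.natDegree := hp₁.irreducible.natDegree_pos
  exact absurd (Nat.le_of_mul_le_mul_right k4 hpos) (not_le.2 hmm)

end Compare

section Degree

variable {R : Type*} [CommRing R] {σ : Type*}

/-- The coefficients of a quotient by a monic polynomial inherit the degree bound. -/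
theorem totalDegree_coeff_quot {P Q G S : (MvPolynomial σ R)[X]} {n s : ℕ} (hQ : Q.Monic)
    (hQn : Q.natDegree = n) (hG : G.natDegree ≤ s) (hPQ : P = Q * G + S)
    (hS : ∀ i, n ≤ i → S.coeff i = 0)
    (hP : ∀ i, i ≤ n + s → (P.coeff i).totalDegree ≤ n + s - i)
    (hQd : ∀ i, i ≤ n → (Q.coeff i).totalDegree ≤ n - i) :
    ∀ i, (G.coeff i).totalDegree ≤ s - i := by
  intro i
  induction hk : s - i using Nat.strong_induction_on generalizing i with
  | _ k IH =>
  subst hk
  rcases lt_or_ge s i with hi | hi
  · rw [coeff_eq_zero_of_natDegree_lt (lt_of_le_of_lt hG hi)]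
    simp
  classical
  have hc := congrArg (fun T => T.coeff (n + i)) hPQ
  simp only [coeff_add, hS (n + i) (Nat.le_add_right n i), add_zero, coeff_mul] at hc
  rw [← Finset.add_sum_erase _ _ (Finset.HasAntidiagonal.mem_antidiagonal.2 rfl :
      (n, i) ∈ Finset.HasAntidiagonal.antidiagonal (n + i))] at hc
  have hQ1 : Q.coeff n = 1 := hQn ▸ hQ.coeff_natDegree
  simp only [hQ1, one_mul] at hc
  rw [show G.coeff i = P.coeff (n + i) - ∑ x ∈ (Finset.HasAntidiagonal.antidiagonal (n + i)).erase (n, i),
    Q.coeff x.1 * G.coeff x.2 by rw [hc]; ring]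
  refine (MvPolynomial.totalDegree_sub _ _).trans (max_le ((hP _ (by omega)).trans (by omega)) ?_)
  refine (MvPolynomial.totalDegree_finsetSum _ _).trans (Finset.sup_le ?_)
  rintro ⟨a, b⟩ hab
  obtain ⟨hne, hmem⟩ := Finset.mem_erase.1 hab
  rw [Finset.HasAntidiagonal.mem_antidiagonal] at hmem
  by_cases ha : n < a
  · rw [coeff_eq_zero_of_natDegree_lt (hQn.symm ▸ ha), zero_mul]; simp
  by_cases hb : s < b
  · rw [coeff_eq_zero_of_natDegree_lt (lt_of_le_of_lt hG hb), mul_zero]; simp
  simp only at hmem ⊢
  have hbi : i < b := by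
    rcases Nat.lt_or_ge i b with h | h
    · exact h
    · exfalso
      have : a = n := by omega
      subst this
      exact hne (by rw [show b = i by omega])
  refine (MvPolynomial.totalDegree_mul _ _).trans ?_
  have h1 := hQd a (by omega)
  have h2 := IH (s - b) (by omega) b rfl
  omega

end Degree

section Main

variable {P C A : Type*} [AddCommGroup P] [Module (ZMod 2) P] [Finite P]
  [AddCommGroup C] [Module (ZMod 2) C] [Finite C]
  [AddCommGroup A] [Module (ZMod 2) A] [Finite A]

theorem eval_one_charpoly_eq {M : Type*} [AddCommGroup M] [Module (ZMod 2) M] [Finite M]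
    (f : Module.End (ZMod 2) M) (μ : ZMod 2) (h : Function.Bijective (f - μ • 1 : Module.End _ M)) :
    f.charpoly.eval μ = 1 := by
  have h2 : ∀ x : ZMod 2, x ≠ 0 → x = 1 := by decide
  refine h2 _ ?_
  rw [LinearMap.eval_charpoly]
  refine IsUnit.ne_zero (LinearMap.isUnit_det _ ?_)
  rw [Module.End.isUnit_iff]
  have e : (algebraMap (ZMod 2) (Module.End (ZMod 2) M) μ - f) = -(f - μ • 1) := by
    rw [Algebra.algebraMap_eq_smul_one]; abel
  rw [e]
  exact neg_involutive.bijective.comp h

/-- There is no regular family with such an invariant space of maps. -/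
theorem no_regular_family (l : A →ₗ[ZMod 2] Module.End (ZMod 2) P)
    (hinv : ∀ a, a ≠ 0 → Function.Injective (l a))
    (hinv1 : ∀ a, a ≠ 0 → ∀ v, l a v = v → v = 0)
    (N : Submodule (ZMod 2) (P →ₗ[ZMod 2] C))
    (hN : ∀ μ ∈ N, ∀ a, μ.comp (l a) ∈ N)
    (hbound : ∀ U : Submodule (ZMod 2) P, finrank (ZMod 2) U + finrank (ZMod 2) N ≤
      finrank (ZMod 2) P + finrank (ZMod 2) (N.map (LinearMap.lcomp (ZMod 2) C U.subtype)))
    (hlow : finrank (ZMod 2) N < finrank (ZMod 2) P)
    (hhigh : finrank (ZMod 2) P ≤ finrank (ZMod 2) N + finrank (ZMod 2) A) : False := by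
  classical
  have : Fact (Nat.Prime 2) := ⟨Nat.prime_two⟩
  have : Module.Finite (ZMod 2) P := Module.Finite.of_finite
  have : Module.Finite (ZMod 2) C := Module.Finite.of_finite
  have : Module.Finite (ZMod 2) A := Module.Finite.of_finite
  have : Finite (P →ₗ[ZMod 2] C) := DFunLike.finite _
  let lN : A →ₗ[ZMod 2] Module.End (ZMod 2) N :=
    { toFun := fun a =>
        { toFun := fun μ => ⟨μ.1.comp (l a), hN _ μ.2 a⟩
          map_add' := fun μ ν => Subtype.ext (LinearMap.add_comp _ _ _)
          map_smul' := fun c μ => Subtype.ext (LinearMap.smul_comp _ _ _) }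
      map_add' := fun a b => LinearMap.ext fun μ => Subtype.ext (by
        show μ.1.comp (l (a + b)) = μ.1.comp (l a) + μ.1.comp (l b)
        rw [map_add, LinearMap.comp_add])
      map_smul' := fun c a => LinearMap.ext fun μ => Subtype.ext (by
        show μ.1.comp (l (c • a)) = c • μ.1.comp (l a)
        rw [map_smul, LinearMap.comp_smul]) }
  have hz : ∀ t : ZMod 2, t = 0 ∨ t = 1 := fun t => by revert t; exact fun t => (Fin.exists_fin_two.mp ⟨t, rfl⟩ : t = 0 ∨ t = 1)
  -- divisibility
  have hdvd : ∀ a, (lN a).charpoly ∣ (l a).charpoly := by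
    intro a
    refine charpoly_dvd_of_finrank_ker_le _ _ fun p => ?_
    have haev : ∀ μ : N, ((aeval (lN a) p) μ : P →ₗ[ZMod 2] C) = μ.1.comp (aeval (l a) p) := by
      induction p using Polynomial.induction_on' with
      | add p r hp hr => intro μ; simp [map_add, hp μ, hr μ, LinearMap.comp_add]
      | monomial k c =>
        intro μ
        have hp : ∀ ν : N, (((lN a) ^ k) ν : P →ₗ[ZMod 2] C) = ν.1.comp ((l a) ^ k) := by
          induction k with
          | zero => intro ν; simp [Module.End.one_eq_id]
          | succ k ih =>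
            intro ν
            rw [pow_succ, pow_succ', Module.End.mul_apply, ih]
            rfl
        ext x
        simp [aeval_monomial, hp μ]
    set U := LinearMap.range (aeval (l a) p)
    have hk : (LinearMap.ker (aeval (lN a) p)).map N.subtype ≤
        N ⊓ LinearMap.ker (LinearMap.lcomp (ZMod 2) C U.subtype) := by
      rintro _ ⟨μ, hμ, rfl⟩
      refine ⟨μ.2, LinearMap.mem_ker.2 (LinearMap.ext fun ⟨x, y, hy⟩ => ?_)⟩
      subst hy
      have := haev μ
      rw [LinearMap.mem_ker.1 hμ] at this
      have h2 := LinearMap.congr_fun this y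
      simpa using h2.symm
    have h1 := Submodule.finrank_mono hk
    rw [Submodule.finrank_map_subtype_eq] at h1
    set φ := (LinearMap.lcomp (ZMod 2) C U.subtype).domRestrict N
    have h2 := φ.finrank_range_add_finrank_ker
    have h3 : LinearMap.range φ = N.map (LinearMap.lcomp (ZMod 2) C U.subtype) :=
      LinearMap.range_domRestrict _ _
    have h4 : (LinearMap.ker φ).map N.subtype =
        N ⊓ LinearMap.ker (LinearMap.lcomp (ZMod 2) C U.subtype) := by
      rw [LinearMap.ker_domRestrict, Submodule.map_comap_subtype]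
    have h4' := congrArg (fun S : Submodule (ZMod 2) (P →ₗ[ZMod 2] C) => finrank (ZMod 2) S) h4
    simp only [Submodule.finrank_map_subtype_eq] at h4'
    have h5 := hbound U
    have h6 := (aeval (l a) p).finrank_range_add_finrank_ker
    rw [h3] at h2
    change finrank (ZMod 2) U + _ = _ at h6
    omega
  -- the polynomial
  let b := Module.finBasis (ZMod 2) A
  set j := finrank (ZMod 2) A
  set m := finrank (ZMod 2) P
  set n := finrank (ZMod 2) N
  set PP := LinearMap.polyCharpoly l b
  set QQ := LinearMap.polyCharpoly lN b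
  have hQm : QQ.Monic := LinearMap.polyCharpoly_monic _ _
  have hPm : PP.Monic := LinearMap.polyCharpoly_monic _ _
  have hQn : QQ.natDegree = n := LinearMap.polyCharpoly_natDegree _ _
  have hPn : PP.natDegree = m := LinearMap.polyCharpoly_natDegree _ _
  set G := PP /ₘ QQ
  have hGd : G.natDegree = m - n := by rw [natDegree_divByMonic _ hQm, hPn, hQn]
  have hdeg := totalDegree_coeff_quot (P := PP) (G := G) (S := PP %ₘ QQ) (s := m - n) hQm hQn hGd.le
    (by rw [add_comm]; exact (modByMonic_add_div PP QQ).symm)
    (fun i hi => coeff_eq_zero_of_degree_lt (lt_of_lt_of_le (degree_modByMonic_lt _ hQm)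
      (by rw [degree_eq_natDegree hQm.ne_zero, hQn]; exact_mod_cast hi)))
    (fun i hi => (LinearMap.polyCharpoly_coeff_isHomogeneous l b i (m - i)
      (by omega)).totalDegree_le.trans (by omega))
    (fun i hi => (LinearMap.polyCharpoly_coeff_isHomogeneous lN b i (n - i)
      (by omega)).totalDegree_le)
  -- the values
  let g : (Fin j → ZMod 2) → (ZMod 2)[X] := fun x => G.map (MvPolynomial.eval x)
  have hg : ∀ x, (lN (b.equivFun.symm x)).charpoly * g x = (l (b.equivFun.symm x)).charpoly := by
    intro x
    set a := b.equivFun.symm x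
    have hx : (b.repr a : Fin j → ZMod 2) = x := b.equivFun.apply_symm_apply x
    have e1 := LinearMap.polyCharpoly_map_eq_charpoly l b a
    have e2 := LinearMap.polyCharpoly_map_eq_charpoly lN b a
    simp only [hx] at e1 e2
    show _ * G.map (MvPolynomial.eval x) = _
    rw [map_divByMonic _ hQm, e1, e2]
    have := modByMonic_add_div (l a).charpoly (lN a).charpoly
    rwa [(modByMonic_eq_zero_iff_dvd (lN a).charpoly_monic).2 (hdvd a), zero_add] at this
  have hval : ∀ x, x ≠ 0 → ∀ μ : ZMod 2, (g x).eval μ = 1 := by
    intro x hx μ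
    have ha : b.equivFun.symm x ≠ 0 := fun h => hx (b.equivFun.symm.map_eq_zero_iff.1 h)
    set a := b.equivFun.symm x
    have hP : Function.Bijective (l a - μ • 1 : Module.End (ZMod 2) P) := by
      refine Finite.injective_iff_bijective.1 ?_
      rcases hz μ with rfl | rfl
      · simpa using hinv a ha
      · refine (injective_iff_map_eq_zero _).2 fun v hv => hinv1 a ha v ?_
        simpa [sub_eq_zero] using hv
    have hNb : Function.Bijective (lN a - μ • 1 : Module.End (ZMod 2) N) := by
      refine Finite.injective_iff_bijective.1 ((injective_iff_map_eq_zero _).2 fun ν hν => ?_)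
      refine Subtype.ext (LinearMap.ext fun x => ?_)
      obtain ⟨y, rfl⟩ := hP.2 x
      have := LinearMap.congr_fun (congrArg Subtype.val hν) y
      simpa [lN] using this
    have := congrArg (Polynomial.eval μ) (hg x)
    rwa [eval_mul, eval_one_charpoly_eq _ _ hP, eval_one_charpoly_eq _ _ hNb, one_mul] at this
  have hzero : g 0 = X ^ (m - n) := by
    have h := hg 0
    simp only [map_zero] at h
    rw [LinearMap.charpoly_zero, LinearMap.charpoly_zero] at h
    change X ^ n * g 0 = X ^ m at h
    rw [show m = n + (m - n) by omega, pow_add] at h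
    exact mul_left_cancel₀ (pow_ne_zero _ X_ne_zero) h
  have hsum := MvPolynomial.sum_eval_eq_zero (K := ZMod 2) (G.eval 1 - G.coeff 0) (by
    have hlt : (G.eval 1 - G.coeff 0).totalDegree < j := by
      rw [eval_eq_sum_range, hGd, Finset.sum_range_succ' ]
      simp only [pow_zero, mul_one, one_pow, add_sub_cancel_right]
      refine lt_of_le_of_lt ((MvPolynomial.totalDegree_finsetSum _ _).trans (Finset.sup_le
        (a := m - n - 1) fun i _ => ?_)) (by omega)
      exact (hdeg (i + 1)).trans (by omega)
    simpa [ZMod.card] using hlt)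
  have hF : ∀ x, MvPolynomial.eval x (G.eval 1 - G.coeff 0) = (g x).eval 1 - (g x).eval 0 := by
    intro x
    simp [g, ← coeff_zero_eq_eval_zero, eval_one_map]
  rw [Finset.sum_eq_single_of_mem (0 : Fin j → ZMod 2) (Finset.mem_univ _)
    (fun x _ hx => by rw [hF, hval x hx, hval x hx, sub_self]), hF, hzero] at hsum
  simp [zero_pow (show m - n ≠ 0 by omega)] at hsum

end Main

end CfsgLib.S4NoFF
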