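import Cfsg.Agent.Lib.S4NoFF.Offender
import Cfsg.Agent.Lib.Fusion.SylowAux
import Cfsg.Agent.Lib.Fusion.Invariant

/-!
# A minimal subgroup with a unique maximal overgroup of its Sylow subgroup

`Cnf ρ N Y T`: `Y` is not inside `N`, has a Sylow subgroup `T` inside `N` with `N_Y(J(T)) ≤ N`,
and no proper subgroup of `Y` has these properties.
-/

set_option autoImplicit false
set_option linter.unusedSectionVars false

namespace CfsgLib.S4NoFF

open CfsgLib.LocalEven.CD (cj)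
open CfsgLib.Fusion hiding cj

universe u

variable {X : Type u} [Group X] [Finite X] {V : Type u} [AddCommGroup V] [Module (ZMod 2) V]
  [Finite V] {ρ : Representation (ZMod 2) X V}

theorem mem_cj' {x y : X} {B : Subgroup X} : y ∈ cj x B ↔ x⁻¹ * y * x ∈ B := by
  constructor
  · rintro ⟨r, hr, rfl⟩; simpa [mul_assoc] using hr
  · intro h; exact ⟨_, h, by simp [mul_assoc]⟩

theorem cj_of_mem' {x : X} {B : Subgroup X} (hx : x ∈ B) : cj x B = B :=
  LocalEven.CD.cj_eq_of_mem_normalizer (Subgroup.le_normalizer hx)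

theorem mem_normalizer_of_cj_eq {x : X} {B : Subgroup X} (h : cj x B = B) :
    x ∈ Subgroup.normalizer (B : Set X) := Subgroup.mem_normalizer_iff_map_conj_eq.2 h

theorem card_lt_of_lt {B C : Subgroup X} (h : B < C) : Nat.card B < Nat.card C :=
  lt_of_le_of_ne (Subgroup.card_le_of_le h.le) fun e =>
    h.ne (Subgroup.eq_of_le_of_card_ge h.le e.ge)

/-- The join of the minimal offenders inside `T`. -/
def offJ (ρ : Representation (ZMod 2) X V) (T : Subgroup X) : Subgroup X :=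
  sSup {A | A ≤ T ∧ Min ρ A}

theorem offJ_le (ρ : Representation (ZMod 2) X V) (T : Subgroup X) : offJ ρ T ≤ T :=
  sSup_le fun _ h => h.1

theorem le_offJ {T A : Subgroup X} (hA : A ≤ T) (h : Min ρ A) : A ≤ offJ ρ T := le_sSup ⟨hA, h⟩

theorem offJ_conj (T : Subgroup X) (x : X) : cj x (offJ ρ T) = offJ ρ (cj x T) := by
  have key : ∀ (y : X) (T : Subgroup X), cj y (offJ ρ T) ≤ offJ ρ (cj y T) := fun y T => by
    rw [cj, Subgroup.map_le_iff_le_comap]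
    refine sSup_le fun A hA => ?_
    rw [← Subgroup.map_le_iff_le_comap]
    exact le_offJ (LocalEven.CD.cj_mono y hA.1) (hA.2.conj y)
  refine le_antisymm (key x T) ?_
  have h := LocalEven.CD.cj_mono x (key x⁻¹ (cj x T))
  rwa [LocalEven.CD.cj_cj, LocalEven.CD.cj_cj, mul_inv_cancel, LocalEven.CD.cj_one,
    inv_mul_cancel, LocalEven.CD.cj_one] at h

theorem normalizer_le_normalizer_offJ (T : Subgroup X) :
    Subgroup.normalizer (T : Set X) ≤ Subgroup.normalizer (offJ ρ T : Set X) := fun x hx =>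
  mem_normalizer_of_cj_eq (by rw [offJ_conj, LocalEven.CD.cj_eq_of_mem_normalizer hx])

/-- The subgroup stabilising a subspace. -/
def stabW (ρ : Representation (ZMod 2) X V) (W : Submodule (ZMod 2) V) : Subgroup X where
  carrier := {x | ∀ w ∈ W, ρ x w ∈ W}
  one_mem' := fun w hw => by rwa [rho_one]
  mul_mem' := fun {a b} ha hb w hw => by rw [rho_mul]; exact ha _ (hb w hw)
  inv_mem' := fun {x} hx w hw => by
    obtain ⟨⟨w', hw'⟩, e⟩ := Finite.surjective_of_injective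
      (f := fun w : W => (⟨ρ x w, hx w w.2⟩ : W))
      (fun a b e => Subtype.ext (rho_injective ρ x (congrArg Subtype.val e))) ⟨w, hw⟩
    have e' : ρ x w' = w := congrArg Subtype.val e
    rw [← e', rho_inv_self]
    exact hw'

/-- The largest normal `2`-subgroup of `Y`. -/
noncomputable def oTwo (Y : Subgroup X) : Subgroup X := (Cfsg.pCore 2 Y).map Y.subtype

theorem oTwo_le (Y : Subgroup X) : oTwo Y ≤ Y := Subgroup.map_subtype_le _

theorem isPGroup_oTwo (Y : Subgroup X) : IsPGroup 2 (oTwo Y) :=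
  (CfsgLib.Base.isPGroup_pCore 2 Y).map _

theorem oTwo_conj (Y : Subgroup X) {y : X} (hy : y ∈ Y) {r : X} (hr : r ∈ oTwo Y) :
    y * r * y⁻¹ ∈ oTwo Y := by
  obtain ⟨r', hr', rfl⟩ := hr
  exact ⟨⟨y, hy⟩ * r' * (⟨y, hy⟩ : Y)⁻¹,
    (inferInstance : (Cfsg.pCore 2 Y).Normal).conj_mem r' hr' _, rfl⟩

theorem le_oTwo {Y D : Subgroup X} (hD : D ≤ Y) (hn : ∀ y ∈ Y, ∀ d ∈ D, y * d * y⁻¹ ∈ D)
    (hp : IsPGroup 2 D) : D ≤ oTwo Y := by
  have : (D.subgroupOf Y).Normal := ⟨fun d hd y => hn y y.2 d hd⟩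
  intro d hd
  exact ⟨⟨d, hD hd⟩, CfsgLib.Base.le_pCore (N := D.subgroupOf Y)
    (hp.comap_of_injective Y.subtype Y.subtype_injective) hd, rfl⟩

theorem cj_oTwo (Y : Subgroup X) {y : X} (hy : y ∈ Y) : cj y (oTwo Y) = oTwo Y :=
  Subgroup.eq_of_le_of_card_ge (by rintro _ ⟨r, hr, rfl⟩; exact oTwo_conj Y hy hr)
    (LocalEven.CD.card_cj y _).ge

/-- The subgroup generated by the elements of odd order of `Y`. -/
def oddGen (Y : Subgroup X) : Subgroup X := Subgroup.closure {y | y ∈ Y ∧ Odd (orderOf y)}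

theorem oddGen_le (Y : Subgroup X) : oddGen Y ≤ Y :=
  (Subgroup.closure_le _).2 fun _ h => h.1

theorem oddGen_conj (Y : Subgroup X) {y : X} (hy : y ∈ Y) {k : X} (hk : k ∈ oddGen Y) :
    y * k * y⁻¹ ∈ oddGen Y := by
  have h : oddGen Y ≤ (oddGen Y).comap (MulAut.conj y).toMonoidHom := by
    refine (Subgroup.closure_le _).2 fun z hz => Subgroup.subset_closure ⟨?_, ?_⟩
    · exact mul_mem (mul_mem hy hz.1) (inv_mem hy)
    · rw [orderOf_injective (MulAut.conj y).toMonoidHom (MulAut.conj y).injective]; exact hz.2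
  exact h hk

theorem exists_pow_two_mem_oddGen (Y : Subgroup X) {y : X} (hy : y ∈ Y) :
    ∃ k : ℕ, y ^ 2 ^ k ∈ oddGen Y := by
  obtain ⟨k, m, hm, e⟩ := Nat.exists_eq_two_pow_mul_odd (orderOf_pos y).ne'
  refine ⟨k, Subgroup.subset_closure ⟨pow_mem hy _, ?_⟩⟩
  rw [orderOf_pow_of_dvd (by positivity) (by rw [e]; exact dvd_mul_right _ _), e,
    Nat.mul_div_cancel_left _ (by positivity)]
  exact hm

theorem mem_of_odd {D : Subgroup X} {y : X} (hy : Odd (orderOf y)) {k : ℕ} (h : y ^ 2 ^ k ∈ D) :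
    y ∈ D := by
  have hco : (2 ^ k).Coprime (orderOf y) := hy.coprime_two_left.pow_left k
  obtain ⟨n, hn⟩ := exists_pow_eq_self_of_coprime hco
  rw [← hn]
  exact pow_mem h n

/-- The configuration. -/
structure Cnf (ρ : Representation (ZMod 2) X V) (N Y T : Subgroup X) : Prop where
  notle : ¬ Y ≤ N
  syl : IsSylIn 2 T Y
  TN : T ≤ N
  nJ : Y ⊓ Subgroup.normalizer (offJ ρ T : Set X) ≤ N
  minimal : ∀ L < Y, ¬ L ≤ N → ∀ T', IsSylIn 2 T' L → T' ≤ N →
    ¬ L ⊓ Subgroup.normalizer (offJ ρ T' : Set X) ≤ N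

/-- Some configuration exists below any candidate. -/
theorem exists_cnf {N Y₀ T₀ : Subgroup X} (h1 : ¬ Y₀ ≤ N) (h2 : IsSylIn 2 T₀ Y₀) (h3 : T₀ ≤ N)
    (h4 : Y₀ ⊓ Subgroup.normalizer (offJ ρ T₀ : Set X) ≤ N) : ∃ Y T, Cnf ρ N Y T := by
  let P : Subgroup X → Prop := fun Y => ¬ Y ≤ N ∧ ∃ T, IsSylIn 2 T Y ∧ T ≤ N ∧
    Y ⊓ Subgroup.normalizer (offJ ρ T : Set X) ≤ N
  obtain ⟨Y, ⟨hY, T, hT, hTN, hJ⟩, hmin⟩ := Set.exists_min_image {Y | P Y}
    (fun Y => Nat.card Y) (Set.toFinite _) ⟨Y₀, h1, T₀, h2, h3, h4⟩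
  refine ⟨Y, T, hY, hT, hTN, hJ, fun L hL hLN T' hT' hT'N hLJ => ?_⟩
  exact hL.ne (Subgroup.eq_of_le_of_card_ge hL.le (hmin L ⟨hLN, T', hT', hT'N, hLJ⟩))

namespace Cnf

variable {N Y T : Subgroup X} (c : Cnf ρ N Y T)

include c

theorem TY : T ≤ Y := c.syl.1

theorem isPGroup : IsPGroup 2 T := c.syl.2.1

theorem oTwo_le_T : oTwo Y ≤ T := by
  have : Fact (Nat.Prime 2) := ⟨Nat.prime_two⟩
  exact c.syl.le_of_normal (isPGroup_oTwo Y) (oTwo_le Y) fun y hy r hr => oTwo_conj Y hy hr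

theorem le_N_of_over {L : Subgroup X} (hT : T ≤ L) (hL : L ≤ Y) (hne : L ≠ Y) : L ≤ N := by
  by_contra h
  exact c.minimal L (lt_of_le_of_ne hL hne) h T
    ⟨hT, c.isPGroup, fun C hC hTC hCL => c.syl.2.2 C hC hTC (hCL.trans hL)⟩ c.TN
    ((inf_le_inf_right _ hL).trans c.nJ)

theorem sup_eq : oddGen Y ⊔ T = Y := by
  have : Fact (Nat.Prime 2) := ⟨Nat.prime_two⟩
  have hHY : oddGen Y ⊔ T ≤ Y := sup_le (oddGen_le Y) c.TY
  set H := oddGen Y ⊔ T with hH
  obtain ⟨S, hS⟩ := (exists_sylow_iff c.TY).2 c.syl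
  have hd : H.relIndex Y ∣ T.relIndex Y :=
    ⟨T.relIndex H, by rw [mul_comm, Subgroup.relIndex_mul_relIndex _ _ _ le_sup_right hHY]⟩
  have hKn : ((oddGen Y).subgroupOf Y).Normal := ⟨fun k hk z => oddGen_conj Y z.2 hk⟩
  have hq : IsPGroup 2 (Y ⧸ (oddGen Y).subgroupOf Y) := fun q => by
    obtain ⟨z, rfl⟩ := QuotientGroup.mk'_surjective _ q
    obtain ⟨k, hk⟩ := exists_pow_two_mem_oddGen Y z.2
    exact ⟨k, (QuotientGroup.eq_one_iff _).2 (Subgroup.mem_subgroupOf.2 (by simpa using hk))⟩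
  obtain ⟨k, hk⟩ := IsPGroup.iff_card.1 hq
  have hd2 : H.relIndex Y ∣ 2 ^ k := by
    rw [← hk, ← Subgroup.index_eq_card]
    exact ⟨(oddGen Y).relIndex H, by
      rw [mul_comm, Subgroup.relIndex_mul_relIndex _ _ _ le_sup_left hHY]; rfl⟩
  obtain ⟨j, -, hj⟩ := (Nat.dvd_prime_pow Nat.prime_two).1 hd2
  refine le_antisymm hHY ?_
  rcases Nat.eq_zero_or_pos j with rfl | hj0
  · rwa [pow_zero, Subgroup.relIndex_eq_one] at hj
  · exfalso
    have := S.not_dvd_index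
    rw [hS] at this
    exact this ((hj ▸ dvd_pow_self 2 hj0.ne' : 2 ∣ H.relIndex Y).trans hd)

theorem not_oddGen_le : ¬ oddGen Y ≤ N := fun h => c.notle (c.sup_eq ▸ sup_le h c.TN)

/-- Normal subgroups: either they contain the odd part or their Sylow subgroup is in `O₂`. -/
theorem normal_cases {D : Subgroup X} (hD : D ≤ Y) (hn : ∀ y ∈ Y, ∀ d ∈ D, y * d * y⁻¹ ∈ D) :
    oddGen Y ≤ D ∨ (D ≤ N ∧ T ⊓ D ≤ oTwo Y) := by
  have : Fact (Nat.Prime 2) := ⟨Nat.prime_two⟩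
  by_cases htop : D ⊔ T = Y
  · left
    refine (Subgroup.closure_le _).2 fun y ⟨hy, hyo⟩ => ?_
    have hTn : T ≤ Subgroup.normalizer (D : Set X) := fun t ht =>
      mem_normalizer_of_cj_eq (Subgroup.eq_of_le_of_card_ge
        (by rintro _ ⟨k, hk, rfl⟩; exact hn t (c.TY ht) k hk) (LocalEven.CD.card_cj t _).ge)
    have h1 : y ∈ ((D ⊔ T : Subgroup X) : Set X) := by rw [htop]; exact hy
    rw [Subgroup.coe_mul_of_right_le_normalizer_left _ _ hTn] at h1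
    obtain ⟨d, hd, t, ht, rfl⟩ := h1
    obtain ⟨k, hk⟩ := c.isPGroup ⟨t, ht⟩
    have hpow : ∀ i : ℕ, (d * t) ^ i * (t ^ i)⁻¹ ∈ D := by
      intro i
      induction i with
      | zero => simp [one_mem]
      | succ i ih =>
        have h3 : (d * t) ^ (i + 1) * (t ^ (i + 1))⁻¹ =
            d * (t * ((d * t) ^ i * (t ^ i)⁻¹) * t⁻¹) := by
          rw [pow_succ' (d * t), pow_succ' t]; group
        rw [h3]
        exact mul_mem hd (hn t (c.TY ht) _ ih)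
    refine mem_of_odd hyo (k := k) ?_
    have h4 := hpow (2 ^ k)
    rwa [show t ^ 2 ^ k = 1 from congrArg Subtype.val hk, inv_one, mul_one] at h4
  right
  have hDN : D ≤ N :=
    le_sup_left.trans (c.le_N_of_over le_sup_right (sup_le hD c.TY) htop)
  refine ⟨hDN, ?_⟩
  have hsyl : IsSylIn 2 (T ⊓ D) D := isSylIn_inf c.syl hD hn
  have hP : IsPGroup 2 ↥(T ⊓ D) := c.isPGroup.to_le inf_le_left
  set P := T ⊓ D
  set NP := Y ⊓ Subgroup.normalizer (P : Set X) with hNP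
  refine le_oTwo (inf_le_left.trans c.TY) ?_ hP
  suffices hall : NP = Y by
    intro y hy d hd
    have hy' : y ∈ NP := hall.symm ▸ hy
    exact ((Subgroup.mem_normalizer_iff.1 hy'.2) d).1 hd
  by_contra hne
  have hTNP : T ≤ NP := fun t ht => ⟨c.TY ht, mem_normalizer_of_cj_eq
    (Subgroup.eq_of_le_of_card_ge (by
      rintro _ ⟨d, hd, rfl⟩
      exact ⟨mul_mem (mul_mem ht hd.1) (T.inv_mem ht), hn t (c.TY ht) d hd.2⟩)
      (LocalEven.CD.card_cj t _).ge)⟩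
  have hN := c.le_N_of_over hTNP inf_le_left hne
  refine c.notle fun y hy => ?_
  obtain ⟨d, hd, hdP⟩ := hsyl.exists_conj_le (hP.map (MulAut.conj y).toMonoidHom)
    (by rintro _ ⟨z, hz, rfl⟩; exact hn y hy z hz.2)
  have h5 : d * y ∈ NP := ⟨mul_mem (hD hd) hy, mem_normalizer_of_cj_eq
    (Subgroup.eq_of_le_of_card_ge (by
      rintro _ ⟨z, hz, rfl⟩
      show d * y * z * (d * y)⁻¹ ∈ P
      have := hdP _ ⟨z, hz, rfl⟩
      simpa [mul_assoc] using this) (LocalEven.CD.card_cj _ _).ge)⟩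
  have := mul_mem (inv_mem (hDN hd)) (hN h5)
  rwa [inv_mul_cancel_left] at this

/-- Some offender of `T` is not in `O₂(Y)`. -/
theorem exists_off : ∃ A, Min ρ A ∧ A ≤ T ∧ ¬ A ≤ oTwo Y := by
  by_contra h
  push Not at h
  refine c.notle fun y hy => c.nJ ⟨hy, ?_⟩
  have e : offJ ρ T = offJ ρ (oTwo Y) :=
    le_antisymm (sSup_le fun A hA => le_offJ (h A hA.2 hA.1) hA.2)
      (sSup_le fun A hA => le_offJ (hA.1.trans c.oTwo_le_T) hA.2)
  rw [e]
  exact normalizer_le_normalizer_offJ _ (mem_normalizer_of_cj_eq (cj_oTwo Y hy))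

/-- Normalizers of subgroups of `T` carrying an offender outside `O₂(Y)` lie in `N`. -/
theorem normalizer_le : ∀ H : Subgroup X, H ≤ T →
    (∃ A, A ≤ H ∧ Min ρ A ∧ ¬ A ≤ oTwo Y) → Y ⊓ Subgroup.normalizer (H : Set X) ≤ N := by
  have : Fact (Nat.Prime 2) := ⟨Nat.prime_two⟩
  by_contra hcon
  push Not at hcon
  let P : Subgroup X → Prop := fun H => H ≤ T ∧ (∃ A, A ≤ H ∧ Min ρ A ∧ ¬ A ≤ oTwo Y) ∧
    ¬ Y ⊓ Subgroup.normalizer (H : Set X) ≤ N
  have hne : {H | P H}.Nonempty := by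
    obtain ⟨H, h1, h2, h3⟩ := hcon
    exact ⟨H, h1, h2, h3⟩
  obtain ⟨H, ⟨hHT, ⟨A, hAH, hA, hAR⟩, hHN⟩, hmax⟩ := Set.exists_max_image {H | P H}
    (fun H => Nat.card ↥(T ⊓ Subgroup.normalizer (H : Set X))) (Set.toFinite _) hne
  set Nn := Y ⊓ Subgroup.normalizer (H : Set X) with hNn
  set U := T ⊓ Subgroup.normalizer (H : Set X) with hU
  have hHU : H ≤ U := le_inf hHT Subgroup.le_normalizer
  have hUp : IsPGroup 2 U := c.isPGroup.to_le inf_le_left
  have hUNn : U ≤ Nn := inf_le_inf_right _ c.TY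
  have hNne : Nn ≠ Y := fun e => hAR (hAH.trans (le_oTwo (hHT.trans c.TY) (fun y hy d hd =>
    ((Subgroup.mem_normalizer_iff.1 (show y ∈ Nn from e.symm ▸ hy).2) d).1 hd)
    (c.isPGroup.to_le hHT)))
  have hUT : U < T := lt_of_le_of_ne inf_le_left fun e =>
    hHN (c.le_N_of_over (e ▸ hUNn) inf_le_left hNne)
  have hbig : ∀ H' : Subgroup X, U < T ⊓ Subgroup.normalizer (H' : Set X) → ¬ P H' :=
    fun H' hlt hP => (hmax H' hP).not_gt
      (card_lt_of_lt hlt)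
  have hsylM : IsSylIn 2 T (Y ⊓ N) :=
    ⟨le_inf c.TY c.TN, c.isPGroup, fun C hC hle hCM => c.syl.2.2 C hC hle (hCM.trans inf_le_left)⟩
  have hsylNM : ∀ C : Subgroup X, IsPGroup 2 C → U ≤ C → C ≤ Nn → C ≤ N → C = U := by
    intro C hC hUC hCN hCM
    by_contra hne'
    obtain ⟨m, hm, hmC⟩ := hsylM.exists_conj_le hC (le_inf (hCN.trans inf_le_left) hCM)
    refine (hmax (cj m H) ⟨?_, ⟨cj m A, LocalEven.CD.cj_mono m hAH, hA.conj m, ?_⟩, ?_⟩).not_gt ?_
    · rintro _ ⟨h, hh, rfl⟩; exact hmC h (hUC (hHU hh))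
    · intro h
      refine hAR fun a ha => ?_
      have := mem_cj'.1 (show m * a * m⁻¹ ∈ cj m (oTwo Y) by
        rw [cj_oTwo Y hm.1]; exact h ⟨a, ha, rfl⟩)
      simpa [mul_assoc] using this
    · intro h
      refine hHN fun n hn => ?_
      have h1 : m * n * m⁻¹ ∈ Y ⊓ Subgroup.normalizer (cj m H : Set X) := by
        refine ⟨mul_mem (mul_mem hm.1 hn.1) (Y.inv_mem hm.1), mem_normalizer_of_cj_eq ?_⟩
        rw [LocalEven.CD.cj_cj, show m * n * m⁻¹ * m = m * n by group, ← LocalEven.CD.cj_cj,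
          LocalEven.CD.cj_eq_of_mem_normalizer hn.2]
      have := N.mul_mem (N.mul_mem (N.inv_mem hm.2) (h h1)) hm.2
      simpa [mul_assoc] using this
    · refine (card_lt_of_lt (lt_of_le_of_ne hUC (Ne.symm hne'))).trans_le ?_
      rw [← LocalEven.CD.card_cj m C]
      refine Subgroup.card_le_of_le (le_inf ?_ ?_)
      · rintro _ ⟨h, hh, rfl⟩; exact hmC h hh
      · rintro _ ⟨h, hh, rfl⟩
        refine mem_normalizer_of_cj_eq ?_
        show cj (m * h * m⁻¹) (cj m H) = _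
        rw [LocalEven.CD.cj_cj, show m * h * m⁻¹ * m = m * h by group, ← LocalEven.CD.cj_cj,
          LocalEven.CD.cj_eq_of_mem_normalizer (hCN hh).2]
  have hsyl : IsSylIn 2 U Nn := by
    by_contra h
    obtain ⟨b, hbN, hbU, hbn, k, hk⟩ := exists_normalizing hUNn hUp h
    have hbM : b ∈ N := by
      by_contra hbM
      exact hbig U (lt_inf_normalizer c.isPGroup hUT)
        ⟨inf_le_left, ⟨A, hAH.trans hHU, hA, hAR⟩, fun h' => hbM (h' ⟨hbN.1, hbn⟩)⟩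
    have hzp : IsPGroup 2 (Subgroup.zpowers b) := by
      obtain ⟨j, -, hj⟩ := (Nat.dvd_prime_pow Nat.prime_two).1 (orderOf_dvd_of_pow_eq_one hk)
      exact IsPGroup.iff_card.2 ⟨j, by rw [Nat.card_zpowers, hj]⟩
    have hC : U ⊔ Subgroup.zpowers b = U := hsylNM _
      (IsPGroup.to_sup_of_normal_left' hUp hzp (Subgroup.zpowers_le.2 hbn)) le_sup_left
      (sup_le hUNn (Subgroup.zpowers_le.2 hbN))
      (sup_le (inf_le_left.trans c.TN) (Subgroup.zpowers_le.2 hbM))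
    exact hbU (hC.le (Subgroup.mem_sup_right (Subgroup.mem_zpowers b)))
  refine c.minimal Nn (lt_of_le_of_ne inf_le_left hNne) hHN U hsyl (inf_le_left.trans c.TN) ?_
  by_contra h
  refine hbig (offJ ρ U) ((lt_inf_normalizer c.isPGroup hUT).trans_le
    (inf_le_inf_left _ (normalizer_le_normalizer_offJ U)))
    ⟨(offJ_le ρ U).trans inf_le_left, ⟨A, le_offJ (hAH.trans hHU) hA, hA, hAR⟩,
      fun h' => h ((inf_le_inf_right _ inf_le_left).trans h')⟩

/-- An offender outside `O₂(Y)` lies in no other conjugate of `Y ⊓ N`. -/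
theorem not_le_conj {A : Subgroup X} (hA : Min ρ A) (hAT : A ≤ T) (hAR : ¬ A ≤ oTwo Y) {g : X}
    (hgY : g ∈ Y) (hg : g ∉ N) : ¬ A ≤ cj g N := by
  intro hAg
  have : Fact (Nat.Prime 2) := ⟨Nat.prime_two⟩
  set M := Y ⊓ N with hM
  have hTM : T ≤ M := le_inf c.TY c.TN
  have hAgM : A ≤ cj g M := fun a ha => mem_cj'.2
    ⟨mul_mem (mul_mem (Y.inv_mem hgY) (c.TY (hAT ha))) hgY, mem_cj'.1 (hAg ha)⟩
  let S : Set X := {g | g ∈ Y ∧ g ∉ N ∧ ∃ A, Min ρ A ∧ A ≤ T ∧ ¬ A ≤ oTwo Y ∧ A ≤ cj g M}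
  obtain ⟨g, ⟨hgY, hg, A, hA, hAT, hAR, hAg⟩, hmax⟩ := Set.exists_max_image S
    (fun g => Nat.card ↥(T ⊓ cj g M)) (Set.toFinite _) ⟨g, hgY, hg, A, hA, hAT, hAR, hAgM⟩
  set T₁ := T ⊓ cj g M with hT₁
  have hAT₁ : A ≤ T₁ := le_inf hAT hAg
  have hsylM : IsSylIn 2 T M :=
    ⟨hTM, c.isPGroup, fun C hC hle hCM => c.syl.2.2 C hC hle (hCM.trans inf_le_left)⟩
  have hTN := c.normalizer_le T₁ inf_le_left ⟨A, hAT₁, hA, hAR⟩
  have hTp : IsPGroup 2 T₁ := c.isPGroup.to_le inf_le_left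
  obtain ⟨m, hm, hmT⟩ := hsylM.exists_conj_le (hTp.map (MulAut.conj g⁻¹).toMonoidHom) (by
    rintro _ ⟨t, ht, rfl⟩
    have := mem_cj'.1 ht.2
    simpa [mul_assoc] using this)
  set d := g * m⁻¹ with hd
  have hdY : d ∈ Y := mul_mem hgY (inv_mem hm.1)
  have hdN : d ∉ N := fun h => hg (by simpa [hd] using N.mul_mem h hm.2)
  have hdg : cj d M = cj g M := by
    rw [hd, ← LocalEven.CD.cj_cj, cj_of_mem' (M.inv_mem hm)]
  set Q := cj d T with hQ
  have hQp : IsPGroup 2 Q := c.isPGroup.map _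
  have hTQ : T₁ ≤ Q := by
    intro t ht
    refine mem_cj'.2 ?_
    have := hmT _ ⟨t, ht, rfl⟩
    simpa [hd, mul_assoc] using this
  have hQM : Q ≤ cj g M := hdg ▸ LocalEven.CD.cj_mono d hTM
  have hlt : T₁ < Q := by
    refine lt_of_le_of_ne hTQ fun e => hdN ?_
    have hTS : T₁ = T := Subgroup.eq_of_le_of_card_ge inf_le_left
      (le_of_eq (by rw [e, hQ, LocalEven.CD.card_cj]))
    refine c.normalizer_le T le_rfl ⟨A, hAT, hA, hAR⟩ ⟨hdY, mem_normalizer_of_cj_eq ?_⟩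
    rw [← hQ, ← e, hTS]
  set T₂ := Q ⊓ Subgroup.normalizer (T₁ : Set X) with hT₂
  have hlt2 : T₁ < T₂ := lt_inf_normalizer hQp hlt
  have hQY : Q ≤ Y := fun x hx => by
    have h := mem_cj'.1 hx
    have := mul_mem (mul_mem hdY (c.TY h)) (inv_mem hdY)
    simpa [mul_assoc] using this
  obtain ⟨n, hn, hnT⟩ := hsylM.exists_conj_le (hQp.to_le inf_le_left)
    (le_inf (inf_le_left.trans hQY) (fun x hx => hTN ⟨hQY hx.1, hx.2⟩) : T₂ ≤ M)
  refine (hmax (n * g) ⟨mul_mem hn.1 hgY,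
    fun h => hg (by simpa [mul_assoc] using N.mul_mem (N.inv_mem hn.2) h),
    cj n A, hA.conj n, ?_, ?_, ?_⟩).not_gt ?_
  · rintro _ ⟨a, ha, rfl⟩; exact hnT a (hlt2.le (hAT₁ ha))
  · intro h
    refine hAR fun a ha => ?_
    have := mem_cj'.1 (show n * a * n⁻¹ ∈ cj n (oTwo Y) by
      rw [cj_oTwo Y hn.1]; exact h ⟨a, ha, rfl⟩)
    simpa [mul_assoc] using this
  · rw [← LocalEven.CD.cj_cj]; exact LocalEven.CD.cj_mono n hAg
  · refine (card_lt_of_lt hlt2).trans_le ?_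
    rw [← LocalEven.CD.card_cj n T₂]
    refine Subgroup.card_le_of_le (le_inf ?_ ?_)
    · rintro _ ⟨t, ht, rfl⟩; exact hnT t ht
    · rw [← LocalEven.CD.cj_cj]; exact LocalEven.CD.cj_mono n (inf_le_left.trans hQM)

/-- A conjugate of an offender and an element outside its maximal subgroup generate `Y`. -/
theorem gen_eq {A : Subgroup X} (hA : Min ρ A) (hAT : A ≤ T) (hAR : ¬ A ≤ oTwo Y) {a h : X}
    (haY : a ∈ Y) (hhY : h ∈ Y) (ha : a ∉ cj h N) : Subgroup.zpowers a ⊔ cj h A = Y := by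
  have : Fact (Nat.Prime 2) := ⟨Nat.prime_two⟩
  by_contra hL
  set L := Subgroup.zpowers a ⊔ cj h A with hLdef
  have hLY : L ≤ Y := sup_le (Subgroup.zpowers_le.2 haY) (by
    rintro _ ⟨x, hx, rfl⟩; exact mul_mem (mul_mem hhY (c.TY (hAT hx))) (inv_mem hhY))
  obtain ⟨T₀, hT₀, hsyl⟩ := exists_isSylIn_of_isPGroup ((isPGroup_of_sq hA.sq).map _)
    (le_sup_right : cj h A ≤ L)
  obtain ⟨b, hb, hbT⟩ := c.syl.exists_conj_le hsyl.2.1 (hsyl.1.trans hLY)
  have hA'T : cj (b * h) A ≤ T := by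
    rw [← LocalEven.CD.cj_cj]
    rintro _ ⟨x, hx, rfl⟩
    exact hbT x (hT₀ hx)
  have hA'R : ¬ cj (b * h) A ≤ oTwo Y := fun hle => hAR fun x hx => by
    have := mem_cj'.1 (show b * h * x * (b * h)⁻¹ ∈ cj (b * h) (oTwo Y) by
      rw [cj_oTwo Y (mul_mem hb hhY)]; exact hle ⟨x, hx, rfl⟩)
    simpa [mul_assoc] using this
  have hbh : b * h ∈ N := by
    by_contra hne
    exact c.not_le_conj (hA.conj _) hA'T hA'R (mul_mem hb hhY) hne
      (LocalEven.CD.cj_mono _ (hAT.trans c.TN))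
  set L' := cj b L with hL'
  have hL'Y : L' ≤ Y := by
    rintro _ ⟨x, hx, rfl⟩; exact mul_mem (mul_mem hb (hLY hx)) (inv_mem hb)
  have hsyl' : IsSylIn 2 (cj b T₀) L' := ⟨LocalEven.CD.cj_mono b hsyl.1, hsyl.2.1.map _,
    fun C hC hle hCL => by
      have e : cj b (cj b⁻¹ C) = C := by
        rw [LocalEven.CD.cj_cj, mul_inv_cancel, LocalEven.CD.cj_one]
      rw [← e, hsyl.2.2 (cj b⁻¹ C) (hC.map _) ?_ ?_]
      · have := LocalEven.CD.cj_mono b⁻¹ hle
        rwa [LocalEven.CD.cj_cj, inv_mul_cancel, LocalEven.CD.cj_one] at this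
      · have := LocalEven.CD.cj_mono b⁻¹ hCL
        rwa [hL', LocalEven.CD.cj_cj, inv_mul_cancel, LocalEven.CD.cj_one] at this⟩
  have hL'ne : L' ≠ Y := fun e => hL (Subgroup.eq_of_le_of_card_ge hLY
    (by rw [← e, hL', LocalEven.CD.card_cj]))
  have hA'J : cj (b * h) A ≤ offJ ρ (cj b T₀) := le_offJ
    (by rw [← LocalEven.CD.cj_cj]; exact LocalEven.CD.cj_mono b hT₀) (hA.conj _)
  have hT'T : cj b T₀ ≤ T := by rintro _ ⟨x, hx, rfl⟩; exact hbT x hx
  have hN' : L' ⊓ Subgroup.normalizer (offJ ρ (cj b T₀) : Set X) ≤ N :=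
    (inf_le_inf_right _ hL'Y).trans
      (c.normalizer_le _ ((offJ_le ρ _).trans hT'T) ⟨_, hA'J, hA.conj _, hA'R⟩)
  have hL'N : L' ≤ N := by
    by_contra hne
    exact c.minimal L' (lt_of_le_of_ne hL'Y hL'ne) hne _ hsyl' (hT'T.trans c.TN) hN'
  refine ha (mem_cj'.2 ?_)
  have h1 : b * a * b⁻¹ ∈ N :=
    hL'N ⟨a, Subgroup.mem_sup_left (Subgroup.mem_zpowers a), rfl⟩
  have := N.mul_mem (N.mul_mem (N.inv_mem hbh) h1) hbh
  simpa [mul_assoc] using this

/-- An element of `T` outside `O₂(Y)` is outside some conjugate of `N`. -/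
theorem exists_not_mem {a : X} (haT : a ∈ T) (haR : a ∉ oTwo Y) : ∃ h ∈ Y, a ∉ cj h N := by
  by_contra hcon
  push Not at hcon
  let D : Subgroup X :=
    { carrier := {x | x ∈ Y ∧ ∀ h ∈ Y, h⁻¹ * x * h ∈ N}
      one_mem' := ⟨one_mem _, fun h _ => by simp [one_mem]⟩
      mul_mem' := fun {x y} hx hy => ⟨mul_mem hx.1 hy.1, fun h hh => by
        simpa [mul_assoc] using mul_mem (hx.2 h hh) (hy.2 h hh)⟩
      inv_mem' := fun {x} hx => ⟨inv_mem hx.1, fun h hh => by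
        simpa [mul_assoc] using inv_mem (hx.2 h hh)⟩ }
  rcases c.normal_cases (D := D) (fun x hx => hx.1)
    (fun y hy d hd => ⟨mul_mem (mul_mem hy hd.1) (inv_mem hy), fun h hh => by
      simpa [mul_assoc] using hd.2 (y⁻¹ * h) (mul_mem (inv_mem hy) hh)⟩) with h | ⟨-, h⟩
  · exact c.not_oddGen_le fun k hk => by simpa using (h hk).2 1 (one_mem _)
  · exact haR (h ⟨haT, c.TY haT, fun h hh => mem_cj'.1 (hcon h hh)⟩)

/-- Vectors fixed by an element and a conjugate offender generating `Y`. -/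
theorem mem_fixp_of_gen {A : Subgroup X} (hA : Min ρ A) (hAT : A ≤ T) (hAR : ¬ A ≤ oTwo Y)
    {a h : X} (haY : a ∈ Y) (hhY : h ∈ Y) (ha : a ∉ cj h N) {v : V} (h1 : ρ a v = v)
    (h2 : v ∈ fixp ρ (cj h A)) : v ∈ fixp ρ Y := by
  intro y hy
  rw [← c.gen_eq hA hAT hAR haY hhY ha] at hy
  let F : Subgroup X :=
    { carrier := {x | ρ x v = v}
      one_mem' := rho_one ρ v
      mul_mem' := fun {x y} hx hy => by
        show ρ (x * y) v = v
        rw [rho_mul, hy, hx]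
      inv_mem' := fun {x} hx => by
        show ρ x⁻¹ v = v
        conv_lhs => rw [← hx]
        exact rho_inv_self ρ x v }
  exact (sup_le (Subgroup.zpowers_le.2 (show a ∈ F from h1)) (fun x hx => h2 x hx) :
    Subgroup.zpowers a ⊔ cj h A ≤ F) hy

end Cnf

end CfsgLib.S4NoFF
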