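import Mathlib
import Cfsg.Prelude.Def_ConjugacyFunctors
import Cfsg.Prelude.Def_LocalEven
import Cfsg.Agent.Lib.PLocal.Thompson

/-!
# The symmetric group of degree four

In `S₄` the centre and the Thompson subgroup of a Sylow `2`-subgroup do not control fusion: both
normalisers equal the Sylow subgroup itself.
-/

set_option autoImplicit false
set_option linter.style.haveILetI false
set_option linter.unusedVariables false

namespace CfsgLib.S4NoFF

open Cfsg CfsgLib.PLocal Equiv

universe u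

/-- The central involution of the standard Sylow subgroup. -/
def zS : Perm (Fin 4) := swap 0 1 * swap 2 3

/-- The standard Sylow `2`-subgroup of `S₄`. -/
def dS : Subgroup (Perm (Fin 4)) := Subgroup.centralizer {zS}

theorem mem_dS {x : Perm (Fin 4)} : x ∈ dS ↔ x * zS = zS * x := by
  rw [dS, Subgroup.mem_centralizer_iff]
  simp [eq_comm]

theorem card_dS : Nat.card dS = 8 := by
  classical
  rw [Nat.card_congr (Equiv.subtypeEquivRight (fun x => mem_dS (x := x)) :
    (dS : Subgroup (Perm (Fin 4))) ≃ {x : Perm (Fin 4) // x * zS = zS * x}),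
    Nat.card_eq_fintype_card]
  decide

theorem dS_eq_of_central : ∀ w : Perm (Fin 4), w * zS = zS * w →
    (∀ x : Perm (Fin 4), x * zS = zS * x → x * w = w * x) → w = 1 ∨ w = zS := by
  unfold zS; decide

theorem dS_self_normalizing : ∀ n : Perm (Fin 4),
    n * swap 0 1 * n⁻¹ * zS = zS * (n * swap 0 1 * n⁻¹) →
    n * (swap 0 2 * swap 1 3) * n⁻¹ * zS = zS * (n * (swap 0 2 * swap 1 3) * n⁻¹) →
    n * zS * n⁻¹ * zS = zS * (n * zS * n⁻¹) → n * zS = zS * n := by
  unfold zS; decide

set_option synthInstance.maxSize 1000 in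
theorem dS_four (x : Perm (Fin 4)) (hx : x = swap 0 1 ∨ x = swap 0 2 * swap 1 3) :
    x * zS = zS * x ∧
      (∀ a b : Perm (Fin 4), a * zS = zS * a → a * x = x * a → b * zS = zS * b →
        b * x = x * b → a * a = 1 ∧ a * b = b * a) ∧
      Fintype.card {a : Perm (Fin 4) // a * zS = zS * a ∧ a * x = x * a} = 4 := by
  rcases hx with rfl | rfl <;> refine ⟨?_, ?_, ?_⟩
  all_goals decide

theorem dS_nonab : swap 0 1 * (swap 0 2 * swap 1 3 : Perm (Fin 4)) ≠
    swap 0 2 * swap 1 3 * swap 0 1 := by decide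

section Transfer

variable {Y : Type u} [Group Y] [Finite Y]

omit [Finite Y] in
/-- An isomorphism with `S₄` taking a given Sylow `2`-subgroup to the standard one. -/
theorem exists_equiv_dS (e : Y ≃* Perm (Fin 4)) {T : Subgroup Y} (hT : IsPGroup 2 T)
    (hodd : ¬ 2 ∣ T.relIndex ⊤) :
    ∃ e' : Y ≃* Perm (Fin 4), T.map e'.toMonoidHom = dS := by
  haveI : Fact (Nat.Prime 2) := ⟨Nat.prime_two⟩
  have hT' : IsPGroup 2 (T.map e.toMonoidHom) := hT.map _
  rw [Subgroup.relIndex_top_right, ← Subgroup.index_map_equiv T e] at hodd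
  have hcard : Nat.card (T.map e.toMonoidHom) = 8 := by
    obtain ⟨k, hk⟩ := IsPGroup.iff_card.1 hT'
    have h := Subgroup.card_mul_index (T.map e.toMonoidHom)
    rw [hk, show Nat.card (Perm (Fin 4)) = 2 ^ 3 * 3 by
      rw [Nat.card_perm, Nat.card_fin]; rfl] at h
    have hk3 : 2 ^ k ∣ 2 ^ 3 :=
      (Nat.Coprime.dvd_of_dvd_mul_right (Nat.Coprime.pow_left k (by norm_num)) ⟨_, h.symm⟩)
    have h3k : 2 ^ 3 ∣ 2 ^ k :=
      (Nat.Coprime.dvd_of_dvd_mul_right
        (Nat.Coprime.pow_left 3 ((Nat.Prime.coprime_iff_not_dvd Nat.prime_two).2 hodd))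
        ⟨3, h⟩)
    rw [hk]
    exact Nat.dvd_antisymm hk3 h3k
  have hd : IsPGroup 2 dS := IsPGroup.of_card (n := 3) (by rw [card_dS]; rfl)
  obtain ⟨S, hS⟩ := hT'.exists_le_sylow
  obtain ⟨S', hS'⟩ := hd.exists_le_sylow
  have hS8 : ∀ P : Sylow 2 (Perm (Fin 4)), Nat.card P = 8 := fun P => by
    rw [P.card_eq_multiplicity, Nat.card_perm, Nat.card_fin]
    rw [show Nat.factorization (Nat.factorial 4) 2 = 3 by
      rw [show Nat.factorial 4 = 2 ^ 3 * 3 by rfl, Nat.factorization_mul (by norm_num) (by norm_num),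
        Finsupp.add_apply, Nat.Prime.factorization_pow Nat.prime_two, Finsupp.single_eq_same,
        Nat.factorization_eq_zero_of_not_dvd (by norm_num : ¬ 2 ∣ 3)]]
    rfl
  have eS : T.map e.toMonoidHom = (S : Subgroup (Perm (Fin 4))) :=
    Subgroup.eq_of_le_of_card_ge hS (by rw [hcard, hS8])
  have eS' : dS = (S' : Subgroup (Perm (Fin 4))) :=
    Subgroup.eq_of_le_of_card_ge hS' (by rw [card_dS, hS8])
  obtain ⟨g, hg⟩ := MulAction.exists_smul_eq (Perm (Fin 4)) S S'
  refine ⟨e.trans (MulAut.conj g), ?_⟩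
  rw [show (e.trans (MulAut.conj g)).toMonoidHom = (MulAut.conj g).toMonoidHom.comp e.toMonoidHom
    from rfl, ← Subgroup.map_map, eS, eS', ← hg, Sylow.coe_subgroup_smul,
    CfsgLib.Base.map_conj_eq_smul]

/-- **In `S₄` the pair does not control fusion.** -/
theorem not_control_perm_four (e : Y ≃* Perm (Fin 4)) :
    ¬ FamilyControlsStrongFusionIn 2
      ({fun P : Subgroup Y => P ⊓ Subgroup.centralizer (P : Set Y),
        fun P : Subgroup Y => thompsonSubgroupOf 2 P} : Set (Subgroup Y → Subgroup Y)) ⊤ := by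
  rintro ⟨T, -, hT, hodd, hctl⟩
  obtain ⟨f, hf⟩ := exists_equiv_dS e hT hodd
  have hmem : ∀ y, y ∈ T ↔ f y * zS = zS * f y := fun y => by
    rw [← mem_dS, ← hf]
    exact ⟨fun h => ⟨y, h, rfl⟩, fun ⟨x, hx, h⟩ => f.injective h ▸ hx⟩
  have hmem' : ∀ w : Perm (Fin 4), w * zS = zS * w → f.symm w ∈ T := fun w hw => by
    rw [hmem, f.apply_symm_apply]; exact hw
  set z := f.symm zS with hz
  have hzT : z ∈ T := hmem' _ rfl
  have hZ : ∀ n ∈ Subgroup.normalizer ((T ⊓ Subgroup.centralizer (T : Set Y) : Subgroup Y) : Set Y),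
      n ∈ T := by
    intro n hn
    have h1 : z ∈ T ⊓ Subgroup.centralizer (T : Set Y) := by
      refine ⟨hzT, fun t ht => f.injective ?_⟩
      rw [map_mul, map_mul, hz, f.apply_symm_apply]
      exact (hmem t).1 ht
    have h2 := (Subgroup.mem_normalizer_iff.1 hn z).1 h1
    have h3 : f (n * z * n⁻¹) = 1 ∨ f (n * z * n⁻¹) = zS :=
      dS_eq_of_central _ ((hmem _).1 h2.1) fun x hx => by
        have := congrArg f (Subgroup.mem_centralizer_iff.1 h2.2 _ (hmem' x hx))
        rwa [map_mul f (f.symm x), map_mul f _ (f.symm x), f.apply_symm_apply] at this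
    have h4 : f (n * z * n⁻¹) = f n * zS * (f n)⁻¹ := by
      rw [map_mul, map_mul, map_inv, hz, f.apply_symm_apply]
    rw [h4] at h3
    rw [hmem]
    rcases h3 with h3 | h3
    · exact absurd (conj_eq_one_iff.1 h3) (by unfold zS; decide)
    · exact mul_inv_eq_iff_eq_mul.1 h3
  have hTab : ¬ IsElementaryAbelian 2 T := fun h => dS_nonab (by
    have hc := congrArg Subtype.val (h.1.is_comm.comm
      (⟨_, hmem' (swap 0 1) (by unfold zS; decide)⟩ : T)
      ⟨_, hmem' (swap 0 2 * swap 1 3) (by unfold zS; decide)⟩)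
    have := congrArg f hc
    simpa [map_mul] using this)
  have hTcard : Nat.card T = 8 := by
    rw [← card_dS, ← hf]
    exact (Nat.card_congr (T.equivMapOfInjective f.toMonoidHom f.injective).toEquiv)
  have hJ : ∀ x : Perm (Fin 4), x = swap 0 1 ∨ x = swap 0 2 * swap 1 3 →
      f.symm x ∈ thompsonSubgroupOf 2 T := by
    intro x hx
    obtain ⟨hxz, hel, hcard⟩ := dS_four x hx
    set A := T ⊓ Subgroup.centralizer ({f.symm x} : Set Y) with hA
    have hmA : ∀ a, a ∈ A ↔ f a * zS = zS * f a ∧ f a * x = x * f a := fun a => by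
      rw [hA, Subgroup.mem_inf, hmem, Subgroup.mem_centralizer_iff]
      simp only [Set.mem_singleton_iff, forall_eq]
      refine and_congr_right fun _ => ⟨fun h => ?_, fun h => f.injective ?_⟩
      · have := congrArg f h
        rw [map_mul, map_mul, f.apply_symm_apply] at this
        exact this.symm
      · rw [map_mul, map_mul, f.apply_symm_apply]; exact h.symm
    have hAel : IsElementaryAbelian 2 A := by
      refine ⟨⟨⟨fun a b => Subtype.ext (f.injective ?_)⟩⟩, fun a ha => f.injective ?_⟩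
      · obtain ⟨ha, ha'⟩ := (hmA _).1 a.2
        obtain ⟨hb, hb'⟩ := (hmA _).1 b.2
        simpa [map_mul] using (hel _ _ ha ha' hb hb').2
      · obtain ⟨ha, ha'⟩ := (hmA _).1 ha
        rw [sq, map_mul, map_one]
        exact (hel _ _ ha ha' ha ha').1
    have hA4 : Nat.card A = 4 := by
      rw [← hcard, ← Nat.card_eq_fintype_card]
      exact Nat.card_congr ((Equiv.subtypeEquivRight hmA).trans (f.toEquiv.subtypeEquiv fun _ => Iff.rfl))
    have hAmax : A ∈ maxEAOf 2 T := by
      refine ⟨inf_le_left, hAel, fun B hB hBe => ?_⟩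
      have hdvd : Nat.card B ∣ 8 := hTcard ▸ Subgroup.card_dvd_of_le hB
      by_contra hlt
      have hB8 : Nat.card B = 8 := by
        have h8 := Nat.le_of_dvd (by norm_num) hdvd
        rw [hA4] at hlt
        interval_cases h : Nat.card B <;> omega
      exact hTab (Subgroup.eq_of_le_of_card_ge hB (by rw [hTcard, hB8]) ▸ hBe)
    exact le_thompsonSubgroupOf hAmax ((hmA _).2 ⟨by rw [f.apply_symm_apply]; exact hxz,
      by rw [f.apply_symm_apply]⟩)
  have hW : ∀ n ∈ Subgroup.normalizer ((thompsonSubgroupOf 2 T : Subgroup Y) : Set Y), n ∈ T := by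
    intro n hn
    have key : ∀ x, f.symm x ∈ thompsonSubgroupOf 2 T →
        f n * x * (f n)⁻¹ * zS = zS * (f n * x * (f n)⁻¹) := by
      intro x hx
      have := (hmem _).1 (thompsonSubgroupOf_le 2 T ((Subgroup.mem_normalizer_iff.1 hn _).1 hx))
      rwa [map_mul, map_mul, map_inv, f.apply_symm_apply] at this
    rw [hmem]
    refine dS_self_normalizing _ (key _ (hJ _ (Or.inl rfl))) (key _ (hJ _ (Or.inr rfl))) ?_
    have hz2 : zS = swap 0 1 * ((swap 0 2 * swap 1 3) * swap 0 1 * (swap 0 2 * swap 1 3)⁻¹) := by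
      unfold zS; decide
    refine key _ ?_
    rw [hz2, map_mul, map_mul, map_mul, map_inv]
    exact Subgroup.mul_mem _ (hJ _ (Or.inl rfl)) (Subgroup.mul_mem _ (Subgroup.mul_mem _
      (hJ _ (Or.inr rfl)) (hJ _ (Or.inl rfl))) (Subgroup.inv_mem _ (hJ _ (Or.inr rfl))))
  set h := f.symm (swap 1 2) with hh
  have hzS : zS ≠ swap 1 2 * zS * (swap 1 2)⁻¹ := by unfold zS; decide
  obtain ⟨n, c, hc0, hstep, -, hlast⟩ := hctl {z} h (Subgroup.mem_top h)
    (Set.singleton_subset_iff.2 hzT) (by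
      rintro _ ⟨a, ha, rfl⟩
      rw [Set.mem_singleton_iff.1 ha]
      show h * z * h⁻¹ ∈ T
      rw [hmem, map_mul, map_mul, map_inv, hh, hz, f.apply_symm_apply, f.apply_symm_apply]
      unfold zS; decide)
  have hcT : ∀ i, c i ∈ T := by
    intro i
    induction i using Fin.induction with
    | zero => rw [hc0]; exact T.one_mem
    | succ i ih =>
      obtain ⟨W, hW', hmem''⟩ := hstep i
      have hs : c i.succ * (c i.castSucc)⁻¹ ∈ T := by
        rcases hW' with rfl | rfl
        · exact hZ _ hmem''.2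
        · exact hW _ hmem''.2
      simpa using T.mul_mem hs ih
  have h1 := congrArg f (hlast z rfl)
  rw [map_mul, map_mul, map_mul, map_mul, map_inv, map_inv, hh, hz, f.apply_symm_apply,
    f.apply_symm_apply, (hmem _).1 (hcT (Fin.last n)), mul_inv_cancel_right] at h1
  exact hzS h1

end Transfer

/-- **The converse.** -/
theorem sFourFree_of_control {G : Type u} [Group G] [Finite G]
    (h : ∀ (K R : Subgroup G) [hR : (R.subgroupOf K).Normal], Cfsg.FamilyControlsStrongFusionIn 2
      ({fun P : Subgroup (↥K ⧸ R.subgroupOf K) => P ⊓ Subgroup.centralizer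
          ((P : Subgroup (↥K ⧸ R.subgroupOf K)) : Set (↥K ⧸ R.subgroupOf K)),
        fun P : Subgroup (↥K ⧸ R.subgroupOf K) => Cfsg.thompsonSubgroupOf 2 P} :
          Set (Subgroup (↥K ⧸ R.subgroupOf K) → Subgroup (↥K ⧸ R.subgroupOf K))) ⊤) :
    ¬ Cfsg.Involves (Equiv.Perm (Fin 4)) G := fun ⟨K, R, _, ⟨e⟩⟩ =>
  not_control_perm_four e (h K R)

end CfsgLib.S4NoFF
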