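import Cfsg.Agent.Lib.S4NoFF.Offender
import Cfsg.Agent.Lib.S4NoFF.Config

/-!
# An irreducible counterexample

The normal closure `W` of the fixed points of a Sylow subgroup in the normalizer of the join of the
offenders, and its stabiliser.
-/

set_option autoImplicit false
set_option linter.unusedSectionVars false

namespace CfsgLib.S4NoFF

open CfsgLib.LocalEven.CD (cj)

universe u

/-- Irreducibility. -/
def Irr {X : Type u} [Group X] {V : Type u} [AddCommGroup V] [Module (ZMod 2) V]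
    (ρ : Representation (ZMod 2) X V) : Prop :=
  ∀ U : Submodule (ZMod 2) V, Inv ρ ⊤ U → U = ⊥ ∨ U = ⊤

/-- What is left after the reductions. -/
def CoreStatement : Prop :=
  ∀ (X V : Type u) [Group X] [Finite X] [AddCommGroup V] [Module (ZMod 2) V] [Finite V]
    (ρ : Representation (ZMod 2) X V), Ctx ρ → Irr ρ → ∀ A : Subgroup X, ¬ Min ρ A

variable {X : Type u} [Group X] [Finite X] {V : Type u} [AddCommGroup V] [Module (ZMod 2) V]
  [Finite V] {ρ : Representation (ZMod 2) X V}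

/-- The data attached to a counterexample. -/
structure Base (ρ : Representation (ZMod 2) X V) (W : Submodule (ZMod 2) V) (N : Subgroup X) :
    Prop where
  ctx : Ctx ρ
  irr : Irr ρ
  fix_bot : fixp ρ (⊤ : Subgroup X) = ⊥
  stab : N = stabW ρ W
  W_ne : W ≠ ⊥
  proper : N ≠ ⊤
  off : ∀ A, Min ρ A → A ≤ N → W ≤ fixp ρ A
  o2W : ∀ D : Subgroup X, D ≤ N → (∀ y ∈ N, ∀ d ∈ D, y * d * y⁻¹ ∈ D) →
    (∀ d ∈ D, ∃ k : ℕ, TrivOn ρ (d ^ 2 ^ k) W ⊥) → ∀ d ∈ D, TrivOn ρ d W ⊥

/-- A counterexample gives a configuration. -/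
theorem exists_base (hc : Ctx ρ) (hirr : Irr ρ) {A₀ : Subgroup X} (hA₀ : Min ρ A₀) :
    ∃ (W : Submodule (ZMod 2) V) (N Y T : Subgroup X), Base ρ W N ∧ Cnf ρ N Y T := by
  classical
  have : Fact (Nat.Prime 2) := ⟨Nat.prime_two⟩
  obtain ⟨S, hS⟩ := (isPGroup_of_sq hA₀.sq).exists_le_sylow
  set J := offJ ρ (S : Subgroup X) with hJ
  set NJ := Subgroup.normalizer (J : Set X) with hNJ
  have hSNJ : (S : Subgroup X) ≤ NJ :=
    Subgroup.le_normalizer.trans (normalizer_le_normalizer_offJ _)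
  set Z := fixp ρ (S : Subgroup X) with hZ
  -- the normal closure of the fixed points
  let W : Submodule (ZMod 2) V := Submodule.span (ZMod 2) {w | ∃ n ∈ NJ, ∃ z ∈ Z, w = ρ n z}
  have hZW : Z ≤ W := fun z hz =>
    Submodule.subset_span ⟨1, one_mem _, z, hz, (rho_one ρ z).symm⟩
  have hWinv : ∀ n ∈ NJ, ∀ w ∈ W, ρ n w ∈ W := by
    intro n hn
    refine fun w hw => (Submodule.span_le (p := W.comap (ρ n))).2 ?_ hw
    rintro _ ⟨m, hm, z, hz, rfl⟩
    exact Submodule.subset_span ⟨n * m, mul_mem hn hm, z, hz, (rho_mul ρ n m z).symm⟩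
  have hWJ : W ≤ fixp ρ J := Submodule.span_le.2 (by
    rintro _ ⟨n, hn, z, hz, rfl⟩
    refine inv_fixp (ρ := ρ) (Y := NJ) (D := J) (fun y hy d hd => ?_) n hn z
      (fixp_anti (offJ_le ρ _) hz)
    have := ((Subgroup.mem_normalizer_iff.1 (inv_mem hy)) d).1 hd
    simpa using this)
  set N := stabW ρ W with hN
  have hNJN : NJ ≤ N := fun n hn => hWinv n hn
  have hA₀J : A₀ ≤ J := le_offJ hS hA₀
  have hfix : fixp ρ (⊤ : Subgroup X) = ⊥ := by
    refine (hirr (fixp ρ (⊤ : Subgroup X)) fun x _ v (hv : v ∈ fixp ρ (⊤ : Subgroup X)) y _ =>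
      ?_).resolve_right fun e => hA₀.ne_bot
      ((Subgroup.eq_bot_iff_forall _).2 fun a _ => hc.inj a (LinearMap.ext fun v => ?_))
    · rw [hv x trivial, hv y trivial]
    · exact (show v ∈ fixp ρ (⊤ : Subgroup X) by rw [e]; trivial) a trivial
  have hWne : W ≠ ⊥ := by
    intro e
    have hV : (⊤ : Submodule (ZMod 2) V) ≠ ⊥ := fun e' => hA₀.ne_bot
      ((Subgroup.eq_bot_iff_forall _).2 fun a _ => hc.inj a (LinearMap.ext fun v => by
        have : v ∈ (⊥ : Submodule (ZMod 2) V) := e' ▸ trivial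
        rw [Submodule.mem_bot] at this
        simp [this]))
    obtain ⟨w, -, hw0, hw⟩ := exists_fixed (ρ := ρ) (D := (S : Subgroup X)) hV (inv_top _)
      fun d hd => by
        obtain ⟨k, hk⟩ := S.2 ⟨d, hd⟩
        exact ⟨k, fun w _ => by rw [show d ^ 2 ^ k = 1 from congrArg Subtype.val hk, rho_one]⟩
    exact hw0 (by
      have := hZW (show w ∈ Z from hw)
      rwa [e, Submodule.mem_bot] at this)
  have hproper : N ≠ ⊤ := by
    intro e
    rcases hirr W fun x _ w hw => (show x ∈ N by rw [e]; trivial) w hw with h | h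
    · exact hWne h
    · refine hA₀.ne_bot ((Subgroup.eq_bot_iff_forall _).2 fun a ha =>
        hc.inj a (LinearMap.ext fun v => ?_))
      exact hWJ (h ▸ trivial) a (hA₀J ha)
  have hSN : (S : Subgroup X) ≤ N := hSNJ.trans hNJN
  have ho2 : ∀ D : Subgroup X, D ≤ N → (∀ y ∈ N, ∀ d ∈ D, y * d * y⁻¹ ∈ D) →
      (∀ d ∈ D, ∃ k : ℕ, TrivOn ρ (d ^ 2 ^ k) W ⊥) → ∀ d ∈ D, TrivOn ρ d W ⊥ := by
    intro D hDN hDn hD2
    suffices h : W ≤ fixp ρ D from fun d hd w hw => by
      rw [h hw d hd, sub_self]; exact zero_mem _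
    set C : Subgroup X :=
      { carrier := {x | x ∈ D ∧ ∀ w ∈ W, ρ x w = w}
        one_mem' := ⟨one_mem _, fun w _ => rho_one ρ w⟩
        mul_mem' := fun {x y} hx hy => ⟨mul_mem hx.1 hy.1, fun w hw => by
          rw [rho_mul, hy.2 w hw, hx.2 w hw]⟩
        inv_mem' := fun {x} hx => ⟨inv_mem hx.1, fun w hw => by
          conv_lhs => rw [← hx.2 w hw]
          exact rho_inv_self ρ x w⟩ } with hC
    have hsyl : CfsgLib.Fusion.IsSylIn 2 ((S : Subgroup X) ⊓ D) D :=
      CfsgLib.Fusion.isSylIn_inf (⟨hSN, S.2, fun E hE hle _ => S.3 hE hle⟩ :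
        CfsgLib.Fusion.IsSylIn 2 (S : Subgroup X) N) hDN hDn
    -- every element of `D` is a product of an element of `C` and one of `S ⊓ D`
    have hCn : (C.subgroupOf D).Normal := ⟨fun x hx d => ⟨mul_mem (mul_mem d.2 hx.1) (inv_mem d.2),
      fun w hw => by
        show ρ ((d : X) * x * (d : X)⁻¹) w = w
        have hxw : ρ (x : X) (ρ (d : X)⁻¹ w) = ρ (d : X)⁻¹ w :=
          hx.2 _ ((hDN (inv_mem d.2)) w hw)
        rw [rho_mul, rho_mul, hxw, rho_self_inv]⟩⟩
    have hq : IsPGroup 2 (D ⧸ C.subgroupOf D) := fun q => by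
      obtain ⟨d, rfl⟩ := QuotientGroup.mk'_surjective _ q
      obtain ⟨k, hk⟩ := hD2 d d.2
      refine ⟨k, (QuotientGroup.eq_one_iff _).2 ⟨(d ^ 2 ^ k).2, fun w hw => ?_⟩⟩
      have := hk w hw
      rw [Submodule.mem_bot, sub_eq_zero] at this
      simpa using this
    obtain ⟨R, hR⟩ := (CfsgLib.Fusion.exists_sylow_iff inf_le_right).2 hsyl
    have htop : C.subgroupOf D ⊔ (R : Subgroup D) = ⊤ := by
      obtain ⟨k, hk⟩ := IsPGroup.iff_card.1 hq
      rw [← Subgroup.index_eq_one]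
      have h1 : (C.subgroupOf D ⊔ (R : Subgroup D)).index ∣ 2 ^ k := by
        rw [← hk, ← Subgroup.index_eq_card]
        exact Subgroup.index_dvd_of_le le_sup_left
      have h2 : (C.subgroupOf D ⊔ (R : Subgroup D)).index ∣ (R : Subgroup D).index :=
        Subgroup.index_dvd_of_le le_sup_right
      obtain ⟨j, -, hj⟩ := (Nat.dvd_prime_pow Nat.prime_two).1 h1
      rcases Nat.eq_zero_or_pos j with rfl | hj0
      · rw [hj, pow_zero]
      · exact absurd ((hj ▸ dvd_pow_self 2 hj0.ne' : 2 ∣ _).trans h2) R.not_dvd_index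
    have hZD : Z ≤ fixp ρ D := by
      intro z hz d hd
      let F : Subgroup D :=
        { carrier := {x | ρ (x : X) z = z}
          one_mem' := rho_one ρ z
          mul_mem' := fun {x y} hx hy => by
            show ρ ((x : X) * y) z = z
            rw [rho_mul, hy, hx]
          inv_mem' := fun {x} hx => by
            show ρ (x : X)⁻¹ z = z
            conv_lhs => rw [← hx]
            exact rho_inv_self ρ x z }
      have hle : C.subgroupOf D ⊔ (R : Subgroup D) ≤ F := sup_le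
        (fun x hx => hx.2 z (hZW hz)) (fun x hx => by
          rw [hR] at hx
          exact hz _ hx.1)
      exact hle (htop.ge (Subgroup.mem_top ⟨d, hd⟩))
    have hinv : Inv ρ N (fixp ρ D) := inv_fixp fun y hy d hd => by
      simpa using hDn y⁻¹ (inv_mem hy) d hd
    refine Submodule.span_le.2 ?_
    rintro _ ⟨n, hn, z, hz, rfl⟩
    exact hinv n (hNJN hn) z (hZD hz)
  refine ⟨W, N, ?_⟩
  obtain ⟨Y, T, hYT⟩ := exists_cnf (ρ := ρ) (N := N) (Y₀ := ⊤) (T₀ := (S : Subgroup X))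
    (fun h => hproper (eq_top_iff.2 h)) ⟨le_top, S.2, fun E hE hle _ => S.3 hE hle⟩ hSN
    (inf_le_right.trans hNJN)
  refine ⟨Y, T, ⟨hc, hirr, hfix, rfl, hWne, hproper, fun A hA hAN => ?_, ho2⟩, hYT⟩
  -- an offender inside `N` fixes `W`
  have key : ∀ a ∈ A, TrivOn ρ a W ⊥ := by
    refine hc.ind N W ⊥ (fun y hy w hw => hy w hw) (inv_bot N) bot_le (Or.inl hproper) ho2 A hAN
      (fun e he => by rw [hA.sq e he]; intro w _; rw [rho_one, sub_self]; exact zero_mem _)
      (W ⊓ fixp ρ A) bot_le inf_le_left (fun e he w hw => by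
        rw [hw.2 e he, sub_self]; exact zero_mem _) ?_
    refine le_trans (le_of_eq ?_) (hA.restrict W)
    congr 1
    refine Nat.card_congr ⟨fun e => ⟨e.1.1, e.1.2, fun g hg => sub_eq_zero.1
      ((Submodule.mem_bot _).1 (e.2 g hg))⟩, fun e => ⟨⟨e.1, e.2.1⟩, fun g hg =>
      (Submodule.mem_bot _).2 (sub_eq_zero.2 (e.2.2 g hg))⟩, fun _ => rfl, fun _ => rfl⟩
  intro w hw a ha
  exact sub_eq_zero.1 ((Submodule.mem_bot _).1 (key a ha w hw))

end CfsgLib.S4NoFF
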