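import Cfsg.Agent.Lib.S4NoFF.Statement
import Cfsg.Agent.Lib.LocalEven.S4FreeGeneration
import Cfsg.Agent.Lib.CharTransfer.WFun
import Cfsg.Agent.S1996

/-!
# Control of fusion in groups without section `S₄`

Given the offender statement `NoMinAll`, a group of characteristic two without section `S₄` is the
product of the normalisers of the centre and of the Thompson subgroup of a Sylow `2`-subgroup, and
so this pair of functors controls strong fusion in every section.
-/

set_option autoImplicit false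
set_option linter.unusedSectionVars false
set_option linter.style.haveILetI false
set_option linter.unusedVariables false

namespace CfsgLib.S4NoFF

open Cfsg CfsgLib.PLocal CfsgLib.LocalEven.S4F
open CfsgLib.LocalEven.CD (cen zOf)

universe u

variable {G : Type u} [Group G] [Finite G]

/-- Frattini for the intersection of a Sylow subgroup with a normal subgroup. -/
theorem sup_normalizer_inf_eq_top (S : Sylow 2 G) (K : Subgroup G) [K.Normal] :
    K ⊔ Subgroup.normalizer (((S : Subgroup G) ⊓ K : Subgroup G) : Set G) = ⊤ := by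
  haveI : Fact (Nat.Prime 2) := ⟨Nat.prime_two⟩
  have hsyl : CfsgLib.Fusion.IsSylIn 2 ((S : Subgroup G) ⊓ K) K := CfsgLib.Fusion.isSylIn_inf
    (⟨le_top, S.2, fun C hC hle _ => S.3 hC hle⟩ :
      CfsgLib.Fusion.IsSylIn 2 (S : Subgroup G) ⊤)
    le_top fun b _ n hn => ‹K.Normal›.conj_mem n hn b
  obtain ⟨Q, hQ⟩ := (CfsgLib.Fusion.exists_sylow_iff inf_le_right).2 hsyl
  have hfr := Sylow.normalizer_sup_eq_top Q
  rw [hQ, Subgroup.map_subgroupOf_eq_of_le inf_le_right, sup_comm] at hfr
  exact hfr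

/-- The Thompson subgroup is normalised by the normaliser of the subgroup. -/
theorem normalizer_le_normalizer_thompson (P : Subgroup G) :
    Subgroup.normalizer (P : Set G) ≤ Subgroup.normalizer (thompsonSubgroupOf 2 P : Set G) := by
  intro g hg
  refine Subgroup.mem_normalizer_iff_map_conj_eq.2 ?_
  have h := map_thompsonSubgroupOf (p := 2) (f := (MulAut.conj g).toMonoidHom)
    (MulAut.conj g).injective P
  have hh : P.map (MulAut.conj g).toMonoidHom = P := Subgroup.mem_normalizer_iff_map_conj_eq.1 hg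
  rw [hh] at h
  exact h

/-- An element of odd order centralising `Ω₁` of a normalised abelian `2`-group centralises it. -/
theorem fix_of_fix_omegaOne {Y : Subgroup G} (hY : IsPGroup 2 Y)
    (hc : ∀ a ∈ Y, ∀ b ∈ Y, a * b = b * a) {d : G} (hn : ∀ y ∈ Y, d * y * d⁻¹ ∈ Y)
    (hodd : Odd (orderOf d)) (hΩ : ∀ u ∈ Y, u ^ 2 = 1 → d * u * d⁻¹ = u) :
    ∀ y ∈ Y, d * y * d⁻¹ = y := by
  have key : ∀ j : ℕ, ∀ y ∈ Y, y ^ 2 ^ j = 1 → d * y * d⁻¹ = y := by
    intro j
    induction j with
    | zero => intro y _ h; simp at h; simp [h]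
    | succ j ih =>
      intro y hy h
      have hsq : d * y ^ 2 * d⁻¹ = y ^ 2 :=
        ih _ (Y.pow_mem hy 2) (by rw [← pow_mul, ← pow_succ']; exact h)
      set v := d * y * d⁻¹ * y⁻¹ with hv
      have hvY : v ∈ Y := Y.mul_mem (hn y hy) (Y.inv_mem hy)
      have hv2 : v ^ 2 = 1 := by
        have hcomm : Commute (d * y * d⁻¹) y⁻¹ := hc _ (hn y hy) _ (Y.inv_mem hy)
        rw [hv, hcomm.mul_pow, conj_pow, hsq, inv_pow, mul_inv_cancel]
      have hdv := hΩ v hvY hv2
      have hy1 : d * y * d⁻¹ = v * y := by rw [hv]; group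
      have hpow : ∀ m : ℕ, d ^ m * y * (d ^ m)⁻¹ = v ^ m * y := by
        intro m
        induction m with
        | zero => simp
        | succ m ihm =>
          have hvm : d * v ^ m * d⁻¹ = v ^ m := by rw [← conj_pow, hdv]
          calc d ^ (m + 1) * y * (d ^ (m + 1))⁻¹ = d * (d ^ m * y * (d ^ m)⁻¹) * d⁻¹ := by
                rw [pow_succ']; group
            _ = (d * v ^ m * d⁻¹) * (d * y * d⁻¹) := by rw [ihm]; group
            _ = v ^ (m + 1) * y := by rw [hvm, hy1, ← mul_assoc, ← pow_succ]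
      have h1 := hpow (orderOf d)
      rw [pow_orderOf_eq_one, one_mul, inv_one, mul_one] at h1
      have h2 : v ^ orderOf d = 1 := mul_eq_right.1 h1.symm
      obtain ⟨k, hk⟩ := hodd
      rw [hk, pow_succ, pow_mul, hv2, one_pow, one_mul] at h2
      rw [hy1, h2, one_mul]
  intro y hy
  obtain ⟨k, hk⟩ := hY ⟨y, hy⟩
  exact key k y hy (by simpa using congrArg Subtype.val hk)

/-- **The product**: `G = N(Z(S)) N(J(S))`. -/
theorem exists_mul_normalizers (hN : NoMinAll.{u}) (hS4 : ¬ InvHom (Equiv.Perm (Fin 4)) G)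
    (hc : Subgroup.centralizer (pCore 2 G : Set G) ≤ pCore 2 G) (S : Sylow 2 G) (x : G) :
    ∃ a ∈ Subgroup.normalizer (zOf (S : Subgroup G) : Set G),
      ∃ b ∈ Subgroup.normalizer (thompsonSubgroupOf 2 (S : Subgroup G) : Set G), x = a * b := by
  haveI : Fact (Nat.Prime 2) := ⟨Nat.prime_two⟩
  set Q := pCore 2 G with hQ
  haveI hQn : Q.Normal := inferInstance
  have hQS : Q ≤ (S : Subgroup G) := CfsgLib.Base.pCore_le_sylow S
  set Z := zOf (S : Subgroup G) with hZ
  have hZc : Z ≤ cen Q := inf_le_right.trans (Subgroup.centralizer_le hQS)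
  set Y := Subgroup.normalClosure (Z : Set G) with hYdef
  have hYn : Y.Normal := Subgroup.normalClosure_normal
  haveI hcQn : (cen Q).Normal := inferInstance
  have hYc : Y ≤ cen Q := Subgroup.normalClosure_le_normal hZc
  have hYQ : Y ≤ Q := hYc.trans hc
  have hYab : ∀ a ∈ Y, ∀ b ∈ Y, a * b = b * a := fun a ha b hb =>
    Subgroup.mem_centralizer_iff.1 (hYc hb) a (hYQ ha)
  have hY2 : IsPGroup 2 Y := S.2.to_le (hYQ.trans hQS)
  set C := cen Y with hCdef
  haveI hCn : C.Normal := inferInstance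
  have hCZ : C ≤ Subgroup.centralizer (Z : Set G) :=
    Subgroup.centralizer_le Subgroup.subset_normalClosure
  -- `O₂(G / C) = 1`
  have hO : ∀ D : Subgroup G, D.Normal → C ≤ D → (∃ k, C.relIndex D = 2 ^ k) → D = C := by
    rintro D hDn hCD ⟨k, hk⟩
    have hDS := le_sup_sylow S hDn hCD hk
    haveI := hDn
    set S₁ := (S : Subgroup G) ⊓ D
    have hD : D ≤ C ⊔ S₁ := by
      intro d hd
      obtain ⟨c, hc', s, hs, rfl⟩ := Subgroup.mem_sup_of_normal_left.1 (hDS hd)
      exact Subgroup.mul_mem_sup hc' ⟨hs, (D.mul_mem_cancel_left (hCD hc')).1 hd⟩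
    have htop : C ⊔ Subgroup.normalizer (S₁ : Set G) = ⊤ := by
      rw [eq_top_iff, ← sup_normalizer_inf_eq_top S D]
      exact sup_le (hD.trans (sup_le_sup_left Subgroup.le_normalizer _)) le_sup_right
    have hS₁ : S₁ ≤ C := by
      intro s hs
      rw [hCdef]
      have hset : ((Y : Subgroup G) : Set G) = Subgroup.closure (Group.conjugatesOfSet (Z : Set G)) :=
        rfl
      show s ∈ Subgroup.centralizer (Y : Set G)
      rw [hset, Subgroup.centralizer_closure]
      refine Subgroup.mem_centralizer_iff.2 fun w hw => ?_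
      obtain ⟨z, hz, hzw⟩ := Group.mem_conjugatesOfSet_iff.1 hw
      obtain ⟨g, rfl⟩ := isConj_iff.1 hzw
      obtain ⟨n, hn, c, hc', rfl⟩ :=
        Subgroup.mem_sup_of_normal_right.1 ((sup_comm C _ ▸ htop).ge (Subgroup.mem_top g))
      have h1 : n⁻¹ * s * n ∈ S₁ := by
        have := (Subgroup.mem_normalizer_iff.1 (inv_mem hn) s).1 hs
        simpa using this
      have h2 : (n⁻¹ * s * n) * z = z * (n⁻¹ * s * n) :=
        Subgroup.mem_centralizer_iff.1 hz.2 _ h1.1
      have h3 : c * z * c⁻¹ = z := by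
        rw [← Subgroup.mem_centralizer_iff.1 (hCZ hc') z hz, mul_inv_cancel_right]
      have h4 : n * c * z * (n * c)⁻¹ = n * z * n⁻¹ := by
        rw [show n * c * z * (n * c)⁻¹ = n * (c * z * c⁻¹) * n⁻¹ by group, h3]
      rw [h4, show n * z * n⁻¹ * s = n * (z * (n⁻¹ * s * n)) * n⁻¹ by group, ← h2]
      group
    exact le_antisymm (hD.trans (sup_le le_rfl hS₁)) hCD
  -- `U = Ω₁(Y)` has the same centraliser
  set U := omegaOne 2 Y with hUdef
  have hUY : U ≤ Y := omegaOne_le _ _
  haveI hUn : U.Normal := by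
    refine CfsgLib.Base.normal_of_map_conj_le fun g => ?_
    rw [Subgroup.map_le_iff_le_comap, hUdef, omegaOne, Subgroup.closure_le]
    intro y hy
    exact mem_omegaOne (hYn.conj_mem y hy.1 g) (by
      show (g * y * g⁻¹) ^ 2 = 1
      rw [conj_pow, hy.2, mul_one, mul_inv_cancel])
  have hUel : IsElementaryAbelian 2 U :=
    isElementaryAbelian_omegaOne (fun a ha => Subgroup.mem_centralizer_iff.2 fun b hb =>
      hYab b hb a ha)
  have hUC : cen U = C := by
    haveI hDn : (cen U).Normal := inferInstance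
    have hle : C ≤ cen U := Subgroup.centralizer_le hUY
    refine hO _ hDn hle ?_
    have hp : IsPGroup 2 ((cen U) ⧸ C.subgroupOf (cen U)) := by
      refine isPGroup_quot fun d hd hcop => Subgroup.mem_centralizer_iff.2 fun y hy => ?_
      have h := fix_of_fix_omegaOne hY2 hYab (fun w hw => hYn.conj_mem w hw d)
        (Nat.coprime_two_right.1 hcop) (fun v hv hv2 => by
          rw [← Subgroup.mem_centralizer_iff.1 hd v (mem_omegaOne hv hv2), mul_inv_cancel_right])
        y hy
      exact (mul_inv_eq_iff_eq_mul.1 h).symm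
    obtain ⟨k, hk⟩ := IsPGroup.iff_card.1 hp
    exact ⟨k, hk⟩
  have hJ : thompsonSubgroupOf 2 (S : Subgroup G) ≤ (S : Subgroup G) ⊓ cen U :=
    thompson_le_of hN hS4 hUn hUel (by rw [hUC]; exact hO) (hUY.trans (hYQ.trans hQS))
  have hJ' := thompsonSubgroupOf_eq_of_le hJ inf_le_left
  obtain ⟨c, hc', n, hn, rfl⟩ := Subgroup.mem_sup_of_normal_left.1
    ((sup_normalizer_inf_eq_top S (cen U)).ge (Subgroup.mem_top x))
  refine ⟨c, ?_, n, ?_, rfl⟩
  · refine Subgroup.mem_normalizer_iff.2 fun z => ?_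
    have hcz : ∀ w ∈ Z, c * w * c⁻¹ = w := fun w hw => by
      rw [← Subgroup.mem_centralizer_iff.1 (hCZ (hUC ▸ hc')) w hw, mul_inv_cancel_right]
    refine ⟨fun hz => (hcz z hz).symm ▸ hz, fun hz => ?_⟩
    have h : c * z * c⁻¹ = z := mul_left_cancel (mul_right_cancel (hcz _ hz))
    exact h ▸ hz
  · rw [← hJ']
    exact normalizer_le_normalizer_thompson _ hn

/-- The Thompson subgroup as an invariant functor. -/
theorem isCharPFunctor_thompsonSubgroup :
    IsCharPFunctor.{u} 2 (fun (Q : Type u) [Group Q] => thompsonSubgroup 2 Q) := by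
  haveI : Fact (Nat.Prime 2) := ⟨Nat.prime_two⟩
  refine ⟨fun Q _ _ hQ hnt h => ?_, fun Q R _ _ _ _ φ => map_thompsonSubgroup φ⟩
  haveI := hnt
  haveI := hQ.center_nontrivial
  obtain ⟨A, hA⟩ := maxEAOf_nonempty 2 (⊤ : Subgroup Q)
  have hle := omegaOne_center_le hA
  have hne := omegaOne_ne_bot (hQ.to_subgroup ((⊤ : Subgroup Q) ⊓ _))
    (show (⊤ : Subgroup Q) ⊓ Subgroup.centralizer ((⊤ : Subgroup Q) : Set Q) ≠ ⊥ by
      rw [top_inf_eq, Subgroup.coe_top, Subgroup.centralizer_univ]
      exact (Subgroup.nontrivial_iff_ne_bot _).1 ‹_›)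
  refine hne (le_bot_iff.1 (hle.trans ((le_sSup ?_).trans h.le)))
  rw [← maxEAOf_top]
  exact hA

/-- **The forward direction.** -/
theorem control_of_sFourFree (hN : NoMinAll.{u}) {G : Type u} [Group G] [Finite G]
    (h : ¬ Cfsg.Involves (Equiv.Perm (Fin 4)) G) :
    ∀ (K R : Subgroup G) [hR : (R.subgroupOf K).Normal], Cfsg.FamilyControlsStrongFusionIn 2
      ({fun P : Subgroup (↥K ⧸ R.subgroupOf K) => P ⊓ Subgroup.centralizer
          ((P : Subgroup (↥K ⧸ R.subgroupOf K)) : Set (↥K ⧸ R.subgroupOf K)),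
        fun P : Subgroup (↥K ⧸ R.subgroupOf K) => Cfsg.thompsonSubgroupOf 2 P} :
          Set (Subgroup (↥K ⧸ R.subgroupOf K) → Subgroup (↥K ⧸ R.subgroupOf K))) ⊤ := by
  intro K R hR
  haveI : Fact (Nat.Prime 2) := ⟨Nat.prime_two⟩
  have hY : ¬ InvHom (Equiv.Perm (Fin 4)) (↥K ⧸ R.subgroupOf K) := fun hi =>
    h (InvHom.of_subgroup
      (InvHom.of_surjective (QuotientGroup.mk' _) (QuotientGroup.mk'_surjective _) hi)).involves
  have hW : ∀ (P : Subgroup (↥K ⧸ R.subgroupOf K)),
      inducedFunctor (fun Q [Group Q] => CfsgLib.CharTransfer.centerFun Q) P = zOf P :=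
    CfsgLib.CharTransfer.inducedFunctor_center
  have key := Cfsg.Agent.S1996.result (G := ↥K ⧸ R.subgroupOf K) (p := 2)
    (fun Q [Group Q] => CfsgLib.CharTransfer.centerFun Q)
    (fun (Q : Type u) [Group Q] => thompsonSubgroup 2 Q)
    CfsgLib.CharTransfer.centerFun_isCharP isCharPFunctor_thompsonSubgroup ?_
  · have e1 : inducedFunctor (G := ↥K ⧸ R.subgroupOf K)
        (fun Q [Group Q] => CfsgLib.CharTransfer.centerFun Q) =
        fun P => P ⊓ Subgroup.centralizer (P : Set _) := funext hW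
    rw [e1] at key
    exact key
  intro K' R' hR' hc T x
  have hY' : ¬ InvHom (Equiv.Perm (Fin 4)) (↥K' ⧸ R'.subgroupOf K') := fun hi =>
    hY (InvHom.of_subgroup
      (InvHom.of_surjective (QuotientGroup.mk' _) (QuotientGroup.mk'_surjective _) hi))
  rw [CfsgLib.CharTransfer.inducedFunctor_center]
  exact exists_mul_normalizers hN hY' hc T x

end CfsgLib.S4NoFF
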