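import Cfsg.Agent.Lib.S4NoFF.Core
import Cfsg.Agent.Lib.PLocal.QdControl

/-!
# The reductions: faithful, minimal, irreducible

`NoOffender` follows by induction on `|X| + |V|` from the case of a minimal offender on a faithful
irreducible module whose proper sections have no offender.
-/

set_option autoImplicit false
set_option linter.style.haveILetI false
set_option linter.unusedSectionVars false

namespace CfsgLib.S4NoFF

universe u

variable {X : Type u} [Group X] [Finite X] {V : Type u} [AddCommGroup V] [Module (ZMod 2) V]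
  [Finite V]

/-- The statement for one bound on the size. -/
def NoOffUpTo (N : ℕ) : Prop :=
  ∀ (X V : Type u) [Group X] [Finite X] [AddCommGroup V] [Module (ZMod 2) V] [Finite V]
    (ρ : Representation (ZMod 2) X V), Nat.card X + Nat.card V < N →
    ¬ CfsgLib.PLocal.InvHom (Equiv.Perm (Fin 3)) X → O2Triv ρ →
    ∀ E : Subgroup X, IsOff ρ E → ∀ e ∈ E, ρ e = 1

theorem submodule_card_lt {U : Submodule (ZMod 2) V} (hU : U ≠ ⊤) : Nat.card U < Nat.card V := by
  rw [card_eq_two_pow (W := U), card_eq_two_pow (W := V)]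
  exact Nat.pow_lt_pow_right (by norm_num) (Submodule.finrank_lt hU)

theorem card_sub_mul {U₁ U₀ : Submodule (ZMod 2) V} (h : U₀ ≤ U₁) :
    Nat.card (↥U₁ ⧸ U₀.comap U₁.subtype) * Nat.card U₀ = Nat.card U₁ := by
  rw [Submodule.card_eq_card_quotient_mul_card (U₀.comap U₁.subtype), mul_comm]
  congr 1
  exact (Nat.card_congr (Submodule.comapSubtypeEquivOfLe h).toEquiv).symm

/-- The inductive hypothesis holds on proper sections. -/
theorem indHyp_of_upTo {ρ : Representation (ZMod 2) X V}
    (hS3 : ¬ CfsgLib.PLocal.InvHom (Equiv.Perm (Fin 3)) X)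
    (IH : NoOffUpTo.{u} (Nat.card X + Nat.card V)) : IndHyp ρ := by
  classical
  intro Y U₁ U₀ h1 h0 hle hprop ho2 E hEY hsq F hU0F hFU1 hFtriv hcard e he
  set Q := ↥U₁ ⧸ U₀.comap U₁.subtype
  haveI : Finite Q := Finite.of_surjective _ (Submodule.mkQ_surjective _)
  set σ : Representation (ZMod 2) Y Q := sectRep h1 h0 with hσ
  have hlt : Nat.card Y + Nat.card Q < Nat.card X + Nat.card V := by
    have hU1 : Nat.card U₁ ≤ Nat.card V := Nat.card_le_card_of_injective _ Subtype.val_injective
    have hQ := card_sub_mul hle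
    have hY : Nat.card Y ≤ Nat.card X := Nat.card_le_card_of_injective _ Subtype.val_injective
    have h0pos : 0 < Nat.card U₀ := Nat.card_pos
    have hQle : Nat.card Q ≤ Nat.card U₁ := by
      rw [← hQ]; exact Nat.le_mul_of_pos_right _ h0pos
    rcases hprop with hYne | hU1ne | hU0ne
    · have hYlt : Nat.card Y < Nat.card X :=
        lt_of_le_of_ne hY fun e' => hYne (Subgroup.eq_top_of_card_eq Y e')
      omega
    · have := submodule_card_lt hU1ne
      omega
    · have h2 : 2 ≤ Nat.card U₀ := by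
        haveI : Nontrivial U₀ := Submodule.nontrivial_iff_ne_bot.2 hU0ne
        exact Finite.one_lt_card
      have h3 : Nat.card Q * 2 ≤ Nat.card U₁ := by
        rw [← hQ]; exact Nat.mul_le_mul_left _ h2
      have hQpos : 0 < Nat.card Q := Nat.card_pos
      omega
  have hO2 : O2Triv σ := by
    intro D hD hpow d hd
    rw [sectRep_eq_one]
    refine ho2 (D.map Y.subtype) (Subgroup.map_subtype_le _) ?_ ?_ d ⟨d, hd, rfl⟩
    · rintro y hy _ ⟨d', hd', rfl⟩
      exact ⟨⟨y, hy⟩ * d' * ⟨y, hy⟩⁻¹, hD.conj_mem d' hd' _, rfl⟩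
    · rintro _ ⟨d', hd', rfl⟩
      obtain ⟨k, hk⟩ := hpow d' hd'
      refine ⟨k, ?_⟩
      have := (sectRep_eq_one h1 h0 (d' ^ 2 ^ k)).1 hk
      rwa [Subgroup.coe_pow] at this
  set E' := E.subgroupOf Y with hE'
  have hoff : IsOff σ E' := by
    refine ⟨fun e' he' => (sectRep_eq_one h1 h0 _).2 (hsq e' he'), ?_⟩
    set ψ := (MonoidHom.toHomUnits σ).comp (Subgroup.subtype E') with hψ
    have hker : Nat.card {e : E // TrivOn ρ e U₁ U₀} = Nat.card ψ.ker := Nat.card_congr
      { toFun := fun g => ⟨⟨⟨g.1, hEY g.1.2⟩, g.1.2⟩, Units.ext ((sectRep_eq_one h1 h0 _).2 g.2)⟩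
        invFun := fun g => ⟨⟨g.1.1.1, g.1.2⟩, (sectRep_eq_one h1 h0 _).1 (congrArg Units.val g.2)⟩
        left_inv := fun g => rfl
        right_inv := fun g => rfl }
    have hEimg : Nat.card (E'.map (MonoidHom.toHomUnits σ)) * Nat.card {e : E // TrivOn ρ e U₁ U₀} =
        Nat.card E := by
      rw [hker, ← Nat.card_congr (Subgroup.subgroupOfEquivOfLe hEY).toEquiv]
      have h := Subgroup.card_eq_card_quotient_mul_card_subgroup ψ.ker
      rw [Nat.card_congr (QuotientGroup.quotientKerEquivRange ψ).toEquiv] at h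
      rw [h, hψ, MonoidHom.range_comp, Subgroup.range_subtype]
    have hF : Nat.card ↥((F.comap U₁.subtype).map (U₀.comap U₁.subtype).mkQ) * Nat.card U₀ = Nat.card F := by
      set q := (U₀.comap U₁.subtype).mkQ
      set G := F.comap U₁.subtype
      have hGF : Nat.card G = Nat.card F := Nat.card_congr (Submodule.comapSubtypeEquivOfLe hFU1).toEquiv
      have hG := Submodule.card_eq_card_quotient_mul_card (LinearMap.ker (q.comp G.subtype))
      rw [Nat.card_congr (q.comp G.subtype).quotKerEquivRange.toEquiv, LinearMap.range_comp,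
        Submodule.range_subtype, LinearMap.ker_comp, Submodule.ker_mkQ, hGF] at hG
      rw [hG, mul_comm]
      congr 1
      exact (Nat.card_congr
        ((Submodule.comapSubtypeEquivOfLe (Submodule.comap_mono hU0F)).toEquiv.trans
          (Submodule.comapSubtypeEquivOfLe hle).toEquiv)).symm
    have hFle : (F.comap U₁.subtype).map (U₀.comap U₁.subtype).mkQ ≤ fixp σ E' := by
      rintro _ ⟨v, hv, rfl⟩ e' he'
      rw [hσ, Submodule.mkQ_apply, sectRep_mk, Submodule.Quotient.eq]
      exact hFtriv e' he' v hv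
    have hfix := Nat.card_le_card_of_injective _ (Submodule.inclusion_injective hFle)
    have hQ := card_sub_mul hle
    rw [← hQ, ← hEimg, ← hF] at hcard
    have hpos : 0 < Nat.card U₀ * Nat.card {e : E // TrivOn ρ e U₁ U₀} := by
      refine Nat.mul_pos Nat.card_pos ?_
      haveI : Nonempty {e : E // TrivOn ρ e U₁ U₀} := ⟨⟨1, fun v _ => by
        show ρ (1 : X) v - v ∈ U₀
        rw [rho_one, sub_self]; exact zero_mem _⟩⟩
      exact Nat.card_pos
    refine le_trans (Nat.le_of_mul_le_mul_right ?_ hpos) (Nat.mul_le_mul_left _ hfix)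
    calc Nat.card Q * (Nat.card U₀ * Nat.card {e : E // TrivOn ρ e U₁ U₀}) =
          Nat.card Q * Nat.card U₀ * Nat.card {e : E // TrivOn ρ e U₁ U₀} := by rw [mul_assoc]
      _ ≤ _ := hcard
      _ = _ := by ring
  have hY3 : ¬ CfsgLib.PLocal.InvHom (Equiv.Perm (Fin 3)) Y := fun h => hS3 h.of_subgroup
  exact (sectRep_eq_one h1 h0 ⟨e, hEY he⟩).1 (IH Y Q σ hlt hY3 hO2 E' hoff ⟨e, hEY he⟩ he)

/-- A minimal offender of a counterexample lives on an irreducible module. -/
theorem irr_of_min {ρ : Representation (ZMod 2) X V} (hc : Ctx ρ) {A : Subgroup X} (hA : Min ρ A) :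
    Irr ρ := by
  classical
  haveI : Fact (Nat.Prime 2) := ⟨Nat.prime_two⟩
  by_contra hirr
  have hne : {U : Submodule (ZMod 2) V | Inv ρ ⊤ U ∧ U ≠ ⊥ ∧ U ≠ ⊤}.Nonempty := by
    simp only [Irr, not_forall, not_or] at hirr
    obtain ⟨U, hU, h1, h2⟩ := hirr
    exact ⟨U, hU, h1, h2⟩
  obtain ⟨W, ⟨hW, hWb, hWt⟩, hmin⟩ := Set.exists_min_image _ (fun U : Submodule (ZMod 2) V => Nat.card U)
    (Set.toFinite _) hne
  have hminW : ∀ U : Submodule (ZMod 2) V, Inv ρ ⊤ U → U ≠ ⊥ → U ≤ W → U = W := by
    intro U hU hUb hle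
    have h1 := hmin U ⟨hU, hUb, fun e => hWt (top_le_iff.1 (e ▸ hle))⟩
    exact SetLike.coe_injective (Set.eq_of_subset_of_ncard_le hle
      (by rwa [← Nat.card_coe_set_eq, ← Nat.card_coe_set_eq]) (Set.toFinite _))
  by_cases htriv : ∀ x : X, ∀ w ∈ W, ρ x w = w
  · -- the quotient by a trivial submodule
    let D₀ : Subgroup X :=
      { carrier := {x | TrivOn ρ x ⊤ W}
        one_mem' := fun v _ => by rw [rho_one, sub_self]; exact zero_mem _
        mul_mem' := fun {x y} hx hy v _ => by
          rw [rho_mul, show ρ x (ρ y v) - v = (ρ x (ρ y v) - ρ y v) + (ρ y v - v) by abel]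
          exact add_mem (hx _ trivial) (hy v trivial)
        inv_mem' := fun {x} hx v _ => by
          have h := hx (ρ x⁻¹ v) trivial
          rw [rho_self_inv] at h
          simpa using neg_mem h }
    have hD₀n : D₀.Normal := ⟨fun d hd x v _ => by
      have h := hW x trivial _ (hd (ρ x⁻¹ v) trivial)
      rw [map_sub, rho_self_inv] at h
      rwa [rho_mul, rho_mul]⟩
    have hsq : ∀ y, TrivOn ρ y ⊤ W → y * y = 1 := fun y hy => hc.inj _ (LinearMap.ext fun v => by
      have hw := hy v trivial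
      have h : ρ y (ρ y v) = ρ y v + (ρ y v - v) := by
        conv_lhs => rw [show ρ y v = v + (ρ y v - v) by abel, map_add, htriv y _ hw]
      rw [rho_mul, h, Module.End.one_apply, show ρ y v + (ρ y v - v) = (ρ y v + ρ y v) - v by abel,
        ZModModule.add_self, zero_sub, ZModModule.neg_eq_self])
    have hD₀ : D₀ = ⊥ := hc.o2 D₀ hD₀n (isPGroup_of_sq hsq)
    refine hA.ne_bot (le_bot_iff.1 (hD₀ ▸ fun a ha => ?_))
    refine hc.ind ⊤ ⊤ W (inv_top _) hW le_top (Or.inr (Or.inr hWb)) ?_ A le_top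
      (fun e he => by rw [hA.sq e he]; intro v _; rw [rho_one, sub_self]; exact zero_mem _)
      (fixp ρ A ⊔ W) le_sup_right le_top ?_ ?_ a ha
    · intro D _ hDn hD2 d hd
      have hp : IsPGroup 2 D := by
        rintro ⟨d, hd⟩
        obtain ⟨k, hk⟩ := hD2 d hd
        exact ⟨k + 1, Subtype.ext (by rw [Subgroup.coe_pow, pow_succ, pow_mul, pow_two]; exact hsq _ hk)⟩
      have := hc.o2 D ⟨fun d hd y => hDn y trivial d hd⟩ hp
      rw [this, Subgroup.mem_bot] at hd
      subst hd
      intro v _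
      rw [rho_one, sub_self]; exact zero_mem _
    · intro e he v hv
      obtain ⟨p, hp, q, hq, rfl⟩ := Submodule.mem_sup.1 hv
      rw [map_add, hp e he, htriv e q hq, sub_self]
      exact zero_mem _
    · have hk : Nat.card {e : A // TrivOn ρ e ⊤ W} = 1 := by
        rw [Nat.card_eq_one_iff_unique]
        refine ⟨⟨fun g g' => ?_⟩, ⟨⟨1, D₀.one_mem⟩⟩⟩
        have h : ∀ g : {e : A // TrivOn ρ e ⊤ W}, (g.1 : X) = 1 := fun g =>
          (Subgroup.mem_bot).1 (hD₀ ▸ (show (g.1 : X) ∈ D₀ from g.2))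
        exact Subtype.ext (Subtype.ext (by rw [h g, h g']))
      rw [hk, mul_one, Nat.card_congr (Submodule.topEquiv (R := ZMod 2) (M := V)).toEquiv, ← hA.meas]
      exact Nat.mul_le_mul_left _ (Nat.card_le_card_of_injective _
        (Submodule.inclusion_injective le_sup_left))
  · -- a faithful part of the kernel
    let E₀ : Subgroup X :=
      { carrier := {x | ∀ w ∈ W, ρ x w = w}
        one_mem' := fun w _ => rho_one ρ w
        mul_mem' := fun {x y} hx hy w hw => by rw [rho_mul, hy w hw, hx w hw]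
        inv_mem' := fun {x} hx w hw => by
          conv_lhs => rw [← hx w hw]
          exact rho_inv_self ρ x w }
    have hE₀t : E₀ ≠ ⊤ := fun e => htriv fun x => (show x ∈ E₀ by rw [e]; trivial)
    haveI hE₀n : E₀.Normal := ⟨fun d hd x w hw => by
      rw [rho_mul, rho_mul, hd _ (hW x⁻¹ trivial w hw), rho_self_inv]⟩
    have hAE : A ≤ E₀ := by
      intro a ha w hw
      refine sub_eq_zero.1 ((Submodule.mem_bot (ZMod 2)).1 ?_)
      refine hc.ind ⊤ W ⊥ hW (inv_bot _) bot_le (Or.inr (Or.inl hWt)) ?_ A le_top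
        (fun e he => by rw [hA.sq e he]; intro v _; rw [rho_one, sub_self]; exact zero_mem _)
        (W ⊓ fixp ρ A) bot_le inf_le_left (fun e he v hv => by
          rw [hv.2 e he, sub_self]; exact zero_mem _) ?_ a ha w hw
      · intro D _ hDn hD2
        obtain ⟨w₁, hw₁, hne₁, hfix⟩ := exists_fixed (ρ := ρ) (D := D) hWb
          (fun d _ => hW d trivial) fun d hd => by
            obtain ⟨k, hk⟩ := hD2 d hd
            exact ⟨k, fun v hv => sub_eq_zero.1 ((Submodule.mem_bot _).1 (hk v hv))⟩
        have hWD : W ⊓ fixp ρ D = W := by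
          refine hminW _ (inv_inf hW (inv_fixp fun y _ d hd => by simpa using hDn y⁻¹ trivial d hd))
            (fun e => hne₁ ?_) inf_le_left
          have : w₁ ∈ W ⊓ fixp ρ D := ⟨hw₁, hfix⟩
          rwa [e, Submodule.mem_bot] at this
        intro d hd v hv
        rw [(hWD.ge hv).2 d hd, sub_self]
        exact zero_mem _
      · refine le_trans (le_of_eq ?_) (hA.restrict W)
        congr 1
        exact Nat.card_congr ⟨fun e => ⟨e.1.1, e.1.2, fun g hg => sub_eq_zero.1
          ((Submodule.mem_bot _).1 (e.2 g hg))⟩, fun e => ⟨⟨e.1, e.2.1⟩, fun g hg =>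
          (Submodule.mem_bot _).2 (sub_eq_zero.2 (e.2.2 g hg))⟩, fun _ => rfl, fun _ => rfl⟩
    refine hA.ne_bot ((Subgroup.eq_bot_iff_forall _).2 fun a ha => hc.inj a (LinearMap.ext fun v => ?_))
    refine sub_eq_zero.1 ((Submodule.mem_bot (ZMod 2)).1 ?_)
    refine hc.ind E₀ ⊤ ⊥ (inv_top _) (inv_bot _) bot_le (Or.inl hE₀t) ?_ A hAE
      (fun e he => by rw [hA.sq e he]; intro v _; rw [rho_one, sub_self]; exact zero_mem _)
      (fixp ρ A) bot_le le_top (fun e he v hv => by rw [hv e he, sub_self]; exact zero_mem _) ?_ a ha v trivial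
    · intro D hDE hDn hD2
      have hp : IsPGroup 2 D := by
        rintro ⟨d, hd⟩
        obtain ⟨k, hk⟩ := hD2 d hd
        exact ⟨k, Subtype.ext (hc.inj _ (LinearMap.ext fun v =>
          sub_eq_zero.1 ((Submodule.mem_bot _).1 (hk v trivial))))⟩
      haveI : (D.subgroupOf E₀).Normal := ⟨fun d hd y => hDn y y.2 d hd⟩
      have h1 : D.subgroupOf E₀ ≤ Cfsg.pCore 2 E₀ :=
        CfsgLib.Base.le_pCore (hp.comap_of_injective E₀.subtype E₀.subtype_injective)
      have h2 : Cfsg.pCore 2 X = ⊥ := hc.o2 _ inferInstance (CfsgLib.Base.isPGroup_pCore 2 X)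
      have h3 := Subgroup.map_mono (f := E₀.subtype) h1
      rw [Subgroup.map_subgroupOf_eq_of_le hDE, CfsgLib.Base.map_pCore_eq_inf, h2, bot_inf_eq, le_bot_iff] at h3
      intro d hd v _
      rw [h3, Subgroup.mem_bot] at hd
      rw [hd, rho_one, sub_self]
      exact zero_mem _
    · have hk : Nat.card {e : A // TrivOn ρ e ⊤ ⊥} = 1 := by
        rw [Nat.card_eq_one_iff_unique]
        refine ⟨⟨fun g g' => ?_⟩, ⟨⟨1, fun v _ => by
          show ρ (1 : X) v - v ∈ (⊥ : Submodule (ZMod 2) V)
          rw [rho_one, sub_self]; exact zero_mem _⟩⟩⟩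
        have h : ∀ g : {e : A // TrivOn ρ e ⊤ ⊥}, (g.1 : X) = 1 := fun g =>
          hc.inj _ (LinearMap.ext fun v => sub_eq_zero.1 ((Submodule.mem_bot _).1 (g.2 v trivial)))
        exact Subtype.ext (Subtype.ext (by rw [h g, h g']))
      rw [hk, mul_one, Nat.card_congr (Submodule.topEquiv (R := ZMod 2) (M := V)).toEquiv, ← hA.meas]

/-- The reductions. -/
theorem noOffender_of_core (hcore : CoreStatement.{u}) : NoOffender.{u} := by
  suffices ∀ N, NoOffUpTo.{u} N by
    intro X V _ _ _ _ _ ρ
    exact this (Nat.card X + Nat.card V + 1) X V ρ (Nat.lt_succ_self _)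
  intro N
  induction N with
  | zero => intro X V _ _ _ _ _ ρ h; exact absurd h (Nat.not_lt_zero _)
  | succ N ih =>
    intro X V _ _ _ _ _ ρ hN hS3 hO2 E hE
    classical
    by_cases hinj : ∀ x : X, ρ x = 1 → x = 1
    · -- the faithful case
      have hsq : ∀ a ∈ E, a * a = 1 := fun a ha => hinj _ (hE.1 a ha)
      by_contra hne
      have hEne : E ≠ ⊥ := fun e => hne fun a ha => by
        rw [e, Subgroup.mem_bot] at ha
        rw [ha, map_one]
      have hinj' : Function.Injective (MonoidHom.toHomUnits ρ) :=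
        (injective_iff_map_eq_one _).2 fun x hx => hinj x (congrArg Units.val hx)
      obtain ⟨A, -, hA⟩ := exists_min hinj hsq hEne (by
        have := hE.2
        rwa [Subgroup.card_map_of_injective hinj'] at this)
      have hc : Ctx ρ := ⟨hinj, hS3, fun D hD hp => (Subgroup.eq_bot_iff_forall _).2 fun d hd =>
          hinj d (hO2 D hD (fun e he => by
            obtain ⟨k, hk⟩ := hp ⟨e, he⟩
            exact ⟨k, by rw [show e ^ 2 ^ k = 1 from congrArg Subtype.val hk, map_one]⟩) d hd),
        indHyp_of_upTo hS3 fun X' V' _ _ _ _ _ σ h => ih X' V' σ (by omega)⟩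
      exact hcore X V ρ hc (irr_of_min hc hA) A hA
    · -- pass to the image
      set K := MonoidHom.ker ρ with hK
      let σ : Representation (ZMod 2) (X ⧸ K) V := QuotientGroup.lift K ρ le_rfl
      have hσ : ∀ x, σ (QuotientGroup.mk x) = ρ x := fun x => rfl
      have hK2 : 1 < Nat.card K := by
        push Not at hinj
        obtain ⟨x, hx, hx1⟩ := hinj
        rw [Subgroup.one_lt_card_iff_ne_bot]
        exact fun e => hx1 ((Subgroup.eq_bot_iff_forall _).1 e x hx)
      have hlt : Nat.card (X ⧸ K) + Nat.card V < N := by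
        have h := Subgroup.card_eq_card_quotient_mul_card_subgroup K
        have hpos : 0 < Nat.card (X ⧸ K) := Nat.card_pos
        have h2 : Nat.card (X ⧸ K) * 2 ≤ Nat.card X := by rw [h]; exact Nat.mul_le_mul_left _ hK2
        omega
      have hO2' : O2Triv σ := by
        intro D hD hpow d hd
        induction d using QuotientGroup.induction_on with
        | _ x =>
          refine hO2 (D.comap (QuotientGroup.mk' K)) (hD.comap _) (fun y hy => ?_) x hd
          obtain ⟨k, hk⟩ := hpow _ hy
          refine ⟨k, ?_⟩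
          rw [← hσ, QuotientGroup.mk_pow]
          exact hk
      intro e he
      refine ih (X ⧸ K) V σ hlt (fun h => hS3 (h.of_quotient K)) hO2' (E.map (QuotientGroup.mk' K))
        ⟨?_, ?_⟩ (QuotientGroup.mk e) ⟨e, he, rfl⟩
      · rintro _ ⟨a, ha, rfl⟩
        rw [QuotientGroup.mk'_apply, ← QuotientGroup.mk_mul, hσ]
        exact hE.1 a ha
      · have h1 : (E.map (QuotientGroup.mk' K)).map (MonoidHom.toHomUnits σ) =
            E.map (MonoidHom.toHomUnits ρ) := by
          rw [Subgroup.map_map]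
          congr 1
        have h2 : fixp σ (E.map (QuotientGroup.mk' K)) = fixp ρ E := by
          ext v
          exact ⟨fun h a ha => h _ ⟨a, ha, rfl⟩, fun h => by rintro _ ⟨a, ha, rfl⟩; exact h a ha⟩
        rw [h1, h2]
        exact hE.2

end CfsgLib.S4NoFF
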