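import Cfsg.Agent.Lib.S4NoFF.Statement
import Cfsg.Agent.Lib.Transfer.S4Recognition
import Cfsg.Agent.Lib.PLocal.QdControl

/-!
# From the module statement to the group statement

For a normal elementary abelian `2`-subgroup `V` of a group without section `S₄`, the group
`G / C(V)` has no section `S₃`; hence `NoOffender` gives `NoMinAll`.
-/

set_option autoImplicit false
set_option linter.style.haveILetI false

namespace CfsgLib.S4NoFF

open Cfsg CfsgLib.PLocal CfsgLib.LocalEven.S4F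
open CfsgLib.LocalEven.CD (cen)

universe u

theorem perm_three_inverts : ∀ a c : Equiv.Perm (Fin 3),
    Equiv.Perm.sign a = -1 → c ^ 3 = 1 → a * c * a⁻¹ = c⁻¹ := by decide

/-- A surjection onto `S₃` sees an element inverted by a `2`-element. -/
theorem exists_inverted {L : Type*} [Group L] [Finite L] (F : L →* Equiv.Perm (Fin 3))
    (hF : Function.Surjective F) :
    ∃ x t : L, F x ≠ 1 ∧ (∃ m, x ^ 3 ^ m = 1) ∧ (∃ m, t ^ 2 ^ m = 1) ∧ t * x * t⁻¹ = x⁻¹ := by
  classical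
  haveI := Fact.mk Nat.prime_three
  haveI := Fact.mk Nat.prime_two
  set σ : L →* ℤˣ := Equiv.Perm.sign.comp F with hσ
  obtain ⟨g, hg⟩ := hF (finRotate 3)
  obtain ⟨a, b, hb, hab⟩ := Nat.exists_eq_pow_mul_and_not_dvd (orderOf_pos g).ne' 3 (by norm_num)
  set q := g ^ b with hq
  have hqord : q ^ 3 ^ a = 1 := by rw [hq, ← pow_mul, mul_comm, ← hab, pow_orderOf_eq_one]
  have hc3 : F q ^ 3 = 1 := by
    rw [hq, map_pow, hg, ← pow_mul, mul_comm, pow_mul,
      show (finRotate 3) ^ 3 = 1 by decide, one_pow]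
  have hc1 : F q ≠ 1 := by
    rw [hq, map_pow, hg]
    intro h
    have h3 : orderOf (finRotate 3) = 3 := orderOf_eq_prime (by decide) (by decide)
    exact hb (h3 ▸ orderOf_dvd_of_pow_eq_one h)
  have hqM : q ∈ σ.ker := by
    rw [MonoidHom.mem_ker, hσ, MonoidHom.comp_apply, hq, map_pow, map_pow, hg,
      show Equiv.Perm.sign (finRotate 3) = 1 by decide, one_pow]
  have hqp : IsPGroup 3 (Subgroup.zpowers (⟨q, hqM⟩ : σ.ker)) := by
    obtain ⟨i, -, hi⟩ := (Nat.dvd_prime_pow Nat.prime_three).1 (orderOf_dvd_of_pow_eq_one hqord)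
    exact IsPGroup.of_card (n := i) (by rw [Nat.card_zpowers, ← Subgroup.orderOf_coe, hi])
  obtain ⟨P, hP⟩ := hqp.exists_le_sylow
  set P' : Subgroup L := (P : Subgroup σ.ker).map σ.ker.subtype with hP'
  have hP'p : IsPGroup 3 P' := P.2.map _
  have hqP : q ∈ P' := ⟨⟨q, hqM⟩, hP (Subgroup.mem_zpowers _), rfl⟩
  obtain ⟨n, hn, hns⟩ : ∃ n ∈ Subgroup.normalizer (P' : Set L), σ n = -1 := by
    by_contra h
    push Not at h
    have hle : Subgroup.normalizer (P' : Set L) ≤ σ.ker := fun n hn =>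
      MonoidHom.mem_ker.2 ((Int.units_eq_one_or (σ n)).resolve_right (h n hn))
    have htop := Sylow.normalizer_sup_eq_top P
    rw [← hP', sup_eq_right.2 hle] at htop
    obtain ⟨s, hs⟩ := hF (Equiv.swap 0 1)
    have hs' : σ s = 1 := MonoidHom.mem_ker.1 (htop ▸ Subgroup.mem_top s)
    rw [hσ, MonoidHom.comp_apply, hs, Equiv.Perm.sign_swap (by decide)] at hs'
    exact absurd hs' (by decide)
  obtain ⟨i, o, ho, hio⟩ := Nat.exists_eq_two_pow_mul_odd (orderOf_pos n).ne'
  set t := n ^ o with ht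
  have htN : t ∈ Subgroup.normalizer (P' : Set L) := pow_mem hn o
  have hts : Equiv.Perm.sign (F t) = -1 := by
    show σ t = -1
    rw [ht, map_pow, hns, ho.neg_one_pow]
  have ht2 : t ^ 2 ^ i = 1 := by rw [ht, ← pow_mul, mul_comm, ← hio, pow_orderOf_eq_one]
  -- a fixed point of `t²` in the coset
  set c := F q with hc
  set Q : Subgroup L := P' ⊓ F.ker with hQ
  let T : Subgroup L := Subgroup.zpowers (t * t)
  have hTp : IsPGroup 2 T := by
    rintro ⟨_, j, rfl⟩
    refine ⟨i, Subtype.ext ?_⟩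
    show ((t * t) ^ j) ^ 2 ^ i = 1
    rw [← zpow_natCast ((t * t) ^ j) (2 ^ i), ← zpow_mul, mul_comm, zpow_mul, zpow_natCast,
      ← pow_two, pow_right_comm, ht2, one_pow, one_zpow]
  have hTnorm : T ≤ Subgroup.normalizer (P' : Set L) :=
    Subgroup.zpowers_le.2 (mul_mem htN htN)
  have hTF : ∀ g ∈ T, F g * c * (F g)⁻¹ = c := by
    rintro _ ⟨j, rfl⟩
    have h2 : F (t * t) * c * (F (t * t))⁻¹ = c := by
      rw [map_mul, mul_inv_rev, show F t * F t * c * ((F t)⁻¹ * (F t)⁻¹) =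
        F t * (F t * c * (F t)⁻¹) * (F t)⁻¹ by group, perm_three_inverts _ _ hts hc3,
        perm_three_inverts _ _ hts (by rw [inv_pow, hc3, inv_one]), inv_inv]
    have hcm : Commute (F (t * t)) c := mul_inv_eq_iff_eq_mul.1 h2
    show F ((t * t) ^ j) * c * (F ((t * t) ^ j))⁻¹ = c
    rw [map_zpow, (hcm.zpow_left j).eq, mul_inv_cancel_right]
  letI : MulAction T {p : L // p ∈ P' ∧ F p = c} :=
    { smul := fun g p => ⟨(g : L) * p * (g : L)⁻¹,
        ((Subgroup.mem_normalizer_iff.1 (hTnorm g.2)) p.1).1 p.2.1,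
        by rw [map_mul, map_mul, map_inv, p.2.2]; exact hTF g g.2⟩
      one_smul := fun p => Subtype.ext (show (1 : L) * p * (1 : L)⁻¹ = p by group)
      mul_smul := fun g h p => Subtype.ext
        (show ((g : L) * h) * p * ((g : L) * h)⁻¹ = g * ((h : L) * p * (h : L)⁻¹) * (g : L)⁻¹ by group) }
  have hodd : ¬ 2 ∣ Nat.card {p : L // p ∈ P' ∧ F p = c} := by
    have e : Nat.card {p : L // p ∈ P' ∧ F p = c} = Nat.card Q := Nat.card_congr
      { toFun := fun p => ⟨q⁻¹ * p, show q⁻¹ * (p : L) ∈ P' from mul_mem (inv_mem hqP) p.2.1, by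
          show F (q⁻¹ * p) = 1
          rw [map_mul, map_inv, p.2.2, inv_mul_cancel]⟩
        invFun := fun p => ⟨q * p, mul_mem hqP p.2.1, by
          rw [map_mul, show F (p : L) = 1 from p.2.2, mul_one]⟩
        left_inv := fun p => Subtype.ext (mul_inv_cancel_left _ _)
        right_inv := fun p => Subtype.ext (inv_mul_cancel_left _ _) }
    obtain ⟨j, hj⟩ := IsPGroup.iff_card.1 (hP'p.to_le (inf_le_left : Q ≤ P'))
    rw [e, hj]
    exact fun h => absurd (Nat.prime_two.dvd_of_dvd_pow h) (by norm_num)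
  obtain ⟨⟨p, hpP, hpc⟩, hfix⟩ := hTp.nonempty_fixed_point_of_prime_not_dvd_card _ hodd
  have hcomm : t * t * p * (t * t)⁻¹ = p :=
    congrArg Subtype.val (hfix ⟨t * t, Subgroup.mem_zpowers _⟩)
  set x := p⁻¹ * (t * p * t⁻¹) with hx
  have hxP : x ∈ P' := mul_mem (inv_mem hpP) ((Subgroup.mem_normalizer_iff.1 htN p).1 hpP)
  refine ⟨x, t, ?_, ?_, ⟨i, ht2⟩, ?_⟩
  · rw [hx, map_mul, map_mul, map_mul, map_inv, map_inv, hpc, perm_three_inverts _ _ hts hc3]
    intro h
    refine hc1 ?_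
    calc c = c ^ 3 * (c⁻¹ * c⁻¹) := by rw [show c ^ 3 = c * c * c by rw [pow_three, mul_assoc]]; group
      _ = 1 := by rw [hc3, one_mul, h]
  · obtain ⟨j, hj⟩ := hP'p ⟨x, hxP⟩
    exact ⟨j, congrArg Subtype.val hj⟩
  · rw [hx]
    calc t * (p⁻¹ * (t * p * t⁻¹)) * t⁻¹ = t * p⁻¹ * t⁻¹ * (t * t * p * (t * t)⁻¹) := by group
      _ = t * p⁻¹ * t⁻¹ * p := by rw [hcomm]
      _ = (p⁻¹ * (t * p * t⁻¹))⁻¹ := by group

/-- On an elementary abelian subgroup an inverted element of order three gives a section `S₄`. -/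
theorem invHom_s4_of_inverted {G : Type u} [Group G] [Finite G] {V : Subgroup G} [V.Normal]
    (hV : IsElementaryAbelian 2 V) {y t : G} (hy : y ∉ cen V) (hy3 : y ^ 3 ∈ cen V)
    (ht : ∃ m, t ^ 2 ^ m = 1) (hty : t * y * t⁻¹ = y⁻¹) :
    InvHom (Equiv.Perm (Fin 4)) G := by
  haveI := Fact.mk Nat.prime_two
  have hcj : ∀ g v : G, v ∈ V → g * v * g⁻¹ ∈ V := fun g v hv => ‹V.Normal›.conj_mem v hv g
  have hab : ∀ v w : G, v ∈ V → w ∈ V → v * w = w * v := fun v w hv hw => comm_of_mem hV.1 hv hw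
  let U : Subgroup G :=
    { carrier := {w | ∃ v ∈ V, w = v * (y * v * y⁻¹)}
      one_mem' := ⟨1, one_mem V, by group⟩
      mul_mem' := by
        rintro _ _ ⟨v, hv, rfl⟩ ⟨w, hw, rfl⟩
        refine ⟨v * w, mul_mem hv hw, ?_⟩
        calc v * (y * v * y⁻¹) * (w * (y * w * y⁻¹))
            = v * ((y * v * y⁻¹) * w) * (y * w * y⁻¹) := by group
          _ = v * (w * (y * v * y⁻¹)) * (y * w * y⁻¹) := by rw [hab _ _ (hcj y v hv) hw]
          _ = _ := by group
      inv_mem' := by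
        rintro _ ⟨v, hv, rfl⟩
        refine ⟨v, hv, inv_eq_self hV (mul_mem hv (hcj y v hv))⟩ }
  have hUV : U ≤ V := by
    rintro _ ⟨v, hv, rfl⟩
    exact mul_mem hv (hcj y v hv)
  have hU0 : U ≠ ⊥ := by
    intro e
    refine hy fun v hv => ?_
    have h : v * (y * v * y⁻¹) = 1 := (Subgroup.eq_bot_iff_forall _).1 e _ ⟨v, hv, rfl⟩
    have h1 : v⁻¹ = y * v * y⁻¹ := inv_eq_of_mul_eq_one_right h
    rw [inv_eq_self hV hv] at h1
    nth_rewrite 1 [h1]
    group
  -- `t` normalises `U`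
  have htU : ∀ w ∈ U, t * w * t⁻¹ ∈ U := by
    rintro _ ⟨v, hv, rfl⟩
    refine ⟨y⁻¹ * (t * v * t⁻¹) * y,
      by simpa using hcj y⁻¹ _ (hcj t v hv), ?_⟩
    calc t * (v * (y * v * y⁻¹)) * t⁻¹
        = t * v * t⁻¹ * ((t * y * t⁻¹) * (t * v * t⁻¹) * (t * y * t⁻¹)⁻¹) := by group
      _ = t * v * t⁻¹ * (y⁻¹ * (t * v * t⁻¹) * y) := by rw [hty, inv_inv]
      _ = (y⁻¹ * (t * v * t⁻¹) * y) * (t * v * t⁻¹) :=
        hab _ _ (hcj t v hv) (by simpa using hcj y⁻¹ _ (hcj t v hv))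
      _ = _ := by group
  have htp : IsPGroup 2 (Subgroup.zpowers t) := by
    obtain ⟨m, hm⟩ := ht
    obtain ⟨i, -, hi⟩ := (Nat.dvd_prime_pow Nat.prime_two).1 (orderOf_dvd_of_pow_eq_one hm)
    exact IsPGroup.of_card (n := i) (by rw [Nat.card_zpowers, hi])
  have htUn : Subgroup.zpowers t ≤ Subgroup.normalizer (U : Set G) :=
    Subgroup.zpowers_le.2 (Subgroup.mem_normalizer_iff_map_conj_eq.2
      (Subgroup.eq_of_le_of_card_ge (by rintro _ ⟨w, hw, rfl⟩; exact htU w hw)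
        (Subgroup.card_map_of_injective (MulAut.conj t).injective).ge))
  letI : MulAction (Subgroup.zpowers t) U :=
    { smul := fun g p => ⟨(g : G) * p * (g : G)⁻¹, (Subgroup.mem_normalizer_iff.1 (htUn g.2) p.1).1 p.2⟩
      one_smul := fun p => Subtype.ext (show (1 : G) * p * (1 : G)⁻¹ = p by group)
      mul_smul := fun g h p => Subtype.ext
        (show ((g : G) * h) * p * ((g : G) * h)⁻¹ = g * ((h : G) * p * (h : G)⁻¹) * (g : G)⁻¹ by group) }
  have hd : 2 ∣ Nat.card U := by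
    obtain ⟨j, hj⟩ := IsPGroup.iff_card.1 ((isPGroup_elem hV).to_le hUV)
    rw [hj]
    refine dvd_pow_self 2 fun e => hU0 ?_
    rw [e, pow_zero] at hj
    exact Subgroup.card_eq_one.1 hj
  have h1 : (1 : U) ∈ MulAction.fixedPoints (Subgroup.zpowers t) U := fun g =>
    Subtype.ext (show (g : G) * 1 * (g : G)⁻¹ = 1 by group)
  obtain ⟨⟨w, hwU⟩, hwfix, hw1'⟩ := htp.exists_fixed_point_of_prime_dvd_card_of_fixed_point U hd h1
  have hw1 : w ≠ 1 := fun e => hw1' (Subtype.ext e.symm)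
  have htw : t * w * t⁻¹ = w := congrArg Subtype.val (hwfix ⟨t, Subgroup.mem_zpowers t⟩)
  have hwV : w ∈ V := hUV hwU
  have hw2 : w * w = 1 := sq_eq_one hV hwV
  -- the relation
  set u := y * w * y⁻¹ with hu
  have huV : u ∈ V := hcj y w hwV
  have hy2 : y * u * y⁻¹ = w * u := by
    obtain ⟨v, hv, hwv⟩ := hwU
    set v1 := y * v * y⁻¹ with hv1
    set v2 := y * v1 * y⁻¹ with hv2
    have hv1V : v1 ∈ V := hcj y v hv
    have hv2V : v2 ∈ V := hcj y v1 hv1V
    have hv3 : y * v2 * y⁻¹ = v := by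
      calc y * v2 * y⁻¹ = y ^ 3 * v * (y ^ 3)⁻¹ := by rw [hv2, hv1, pow_three]; group
        _ = v := by rw [← hy3 v hv, mul_inv_cancel_right]
    have eu : u = v1 * v2 := by rw [hu, hwv, hv2, hv1]; group
    calc y * u * y⁻¹ = (y * v1 * y⁻¹) * (y * v2 * y⁻¹) := by rw [eu]; group
      _ = v2 * v := by rw [← hv2, hv3]
      _ = v * v2 := hab _ _ hv2V hv
      _ = v * (v1 * v1) * v2 := by rw [sq_eq_one hV hv1V, mul_one]
      _ = w * u := by rw [hwv, eu]; group
  have hwuV : w * u ∈ V := mul_mem hwV huV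
  have hu2 : u * u = 1 := sq_eq_one hV huV
  have huw : u ≠ w := fun e => by
    rw [e, hw2] at hy2
    exact hw1 (conj_eq_one_iff.1 hy2)
  have hyinv : y⁻¹ * w * y = w * u := by
    have h : y * (w * u) * y⁻¹ = w := by
      calc y * (w * u) * y⁻¹ = u * (y * u * y⁻¹) := by rw [hu]; group
        _ = u * (u * w) := by rw [hy2, hab _ _ hwV huV]
        _ = w := by rw [← mul_assoc, hu2, one_mul]
    calc y⁻¹ * w * y = y⁻¹ * (y * (w * u) * y⁻¹) * y := by rw [h]
      _ = w * u := by group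
  have hty' : t * y = y⁻¹ * t := mul_inv_eq_iff_eq_mul.1 hty
  have htu : t * u * t⁻¹ = w * u := by
    calc t * u * t⁻¹ = (t * y * t⁻¹) * (t * w * t⁻¹) * (t * y * t⁻¹)⁻¹ := by rw [hu]; group
      _ = w * u := by rw [hty, htw, inv_inv, hyinv]
  -- the centraliser of `t²`
  set z := t * t with hz
  have hzy : z * y = y * z := by
    have h1 : t * y⁻¹ = y * t := by
      have h := congrArg (·⁻¹) hty
      simp only [mul_inv_rev, inv_inv] at h
      rw [← mul_inv_eq_iff_eq_mul]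
      calc t * y⁻¹ * t⁻¹ = t * (y⁻¹ * t⁻¹) := by group
        _ = y := h
    rw [hz, mul_assoc, hty', ← mul_assoc, h1, mul_assoc]
  have hzw : z * w = w * z := by
    have h : t * w = w * t := mul_inv_eq_iff_eq_mul.1 htw
    rw [hz, mul_assoc, h, ← mul_assoc, h, mul_assoc]
  let C : Subgroup G := Subgroup.centralizer {z}
  have hC : ∀ g, z * g = g * z → g ∈ C := fun g hg => Subgroup.mem_centralizer_singleton_iff.2 hg.symm
  have hzC : z ∈ C := hC z rfl
  have htC : t ∈ C := hC t (by rw [hz, mul_assoc])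
  have hyC : y ∈ C := hC y hzy
  have hwC : w ∈ C := hC w hzw
  let N : Subgroup C := Subgroup.zpowers ⟨z, hzC⟩
  haveI : N.Normal := ⟨by
    rintro _ ⟨i, rfl⟩ g
    refine ⟨i, ?_⟩
    have hg : Commute g (⟨z, hzC⟩ : C) :=
      Subtype.ext (Subgroup.mem_centralizer_singleton_iff.1 g.2)
    exact (mul_inv_eq_iff_eq_mul.2 (hg.zpow_right i).eq).symm⟩
  have hNy : ∀ g : C, g ∈ N → y * (g : G) * y⁻¹ = (g : G) := by
    rintro _ ⟨i, rfl⟩
    show y * ((⟨z, hzC⟩ : C) ^ i : C).1 * y⁻¹ = _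
    rw [Subgroup.coe_zpow]
    exact mul_inv_eq_iff_eq_mul.2 ((show Commute y z from hzy.symm).zpow_right i).eq
  refine InvHom.of_subgroup (S := C) (InvHom.of_quotient N ?_)
  refine CfsgLib.Transfer.invHom_s4_of_plane (a := QuotientGroup.mk' N ⟨t, htC⟩)
    (b := QuotientGroup.mk' N (⟨y, hyC⟩ * ⟨t, htC⟩ * ⟨y, hyC⟩⁻¹))
    (u := QuotientGroup.mk' N (⟨y, hyC⟩ * ⟨w, hwC⟩ * ⟨y, hyC⟩⁻¹))
    (w := QuotientGroup.mk' N ⟨w, hwC⟩) ?_ ?_ ?_ ?_ ?_ ?_ ?_ ?_ ?_ ?_ ?_
  · rw [← map_mul]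
    exact (QuotientGroup.eq_one_iff _).2 (Subgroup.mem_zpowers (⟨z, hzC⟩ : C))
  · rw [← map_mul]
    refine (QuotientGroup.eq_one_iff _).2 ?_
    convert Subgroup.mem_zpowers (⟨z, hzC⟩ : C) using 1
    refine Subtype.ext ?_
    show y * t * y⁻¹ * (y * t * y⁻¹) = z
    calc y * t * y⁻¹ * (y * t * y⁻¹) = y * z * y⁻¹ := by rw [hz]; group
      _ = z := by rw [← hzy, mul_inv_cancel_right]
  · rw [← map_mul, show (⟨y, hyC⟩ * ⟨w, hwC⟩ * ⟨y, hyC⟩⁻¹ : C) * (⟨y, hyC⟩ * ⟨w, hwC⟩ * ⟨y, hyC⟩⁻¹) = 1 from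
      Subtype.ext hu2, map_one]
  · rw [← map_mul, show (⟨w, hwC⟩ : C) * ⟨w, hwC⟩ = 1 from Subtype.ext hw2, map_one]
  · rw [← map_mul, ← map_mul]
    exact congrArg _ (Subtype.ext (hab u w huV hwV))
  · rw [← map_inv, ← map_mul, ← map_mul]
    exact congrArg _ (Subtype.ext htw)
  · rw [← map_inv, ← map_mul, ← map_mul, ← map_mul]
    exact congrArg _ (Subtype.ext (htu.trans (hab w u hwV huV)))
  · rw [← map_inv, ← map_mul, ← map_mul]
    refine congrArg _ (Subtype.ext ?_)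
    show y * t * y⁻¹ * (y * w * y⁻¹) * (y * t * y⁻¹)⁻¹ = y * w * y⁻¹
    calc y * t * y⁻¹ * (y * w * y⁻¹) * (y * t * y⁻¹)⁻¹ = y * (t * w * t⁻¹) * y⁻¹ := by group
      _ = _ := by rw [htw]
  · rw [← map_inv, ← map_mul, ← map_mul, ← map_mul]
    refine congrArg _ (Subtype.ext ?_)
    show y * t * y⁻¹ * w * (y * t * y⁻¹)⁻¹ = w * u
    calc y * t * y⁻¹ * w * (y * t * y⁻¹)⁻¹ = y * (t * (y⁻¹ * w * y) * t⁻¹) * y⁻¹ := by group
      _ = y * ((t * w * t⁻¹) * (t * u * t⁻¹)) * y⁻¹ := by rw [hyinv]; group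
      _ = y * ((w * w) * u) * y⁻¹ := by rw [htw, htu, ← mul_assoc w w u]
      _ = w * u := by rw [hw2, one_mul, hy2]
  · intro e
    have h2 := hNy _ ((QuotientGroup.eq_one_iff _).1 e)
    exact huw h2
  · intro e
    have h2 := hNy _ (QuotientGroup.eq.1 e)
    change y * (u⁻¹ * w) * y⁻¹ = u⁻¹ * w at h2
    rw [inv_eq_self hV huV] at h2
    have h3 : y * (u * w) * y⁻¹ = w := by
      calc y * (u * w) * y⁻¹ = (y * u * y⁻¹) * u := by rw [hu]; group
        _ = w := by rw [hy2, mul_assoc, hu2, mul_one]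
    rw [h3] at h2
    exact hw1 (by
      have : u = 1 := mul_eq_right.1 h2.symm
      rw [hu] at this
      exact conj_eq_one_iff.1 this)

/-- The module statement gives the group statement. -/
theorem noMinAll_of (h : NoOffender.{u}) : NoMinAll.{u} := by
  intro G _ _ hS4 V hVn hV hC A hA
  haveI := Fact.mk Nat.prime_two
  haveI : (cen V).Normal := by
    show (Subgroup.centralizer (V : Set G)).Normal
    infer_instance
  letI : CommGroup V := { (inferInstance : Group V) with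
    mul_comm := fun a b => Subtype.ext (comm_of_mem hV.1 a.2 b.2) }
  letI : Module (ZMod 2) (Additive V) := AddCommGroup.zmodModule fun x => by
    obtain ⟨v, rfl⟩ := Additive.ofMul.surjective x
    rw [← ofMul_pow, show v ^ 2 = 1 from Subtype.ext (hV.2 v v.2), ofMul_one]
  let cf : G → Additive V →+ Additive V := fun g => AddMonoidHom.mk'
    (fun v => Additive.ofMul ⟨g * ((Additive.toMul v : V) : G) * g⁻¹, hVn.conj_mem _ (Additive.toMul v).2 g⟩)
    (fun a b => congrArg Additive.ofMul (Subtype.ext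
      (show g * (((Additive.toMul a : V) : G) * ((Additive.toMul b : V) : G)) * g⁻¹ =
        g * ((Additive.toMul a : V) : G) * g⁻¹ * (g * ((Additive.toMul b : V) : G) * g⁻¹) by group)))
  let φ : G →* Module.End (ZMod 2) (Additive V) :=
    { toFun := fun g => (cf g).toZModLinearMap 2
      map_one' := LinearMap.ext fun v => congrArg Additive.ofMul (Subtype.ext
        (show (1 : G) * ((Additive.toMul v : V) : G) * (1 : G)⁻¹ = ((Additive.toMul v : V) : G) by group))
      map_mul' := fun g k => LinearMap.ext fun v => congrArg Additive.ofMul (Subtype.ext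
        (show g * k * ((Additive.toMul v : V) : G) * (g * k)⁻¹ = g * (k * ((Additive.toMul v : V) : G) * k⁻¹) * g⁻¹ by
          group)) }
  have hker : φ.ker = cen V := by
    ext g
    rw [MonoidHom.mem_ker]
    refine ⟨fun hg v hv => ?_, fun hg => LinearMap.ext fun v => congrArg Additive.ofMul (Subtype.ext ?_)⟩
    · have := congrArg (fun x : Additive V => ((Additive.toMul x : V) : G))
        (LinearMap.congr_fun hg (Additive.ofMul ⟨v, hv⟩))
      exact (mul_inv_eq_iff_eq_mul.1 this).symm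
    · exact mul_inv_eq_iff_eq_mul.2 (hg _ (Additive.toMul v).2).symm
  let ρ : Representation (ZMod 2) (G ⧸ cen V) (Additive V) := QuotientGroup.lift (cen V) φ hker.ge
  have hρ : ∀ g, ρ (QuotientGroup.mk g) = φ g := fun g => rfl
  have hfaith : ∀ q, ρ q = 1 → q = 1 := by
    intro q
    induction q using QuotientGroup.induction_on with
    | _ g =>
      intro hg
      rw [hρ, ← MonoidHom.mem_ker, hker] at hg
      exact (QuotientGroup.eq_one_iff _).2 hg
  have hinj : Function.Injective (MonoidHom.toHomUnits ρ) := (injective_iff_map_eq_one _).2 fun q hq =>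
    hfaith q (congrArg Units.val hq)
  have hS3 : ¬ InvHom (Equiv.Perm (Fin 3)) (G ⧸ cen V) := by
    rintro ⟨K, F, hF⟩
    set L := K.comap (QuotientGroup.mk' (cen V)) with hL
    let F' : L →* Equiv.Perm (Fin 3) :=
      F.comp (((QuotientGroup.mk' (cen V)).comp L.subtype).codRestrict K fun x => x.2)
    have hF' : Function.Surjective F' := fun y => by
      obtain ⟨k, hk⟩ := hF y
      obtain ⟨g, hg⟩ := QuotientGroup.mk'_surjective (cen V) k.1
      refine ⟨⟨g, by show QuotientGroup.mk' (cen V) g ∈ K; rw [hg]; exact k.2⟩, ?_⟩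
      rw [← hk]
      exact congrArg F (Subtype.ext hg)
    obtain ⟨x, t, hx1, ⟨a, hxa⟩, ⟨m, htm⟩, hinv⟩ := exists_inverted F' hF'
    have hxC : (x : G) ∉ cen V := fun hc => hx1 (by
      show F _ = 1
      rw [← map_one F]
      exact congrArg F (Subtype.ext ((QuotientGroup.eq_one_iff _).2 hc)))
    classical
    have hex : ∃ j, (x : G) ^ 3 ^ j ∈ cen V :=
      ⟨a, by rw [← Subgroup.coe_pow, hxa]; exact one_mem _⟩
    have hspec := Nat.find_spec hex
    rcases Nat.eq_zero_or_pos (Nat.find hex) with h0 | hpos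
    · rw [h0, pow_zero, pow_one] at hspec
      exact hxC hspec
    obtain ⟨j, hj⟩ := Nat.exists_eq_succ_of_ne_zero hpos.ne'
    refine hS4 (invHom_s4_of_inverted hV (y := (x : G) ^ 3 ^ j) (t := (t : G))
      (Nat.find_min hex (by omega)) ?_ ⟨m, by rw [← Subgroup.coe_pow, htm, Subgroup.coe_one]⟩ ?_)
    · rw [← pow_mul, ← pow_succ]
      rw [hj] at hspec
      exact hspec
    · rw [← conj_pow, show (t : G) * x * (t : G)⁻¹ = (x : G)⁻¹ from congrArg Subtype.val hinv, inv_pow]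
  have hO2 : O2Triv ρ := by
    intro D hD hpow d hd
    set D' := D.comap (QuotientGroup.mk' (cen V)) with hD'
    have hle : cen V ≤ D' := fun g hg => by
      show QuotientGroup.mk' (cen V) g ∈ D
      rw [QuotientGroup.mk'_apply, (QuotientGroup.eq_one_iff _).2 hg]
      exact one_mem _
    have hDp : IsPGroup 2 D := fun e => by
      obtain ⟨k, hk⟩ := hpow e e.2
      exact ⟨k, Subtype.ext (by rw [Subgroup.coe_pow]; exact hfaith _ hk)⟩
    obtain ⟨k, hk⟩ := IsPGroup.iff_card.1 hDp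
    have e := hC D' (hD.comap _) hle ⟨k,
      (congrArg (Subgroup.relIndex · D') (QuotientGroup.ker_mk' (cen V)).symm).trans
        ((Subgroup.relIndex_ker _ _).trans (by
          rw [hD', Subgroup.map_comap_eq_self_of_surjective (QuotientGroup.mk'_surjective _)]
          exact hk))⟩
    induction d using QuotientGroup.induction_on with
    | _ g =>
      have hg : g ∈ cen V := e ▸ (show g ∈ D' from hd)
      rw [(QuotientGroup.eq_one_iff _).2 hg, map_one]
  set E := A.map (QuotientGroup.mk' (cen V)) with hE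
  have hAinj : Nat.card E = Nat.card A := by
    refine (Nat.card_congr (Equiv.ofBijective
      (fun a : A => (⟨QuotientGroup.mk' (cen V) a, ⟨a, a.2, rfl⟩⟩ : E)) ⟨fun a b hab => ?_, ?_⟩)).symm
    · have hm := QuotientGroup.eq.1 (congrArg Subtype.val hab)
      refine Subtype.ext (inv_mul_eq_one.1 ?_)
      exact (Subgroup.eq_bot_iff_forall _).1 hA.faith _ ⟨show (a : G)⁻¹ * b ∈ A from mul_mem (inv_mem a.2) b.2, hm⟩
    · rintro ⟨_, a, ha, rfl⟩
      exact ⟨⟨a, ha⟩, rfl⟩
  have hoff : IsOff ρ E := by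
    refine ⟨?_, ?_⟩
    · rintro _ ⟨a, ha, rfl⟩
      rw [← map_mul, sq_eq_one hA.elem ha, map_one, map_one]
    · rw [Subgroup.card_map_of_injective hinj, hAinj,
        show Nat.card (Additive V) = Nat.card V from Nat.card_congr Additive.toMul, ← hA.meas]
      refine le_of_eq (congrArg (Nat.card A * ·) (Nat.card_congr
        { toFun := fun v => ⟨Additive.ofMul ⟨v, v.2.1⟩, ?_⟩
          invFun := fun v => ⟨((Additive.toMul v.1 : V) : G), (Additive.toMul v.1).2, ?_⟩
          left_inv := fun v => rfl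
          right_inv := fun v => rfl }))
      · rintro _ ⟨a, ha, rfl⟩
        exact congrArg Additive.ofMul (Subtype.ext (mul_inv_eq_iff_eq_mul.2 (v.2.2 a ha)))
      · intro a ha
        have := congrArg (fun x : Additive V => ((Additive.toMul x : V) : G))
          (v.2 _ ⟨a, ha, rfl⟩)
        exact mul_inv_eq_iff_eq_mul.1 this
  refine not_le_cen hA fun a ha => ?_
  rw [← QuotientGroup.eq_one_iff]
  exact hfaith _ (h _ _ ρ hS3 hO2 E hoff _ ⟨a, ha, rfl⟩)

end CfsgLib.S4NoFF
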