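import Cfsg.Agent.Lib.S4NoFF.Offender

/-!
# A natural plane gives a section `S₃`

Two elements inducing transpositions on the nonzero vectors of a plane modulo an invariant subspace.
-/

set_option autoImplicit false
set_option linter.unusedSectionVars false

namespace CfsgLib.S4NoFF

open Equiv

universe u

variable {X : Type u} [Group X] [Finite X] {V : Type u} [AddCommGroup V] [Module (ZMod 2) V]
  [Finite V] {ρ : Representation (ZMod 2) X V}

/-- `S₃` from a natural plane. -/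
theorem invHom_s3_of_plane {a b : X} {U₀ : Submodule (ZMod 2) V} {u w : V}
    (ha0 : ∀ z ∈ U₀, ρ a z ∈ U₀) (hb0 : ∀ z ∈ U₀, ρ b z ∈ U₀)
    (haw : ρ a w - w ∈ U₀) (hau : ρ a u - (u + w) ∈ U₀)
    (hbu : ρ b u - u ∈ U₀) (hbw : ρ b w - (w + u) ∈ U₀)
    (hu : u ∉ U₀) (hw : w ∉ U₀) (huw : u + w ∉ U₀) :
    CfsgLib.PLocal.InvHom (Equiv.Perm (Fin 3)) X := by
  classical
  let e : Fin 3 → V := ![u, w, u + w]
  have huniq : ∀ i j, e i - e j ∈ U₀ → i = j := by
    intro i j h
    fin_cases i <;> fin_cases j <;> simp [e] at h ⊢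
    all_goals
      first
      | exact hu (by simpa [ZModModule.neg_eq_self] using h)
      | exact hw (by simpa [ZModModule.neg_eq_self] using h)
      | exact huw (by simpa [ZModModule.sub_eq_add, add_comm] using h)
  let P : Set X := {x | (∀ z ∈ U₀, ρ x z ∈ U₀) ∧ ∃ σ : Perm (Fin 3), ∀ i, ρ x (e i) - e (σ i) ∈ U₀}
  have hmul : ∀ x ∈ P, ∀ y ∈ P, x * y ∈ P := by
    rintro x ⟨hx, σ, hσ⟩ y ⟨hy, τ, hτ⟩
    refine ⟨fun z hz => by rw [rho_mul]; exact hx _ (hy z hz), σ * τ, fun i => ?_⟩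
    have := add_mem (hx _ (hτ i)) (hσ (τ i))
    rw [map_sub] at this
    rw [rho_mul, Perm.mul_apply]
    simpa using this
  have hone : (1 : X) ∈ P := ⟨fun z hz => by rwa [rho_one], 1, fun i => by simp⟩
  let Y : Subgroup X :=
    { carrier := P
      one_mem' := hone
      mul_mem' := fun {x y} hx hy => hmul x hx y hy
      inv_mem' := fun {x} hx => by
        have hpow : ∀ k : ℕ, x ^ k ∈ P := fun k => by
          induction k with
          | zero => rw [pow_zero]; exact hone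
          | succ k ih => rw [pow_succ]; exact hmul _ ih _ hx
        have h : x⁻¹ = x ^ (orderOf x - 1) := by
          refine (eq_inv_of_mul_eq_one_left ?_).symm
          rw [← pow_succ, Nat.sub_add_cancel (orderOf_pos x), pow_orderOf_eq_one]
        rw [h]
        exact hpow _ }
  have hσ : ∀ x : Y, ∃ σ : Perm (Fin 3), ∀ i, ρ (x : X) (e i) - e (σ i) ∈ U₀ := fun x => x.2.2
  choose σ hσ using hσ
  have hval : ∀ (x : Y) (π : Perm (Fin 3)), (∀ i, ρ (x : X) (e i) - e (π i) ∈ U₀) → σ x = π := by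
    intro x π h
    refine Equiv.ext fun i => huniq _ _ ?_
    have := sub_mem (h i) (hσ x i)
    simpa using this
  let F : Y →* Perm (Fin 3) :=
    { toFun := σ
      map_one' := hval 1 1 fun i => by simp
      map_mul' := fun x y => hval _ _ fun i => by
        have := add_mem (x.2.1 _ (hσ y i)) (hσ x (σ y i))
        rw [map_sub] at this
        rw [Subgroup.coe_mul, rho_mul, Perm.mul_apply]
        simpa using this }
  have ha : ∀ i, ρ a (e i) - e (Equiv.swap 0 2 i) ∈ U₀ := by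
    intro i
    fin_cases i
    · simpa [e, Equiv.swap_apply_def] using hau
    · simpa [e, Equiv.swap_apply_def] using haw
    · have h3 : e 2 = u + w := rfl
      have h0 : e 0 = u := rfl
      show ρ a (e 2) - e (Equiv.swap 0 2 2) ∈ U₀
      rw [Equiv.swap_apply_right, h3, h0, show ρ a (u + w) - u = ρ a u - (u + w) + (ρ a w - w) +
        (w + w) by rw [map_add]; abel, ZModModule.add_self, add_zero]
      exact add_mem hau haw
  have hb : ∀ i, ρ b (e i) - e (Equiv.swap 1 2 i) ∈ U₀ := by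
    intro i
    fin_cases i
    · simpa [e, Equiv.swap_apply_def] using hbu
    · simpa [e, Equiv.swap_apply_def, add_comm] using hbw
    · have h3 : e 2 = u + w := rfl
      have h1 : e 1 = w := rfl
      show ρ b (e 2) - e (Equiv.swap 1 2 2) ∈ U₀
      rw [Equiv.swap_apply_right, h3, h1, show ρ b (u + w) - w = ρ b u - u + (ρ b w - (w + u)) +
        (u + u) by rw [map_add]; abel, ZModModule.add_self, add_zero]
      exact add_mem hbu hbw
  refine ⟨Y, F, ?_⟩
  have haY : a ∈ Y := ⟨ha0, _, ha⟩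
  have hbY : b ∈ Y := ⟨hb0, _, hb⟩
  have e1 : F ⟨a, haY⟩ = Equiv.swap 0 2 := hval _ _ ha
  have e2 : F ⟨b, hbY⟩ = Equiv.swap 1 2 := hval _ _ hb
  intro π
  obtain ⟨A, B, hA, hB⟩ :
      ∃ A B : Y, F A = Equiv.swap 0 2 ∧ F B = Equiv.swap 1 2 := ⟨_, _, e1, e2⟩
  have hdec : ∀ π : Perm (Fin 3), π = 1 ∨ π = Equiv.swap 0 2 ∨ π = Equiv.swap 1 2 ∨
      π = Equiv.swap 0 2 * Equiv.swap 1 2 ∨ π = Equiv.swap 1 2 * Equiv.swap 0 2 ∨
      π = Equiv.swap 0 2 * Equiv.swap 1 2 * Equiv.swap 0 2 := by decide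
  rcases hdec π with rfl | rfl | rfl | rfl | rfl | rfl
  · exact ⟨1, map_one F⟩
  · exact ⟨A, hA⟩
  · exact ⟨B, hB⟩
  · exact ⟨A * B, by rw [map_mul, hA, hB]⟩
  · exact ⟨B * A, by rw [map_mul, hA, hB]⟩
  · exact ⟨A * B * A, by rw [map_mul, map_mul, hA, hB]⟩

end CfsgLib.S4NoFF
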