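import Cfsg.Agent.Lib.S4NoFF.Core
import Cfsg.Agent.Lib.S4NoFF.Plane

/-!
# The configuration on the whole group

If the whole group is the minimal configuration, the translations of an offender are surjective onto
its fixed points and two of them generate a natural plane, so there is a section `S₃`.
-/

set_option autoImplicit false
set_option linter.unusedSectionVars false
set_option linter.style.haveILetI false

namespace CfsgLib.S4NoFF

open CfsgLib.LocalEven.CD (cj)
open Module

universe u

variable {X : Type u} [Group X] [Finite X] {V : Type u} [AddCommGroup V] [Module (ZMod 2) V]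
  [Finite V] {ρ : Representation (ZMod 2) X V}

/-- A moved fixed space is the fixed space of the conjugate. -/
theorem rho_mem_fixp_cj {A : Subgroup X} {g : X} {v : V} (hv : v ∈ fixp ρ A) :
    ρ g v ∈ fixp ρ (cj g A) := by
  rintro _ ⟨b, hb, rfl⟩
  show ρ (g * b * g⁻¹) (ρ g v) = ρ g v
  rw [← rho_mul, inv_mul_cancel_right, rho_mul, hv b hb]

/-- Disjoint subspaces. -/
theorem card_mul_card_le_of_disjoint {C F : Submodule (ZMod 2) V} (h : C ⊓ F = ⊥) :
    Nat.card C * Nat.card F ≤ Nat.card V := by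
  have e := Submodule.finrank_sup_add_finrank_inf_eq C F
  rw [h, finrank_bot, add_zero] at e
  rw [card_eq_two_pow (W := C), card_eq_two_pow (W := F), card_eq_two_pow (W := V), ← pow_add, ← e]
  exact Nat.pow_le_pow_right (by norm_num) (Submodule.finrank_le _)

/-- The double count: translations of a minimal offender are surjective onto its fixed points. -/
theorem surjective_of_bound {A : Subgroup X} (hA : Min ρ A)
    (hbd : ∀ a ∈ A, a ≠ 1 → Nat.card {v : V // ρ a v = v} * Nat.card (fixp ρ A) ≤ Nat.card V)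
    {v y : V} (hv : v ∉ fixp ρ A) (hy : y ∈ fixp ρ A) : ∃ a ∈ A, ρ a v - v = y := by
  classical
  letI := Fintype.ofFinite X
  letI := Fintype.ofFinite V
  set F := fixp ρ A with hFdef
  let f : V → (A →* Multiplicative F) := fun w =>
    MonoidHom.mk' (fun b => Multiplicative.ofAdd ⟨ρ (b : X) w - w, hA.quadratic b.2 w⟩)
      fun b c => congrArg Multiplicative.ofAdd (Subtype.ext (hA.add_mul b.2 c.2 w))
  let K : V → ℕ := fun w => Nat.card {b : A // ρ (b : X) w = w}
  have hker : ∀ w, Nat.card (f w).ker = K w := fun w =>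
    Nat.card_congr (Equiv.subtypeEquivRight fun b => by
      rw [MonoidHom.mem_ker]
      exact ⟨fun h => sub_eq_zero.1 (congrArg (fun t => ((Multiplicative.toAdd t : F) : V)) h),
        fun h => congrArg Multiplicative.ofAdd (Subtype.ext (sub_eq_zero.2 h))⟩)
  have hFcard : Nat.card (Multiplicative F) = Nat.card F := rfl
  have hAeq : ∀ w, Nat.card A = Nat.card (f w).range * K w := fun w => by
    rw [Subgroup.card_eq_card_quotient_mul_card_subgroup (f w).ker,
      Nat.card_congr (QuotientGroup.quotientKerEquivRange (f w)).toEquiv, hker]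
  have hle : ∀ w, Nat.card A ≤ Nat.card F * K w := fun w => by
    rw [hAeq w, ← hFcard]
    exact Nat.mul_le_mul_right _ (Subgroup.card_le_card_group _)
  by_contra hcon
  push Not at hcon
  have hlt : Nat.card A < Nat.card F * K v := by
    rw [hAeq v]
    refine (Nat.mul_lt_mul_right ?_).2 ?_
    · rw [← hker]; exact Nat.card_pos
    refine lt_of_le_of_ne (hFcard ▸ Subgroup.card_le_card_group _) fun e => ?_
    obtain ⟨b, hb⟩ : Multiplicative.ofAdd (⟨y, hy⟩ : F) ∈ (f v).range :=
      ((Subgroup.card_eq_iff_eq_top _).1 (e.trans hFcard.symm)) ▸ Subgroup.mem_top _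
    exact hcon b b.2 (congrArg (fun t => ((Multiplicative.toAdd t : F) : V)) hb)
  have hswap : ∑ w : V, K w = ∑ b : A, Nat.card {w : V // ρ (b : X) w = w} := by
    simp only [K, Nat.card_eq_fintype_card, Fintype.card_subtype, Finset.card_filter]
    rw [Finset.sum_comm]
  have hAle : ∀ b : A, Nat.card F * Nat.card {w : V // ρ (b : X) w = w} ≤
      if b = 1 then Nat.card F * Nat.card V else Nat.card V := by
    intro b
    split_ifs with hb
    · exact Nat.mul_le_mul_left _ (Nat.card_le_card_of_injective _ Subtype.val_injective)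
    · rw [mul_comm]
      exact hbd b b.2 fun e => hb (Subtype.ext e)
  have hVle : ∀ w : V, (if w ∈ F then Nat.card F * Nat.card A else Nat.card A) ≤
      Nat.card F * K w := by
    intro w
    split_ifs with hw
    · exact le_of_eq (congrArg _
        (Nat.card_congr (Equiv.subtypeUnivEquiv fun b : A => hw b b.2)).symm)
    · exact hle w
  have h1 : ∑ w : V, (if w ∈ F then Nat.card F * Nat.card A else Nat.card A) <
      Nat.card F * ∑ w : V, K w := by
    rw [Finset.mul_sum]
    refine Finset.sum_lt_sum (fun w _ => hVle w) ⟨v, Finset.mem_univ _, ?_⟩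
    rw [if_neg hv]
    exact hlt
  have h2 : Nat.card F * ∑ w : V, K w ≤
      ∑ b : A, if b = 1 then Nat.card F * Nat.card V else Nat.card V := by
    rw [hswap, Finset.mul_sum]
    exact Finset.sum_le_sum fun b _ => hAle b
  rw [Finset.sum_ite, Finset.sum_const, Finset.sum_const, smul_eq_mul, smul_eq_mul] at h1
  rw [Finset.sum_ite, Finset.sum_const, Finset.sum_const, smul_eq_mul, smul_eq_mul,
    Finset.filter_eq' Finset.univ (1 : A), if_pos (Finset.mem_univ _), Finset.card_singleton,
    one_mul] at h2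
  have hcF : (Finset.univ.filter fun w : V => w ∈ F).card = Nat.card F := by
    rw [← Fintype.card_subtype, ← Nat.card_eq_fintype_card]
  have hsum := Finset.card_filter_add_card_filter_not
    (s := (Finset.univ : Finset V)) (fun w : V => w ∈ F)
  have hsum' := Finset.card_filter_add_card_filter_not
    (s := (Finset.univ : Finset A)) (fun b : A => b = 1)
  rw [Finset.filter_eq' Finset.univ (1 : A), if_pos (Finset.mem_univ _), Finset.card_singleton,
    Finset.card_univ, ← Nat.card_eq_fintype_card] at hsum'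
  rw [hcF, Finset.card_univ, ← Nat.card_eq_fintype_card] at hsum
  rw [hcF] at h1
  have hmeas : Nat.card A * Nat.card F = Nat.card V := hA.meas
  set c := (Finset.univ.filter fun w : V => ¬ w ∈ F).card
  set d := (Finset.univ.filter fun b : A => ¬ b = 1).card
  have hc : c = d * Nat.card F := by
    have h3 : Nat.card F + c = Nat.card F + d * Nat.card F := by
      rw [hsum, ← hmeas, ← hsum']; ring
    omega
  rw [hc] at h1
  rw [← hmeas] at h2
  nlinarith [h1, h2]

/-- **The configuration cannot be the whole group.** -/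
theorem top_false {W : Submodule (ZMod 2) V} {N T : Subgroup X} (b : Base ρ W N)
    (c : Cnf ρ N ⊤ T) : False := by
  have : Fact (Nat.Prime 2) := ⟨Nat.prime_two⟩
  have hR : oTwo (⊤ : Subgroup X) = ⊥ := by
    refine b.ctx.o2 _ ⟨fun r hr x => oTwo_conj ⊤ (Subgroup.mem_top x) hr⟩ (isPGroup_oTwo _)
  obtain ⟨A, hA, hAT, hAR⟩ := c.exists_off
  set F := fixp ρ A with hF
  have hzero : ∀ {a h : X} {v : V}, a ∉ cj h N → ρ a v = v → v ∈ fixp ρ (cj h A) → v = 0 := by
    intro a h v hah h1 h2
    have := c.mem_fixp_of_gen hA hAT hAR (Subgroup.mem_top a) (Subgroup.mem_top h) hah h1 h2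
    rwa [b.fix_bot, Submodule.mem_bot] at this
  have hinter : ∀ {g : X} {v : V}, g ∉ N → v ∈ F → v ∈ fixp ρ (cj g A) → v = 0 := by
    intro g v hg h1 h2
    obtain ⟨a, haA, ha⟩ :=
      SetLike.not_le_iff_exists.1 (c.not_le_conj hA hAT hAR (Subgroup.mem_top g) hg)
    exact hzero ha (h1 a haA) h2
  have hbd : ∀ a ∈ A, a ≠ 1 →
      Nat.card {v : V // ρ a v = v} * Nat.card (fixp ρ A) ≤ Nat.card V := by
    intro a ha ha1
    obtain ⟨h, -, hah⟩ :=
      c.exists_not_mem (hAT ha) (by rw [hR, Subgroup.mem_bot]; exact ha1)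
    have e : Nat.card (fixp ρ A) = Nat.card (fixp ρ (cj h A)) := by
      refine Nat.eq_of_mul_eq_mul_left (Nat.card_pos (α := A)) ?_
      rw [hA.meas, ← (hA.conj h).meas, LocalEven.CD.card_cj]
    rw [e]
    exact card_mul_card_le_of_disjoint (C := LinearMap.eqLocus (ρ a) LinearMap.id)
      ((Submodule.eq_bot_iff _).2 fun v hv => hzero hah hv.1 hv.2)
  have hV : (⊤ : Submodule (ZMod 2) V) ≠ ⊥ := fun e =>
    b.W_ne (le_bot_iff.1 (e ▸ (le_top : W ≤ ⊤)))
  obtain ⟨y, -, hy0, hy⟩ := exists_fixed (ρ := ρ) (D := A) hV (inv_top _) fun d hd =>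
    ⟨1, fun w _ => by rw [pow_one, sq, hA.sq d hd, rho_one]⟩
  obtain ⟨g, hg⟩ : ∃ g, g ∉ N := by
    by_contra h
    push Not at h
    exact b.proper (eq_top_iff.2 fun x _ => h x)
  set u₀ := ρ g y with hu₀
  have hu₀A : u₀ ∈ fixp ρ (cj g A) := rho_mem_fixp_cj hy
  have hu₀0 : u₀ ≠ 0 := fun h => hy0 (rho_injective ρ g (h.trans (map_zero _).symm))
  have hu₀F : u₀ ∉ F := fun h => hu₀0 (hinter hg h hu₀A)
  obtain ⟨a, ha, hay⟩ := surjective_of_bound hA hbd hu₀F hy
  have hyF : ρ g⁻¹ y ∉ fixp ρ A := fun h => by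
    refine hy0 (hinter hg hy ?_)
    have := rho_mem_fixp_cj (g := g) h
    rwa [rho_self_inv] at this
  obtain ⟨q, hq, hqy⟩ := surjective_of_bound hA hbd hyF hy
  refine b.ctx.noS3 (invHom_s3_of_plane (a := a) (b := g * q * g⁻¹) (U₀ := ⊥) (u := u₀) (w := y)
    (ρ := ρ) (fun z hz => inv_bot (ρ := ρ) ⊤ a trivial z hz)
    (fun z hz => inv_bot (ρ := ρ) ⊤ _ trivial z hz) ?_ ?_ ?_ ?_ ?_ ?_ ?_)
  · rw [Submodule.mem_bot, hy a ha, sub_self]
  · rw [Submodule.mem_bot, ← hay]; abel
  · have h : ρ (g * q * g⁻¹) u₀ = u₀ := hu₀A (g * q * g⁻¹) ⟨q, hq, rfl⟩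
    rw [Submodule.mem_bot, h, sub_self]
  · have e : ρ q (ρ g⁻¹ y) = y + ρ g⁻¹ y := sub_eq_iff_eq_add.1 hqy
    rw [Submodule.mem_bot, rho_mul, rho_mul, e, map_add, rho_self_inv, hu₀]
    abel
  · rwa [Submodule.mem_bot]
  · rwa [Submodule.mem_bot]
  · rw [Submodule.mem_bot, ← ZModModule.sub_eq_add]
    exact fun h => hu₀F ((sub_eq_zero.1 h).symm ▸ hy)

end CfsgLib.S4NoFF
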