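import Cfsg.Agent.Lib.S4NoFF.Proper
import Cfsg.Agent.Lib.S4NoFF.Top
import Cfsg.Agent.Lib.S4NoFF.Reduce
import Cfsg.Agent.Lib.S4NoFF.ToGroup

/-!
# No offenders without section `S₄`
-/

set_option autoImplicit false

namespace CfsgLib.S4NoFF

universe u

/-- No irreducible counterexample. -/
theorem coreStatement : CoreStatement.{u} := by
  intro X V _ _ _ _ _ ρ hc hirr A hA
  obtain ⟨W, N, Y, T, b, c⟩ := exists_base hc hirr hA
  by_cases hY : Y = ⊤
  · subst hY
    exact top_false b c
  · exact proper_false b c hY

/-- **The lemma**: without section `S₃` an offender acts trivially. -/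
theorem noOffender : NoOffender.{u} := noOffender_of_core coreStatement

/-- In a group without section `S₄` there is no minimal offender. -/
theorem noMinAll : NoMinAll.{u} := noMinAll_of noOffender

end CfsgLib.S4NoFF
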