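import Cfsg.Agent.Lib.S4NoFF.Basic
import Cfsg.Agent.Lib.LocalEven.CDNormal
import Cfsg.Agent.Lib.LocalEven.OrbitProd
import Cfsg.Agent.Lib.Base.Cores

/-!
# Minimal offenders on a module over the field of two elements

Sections of a module, minimal offenders, their quadratic action and their behaviour on subspaces.
-/

set_option autoImplicit false
set_option linter.unusedSectionVars false

namespace CfsgLib.S4NoFF

open CfsgLib.LocalEven.CD (cj)
open Module

universe u

variable {X : Type u} [Group X] [Finite X] {V : Type u} [AddCommGroup V] [Module (ZMod 2) V]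
  [Finite V] {ρ : Representation (ZMod 2) X V}

theorem rho_mul (ρ : Representation (ZMod 2) X V) (x y : X) (v : V) :
    ρ (x * y) v = ρ x (ρ y v) := by rw [map_mul]; rfl

theorem rho_one (ρ : Representation (ZMod 2) X V) (v : V) : ρ 1 v = v := by rw [map_one]; rfl

theorem rho_inv_self (ρ : Representation (ZMod 2) X V) (x : X) (v : V) :
    ρ x⁻¹ (ρ x v) = v := by rw [← rho_mul, inv_mul_cancel, rho_one]

theorem rho_self_inv (ρ : Representation (ZMod 2) X V) (x : X) (v : V) :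
    ρ x (ρ x⁻¹ v) = v := by rw [← rho_mul, mul_inv_cancel, rho_one]

theorem rho_injective (ρ : Representation (ZMod 2) X V) (x : X) : Function.Injective (ρ x) :=
  Function.LeftInverse.injective (rho_inv_self ρ x)

/-- The rank of a subspace from its cardinality. -/
theorem card_eq_two_pow {W : Type u} [AddCommGroup W] [Module (ZMod 2) W] [Finite W] :
    Nat.card W = 2 ^ finrank (ZMod 2) W := by
  rw [Module.natCard_eq_pow_finrank (K := ZMod 2), Nat.card_eq_fintype_card, ZMod.card]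

/-- Invariance under a subgroup. -/
def Inv (ρ : Representation (ZMod 2) X V) (Y : Subgroup X) (U : Submodule (ZMod 2) V) : Prop :=
  ∀ y ∈ Y, ∀ u ∈ U, ρ y u ∈ U

/-- `x` is trivial on `U₁ / U₀`. -/
def TrivOn (ρ : Representation (ZMod 2) X V) (x : X) (U₁ U₀ : Submodule (ZMod 2) V) : Prop :=
  ∀ u ∈ U₁, ρ x u - u ∈ U₀

theorem inv_top (Y : Subgroup X) : Inv ρ Y ⊤ := fun _ _ _ _ => trivial

theorem inv_bot (Y : Subgroup X) : Inv ρ Y ⊥ := fun _ _ u hu => by
  rw [Submodule.mem_bot] at hu ⊢; rw [hu, map_zero]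

theorem inv_inf {Y : Subgroup X} {U W : Submodule (ZMod 2) V} (hU : Inv ρ Y U) (hW : Inv ρ Y W) :
    Inv ρ Y (U ⊓ W) := fun y hy v hv => ⟨hU y hy v hv.1, hW y hy v hv.2⟩

theorem inv_sup {Y : Subgroup X} {U W : Submodule (ZMod 2) V} (hU : Inv ρ Y U) (hW : Inv ρ Y W) :
    Inv ρ Y (U ⊔ W) := fun y hy v hv => by
  obtain ⟨a, ha, b, hb, rfl⟩ := Submodule.mem_sup.1 hv
  rw [map_add]
  exact Submodule.add_mem_sup (hU y hy a ha) (hW y hy b hb)

theorem inv_fixp {Y D : Subgroup X} (h : ∀ y ∈ Y, ∀ d ∈ D, y⁻¹ * d * y ∈ D) :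
    Inv ρ Y (fixp ρ D) := fun y hy v hv d hd => by
  have := hv _ (h y hy d hd)
  conv_rhs => rw [← this, ← rho_mul]
  rw [← rho_mul]
  congr 1
  group

theorem fixp_anti {A B : Subgroup X} (h : A ≤ B) : fixp ρ B ≤ fixp ρ A :=
  fun _ hv a ha => hv a (h ha)

theorem fixp_bot : fixp ρ (⊥ : Subgroup X) = ⊤ :=
  eq_top_iff.2 fun v _ e he => by rw [Subgroup.mem_bot.1 he, rho_one]

/-- The representation on a section. -/
noncomputable def sectRep {Y : Subgroup X} {U₁ U₀ : Submodule (ZMod 2) V} (h1 : Inv ρ Y U₁)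
    (h0 : Inv ρ Y U₀) : Representation (ZMod 2) Y (U₁ ⧸ U₀.comap U₁.subtype) where
  toFun y := Submodule.mapQ _ _ ((ρ y).restrict fun u hu => h1 y y.2 u hu)
    (fun u hu => h0 y y.2 _ hu)
  map_one' := by
    refine Submodule.linearMap_qext _ (LinearMap.ext fun u => ?_)
    exact congrArg (Submodule.Quotient.mk (p := U₀.comap U₁.subtype))
      (Subtype.ext (rho_one ρ u) : (⟨ρ (1 : Y) u, _⟩ : U₁) = u)
  map_mul' y z := by
    refine Submodule.linearMap_qext _ (LinearMap.ext fun u => ?_)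
    exact congrArg (Submodule.Quotient.mk (p := U₀.comap U₁.subtype))
      (Subtype.ext (rho_mul ρ y z u) : (⟨ρ ((y * z : Y) : X) u, _⟩ : U₁) = ⟨ρ y (ρ z u), _⟩)

theorem sectRep_mk {Y : Subgroup X} {U₁ U₀ : Submodule (ZMod 2) V} (h1 : Inv ρ Y U₁)
    (h0 : Inv ρ Y U₀) (y : Y) (u : U₁) :
    sectRep h1 h0 y (Submodule.Quotient.mk u) =
      Submodule.Quotient.mk (⟨ρ y u, h1 y y.2 u u.2⟩ : U₁) := rfl

theorem sectRep_eq_one {Y : Subgroup X} {U₁ U₀ : Submodule (ZMod 2) V} (h1 : Inv ρ Y U₁)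
    (h0 : Inv ρ Y U₀) (y : Y) : sectRep h1 h0 y = 1 ↔ TrivOn ρ y U₁ U₀ := by
  constructor
  · intro h u hu
    have := LinearMap.congr_fun h (Submodule.Quotient.mk ⟨u, hu⟩)
    rw [sectRep_mk, Module.End.one_apply, Submodule.Quotient.eq] at this
    simpa using this
  · intro h
    refine Submodule.linearMap_qext _ (LinearMap.ext fun u => ?_)
    simp only [LinearMap.comp_apply, Submodule.mkQ_apply, sectRep_mk, Module.End.one_apply,
      Submodule.Quotient.eq]
    simpa using h u u.2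

/-- The inductive hypothesis on proper sections. -/
def IndHyp (ρ : Representation (ZMod 2) X V) : Prop :=
  ∀ (Y : Subgroup X) (U₁ U₀ : Submodule (ZMod 2) V), Inv ρ Y U₁ → Inv ρ Y U₀ → U₀ ≤ U₁ →
    (Y ≠ ⊤ ∨ U₁ ≠ ⊤ ∨ U₀ ≠ ⊥) →
    (∀ D : Subgroup X, D ≤ Y → (∀ y ∈ Y, ∀ d ∈ D, y * d * y⁻¹ ∈ D) →
      (∀ d ∈ D, ∃ k : ℕ, TrivOn ρ (d ^ 2 ^ k) U₁ U₀) → ∀ d ∈ D, TrivOn ρ d U₁ U₀) →
    ∀ E : Subgroup X, E ≤ Y → (∀ e ∈ E, TrivOn ρ (e * e) U₁ U₀) →
      ∀ F : Submodule (ZMod 2) V, U₀ ≤ F → F ≤ U₁ → (∀ e ∈ E, TrivOn ρ e F U₀) →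
      Nat.card U₁ * Nat.card {e : E // TrivOn ρ e U₁ U₀} ≤ Nat.card E * Nat.card F →
      ∀ e ∈ E, TrivOn ρ e U₁ U₀

/-- The standing hypotheses of a counterexample. -/
structure Ctx (ρ : Representation (ZMod 2) X V) : Prop where
  inj : ∀ x : X, ρ x = 1 → x = 1
  noS3 : ¬ CfsgLib.PLocal.InvHom (Equiv.Perm (Fin 3)) X
  o2 : ∀ D : Subgroup X, D.Normal → IsPGroup 2 D → D = ⊥
  ind : IndHyp ρ

/-- A minimal offender. -/
structure Min (ρ : Representation (ZMod 2) X V) (A : Subgroup X) : Prop where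
  sq : ∀ a ∈ A, a * a = 1
  ne_bot : A ≠ ⊥
  meas : Nat.card A * Nat.card (fixp ρ A) = Nat.card V
  least : ∀ B ≤ A, B ≠ A → B ≠ ⊥ → Nat.card B * Nat.card (fixp ρ B) < Nat.card V

theorem isPGroup_of_sq {A : Subgroup X} (h : ∀ a ∈ A, a * a = 1) : IsPGroup 2 A :=
  fun a => ⟨1, Subtype.ext (by simpa [sq] using h a a.2)⟩

theorem comm_of_sq {A : Subgroup X} (h : ∀ a ∈ A, a * a = 1) {a b : X} (ha : a ∈ A) (hb : b ∈ A) :
    a * b = b * a := by
  have ea := inv_eq_of_mul_eq_one_right (h a ha)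
  have eb := inv_eq_of_mul_eq_one_right (h b hb)
  have eab := inv_eq_of_mul_eq_one_right (h _ (mul_mem ha hb))
  rw [← eab, mul_inv_rev, ea, eb]

/-- A fixed vector of a subgroup inducing a `2`-group. -/
theorem exists_fixed {D : Subgroup X} {W : Submodule (ZMod 2) V} (hW : W ≠ ⊥) (hinv : Inv ρ D W)
    (hD : ∀ d ∈ D, ∃ k : ℕ, ∀ w ∈ W, ρ (d ^ 2 ^ k) w = w) :
    ∃ w ∈ W, w ≠ 0 ∧ ∀ d ∈ D, ρ d w = w := by
  have : Fact (Nat.Prime 2) := ⟨Nat.prime_two⟩
  let φ : D →* Module.End (ZMod 2) W :=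
    { toFun := fun d => (ρ d).restrict fun u hu => hinv d d.2 u hu
      map_one' := LinearMap.ext fun u => Subtype.ext (rho_one ρ u)
      map_mul' := fun a b => LinearMap.ext fun u => Subtype.ext (rho_mul ρ a b u) }
  have hP : IsPGroup 2 (MonoidHom.toHomUnits φ).range := by
    rintro ⟨_, d, rfl⟩
    obtain ⟨k, hk⟩ := hD d d.2
    refine ⟨k, Subtype.ext ?_⟩
    rw [SubmonoidClass.coe_pow, OneMemClass.coe_one, ← map_pow]
    refine Units.ext (LinearMap.ext fun u => Subtype.ext ?_)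
    exact hk u u.2
  obtain ⟨w₀, hw₀⟩ : ∃ w : W, w ≠ 0 :=
    ⟨⟨_, (Submodule.exists_mem_ne_zero_of_ne_bot hW).choose_spec.1⟩, fun e =>
      (Submodule.exists_mem_ne_zero_of_ne_bot hW).choose_spec.2 (congrArg Subtype.val e)⟩
  have hdvd : 2 ∣ Nat.card W := by
    rw [card_eq_two_pow]
    refine dvd_pow_self 2 ?_
    have : Nontrivial W := ⟨⟨w₀, 0, hw₀⟩⟩
    exact (Module.finrank_pos).ne'
  obtain ⟨w, hw, hne⟩ := hP.exists_fixed_point_of_prime_dvd_card_of_fixed_point W hdvd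
    (a := 0) (fun g => smul_zero g)
  refine ⟨w, w.2, fun e => hne (Subtype.ext e.symm), fun d hd => ?_⟩
  exact congrArg Subtype.val (hw ⟨_, ⟨d, hd⟩, rfl⟩)

/-- An offender contains a minimal one. -/
theorem exists_min (hinj : ∀ x : X, ρ x = 1 → x = 1) {E : Subgroup X} (hE : ∀ a ∈ E, a * a = 1)
    (hne : E ≠ ⊥) (hoff : Nat.card V ≤ Nat.card E * Nat.card (fixp ρ E)) :
    ∃ A ≤ E, Min ρ A := by
  have : Fact (Nat.Prime 2) := ⟨Nat.prime_two⟩
  obtain ⟨A, ⟨hAE, hA0, hAoff⟩, hmin⟩ := Set.exists_min_image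
    {A : Subgroup X | A ≤ E ∧ A ≠ ⊥ ∧ Nat.card V ≤ Nat.card A * Nat.card (fixp ρ A)}
    (fun A => Nat.card A) (Set.toFinite _) ⟨E, le_rfl, hne, hoff⟩
  have hsq : ∀ a ∈ A, a * a = 1 := fun a ha => hE a (hAE ha)
  have hleast : ∀ B ≤ A, B ≠ A → B ≠ ⊥ → Nat.card B * Nat.card (fixp ρ B) < Nat.card V := by
    intro B hB hne' hB0
    by_contra hlt
    push Not at hlt
    exact hne' (Subgroup.eq_of_le_of_card_ge hB (hmin B ⟨hB.trans hAE, hB0, hlt⟩))
  refine ⟨A, hAE, hsq, hA0, le_antisymm ?_ hAoff, hleast⟩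
  obtain ⟨A₁, -, hA₁, hcA, b, hbA, hbA₁, -⟩ :=
    LocalEven.exists_index_p (p := 2) (isPGroup_of_sq hsq) (bot_lt_iff_ne_bot.2 hA0)
  obtain ⟨i, hi⟩ := IsPGroup.iff_card.1 ((isPGroup_of_sq hsq).to_le hA₁)
  rw [hcA, hi, card_eq_two_pow (W := V), card_eq_two_pow (W := fixp ρ A), ← pow_succ', ← pow_add]
  refine Nat.pow_le_pow_right (by norm_num) ?_
  by_cases h0 : A₁ = ⊥
  · have h1 : fixp ρ A ≠ ⊤ := by
      intro e
      refine hA0 ((Subgroup.eq_bot_iff_forall _).2 fun a ha => hinj a (LinearMap.ext fun v => ?_))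
      exact (show v ∈ fixp ρ A by rw [e]; trivial) a ha
    have h2 := Submodule.finrank_lt h1
    rw [h0, Subgroup.card_bot] at hi
    have : i = 0 := (Nat.pow_eq_one.1 hi.symm).resolve_left (by norm_num)
    omega
  · have h := hleast A₁ hA₁ (fun e => hbA₁ (e ▸ hbA)) h0
    rw [hi, card_eq_two_pow (W := V), card_eq_two_pow (W := fixp ρ A₁), ← pow_add,
      Nat.pow_lt_pow_iff_right (show 1 < 2 by norm_num)] at h
    have := Submodule.finrank_mono (fixp_anti (ρ := ρ) hA₁)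
    omega

namespace Min

variable {A : Subgroup X}

theorem conj (h : Min ρ A) (x : X) : Min ρ (cj x A) := by
  have key : ∀ (B : Subgroup X), Nat.card (fixp ρ (cj x B)) = Nat.card (fixp ρ B) := by
    intro B
    refine Nat.card_congr (Equiv.ofBijective
      (fun v : fixp ρ (cj x B) => (⟨ρ x⁻¹ v, fun b hb => ?_⟩ : fixp ρ B)) ⟨?_, ?_⟩)
    · have := v.2 _ ⟨b, hb, rfl⟩
      conv_rhs => rw [← this, ← rho_mul]
      rw [← rho_mul]
      congr 1
      simp [mul_assoc]
    · exact fun v w e => Subtype.ext (rho_injective ρ x⁻¹ (congrArg Subtype.val e))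
    · rintro ⟨w, hw⟩
      refine ⟨⟨ρ x w, ?_⟩, Subtype.ext (rho_inv_self ρ x w)⟩
      rintro _ ⟨b, hb, rfl⟩
      show ρ (x * b * x⁻¹) (ρ x w) = ρ x w
      rw [← rho_mul, inv_mul_cancel_right, rho_mul, hw b hb]
  refine ⟨?_, fun e => h.ne_bot ((Subgroup.map_eq_bot_iff_of_injective _
    (MulAut.conj x).injective).1 e), ?_, ?_⟩
  · rintro _ ⟨a, ha, rfl⟩
    rw [← map_mul, h.sq a ha, map_one]
  · rw [key, LocalEven.CD.card_cj, h.meas]
  · intro B hB hne hne0
    have e : cj x (cj x⁻¹ B) = B := by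
      rw [LocalEven.CD.cj_cj, mul_inv_cancel, LocalEven.CD.cj_one]
    rw [← e, key, LocalEven.CD.card_cj]
    refine h.least _ ?_ (fun e' => hne ?_) fun e' => hne0 ?_
    · have := LocalEven.CD.cj_mono x⁻¹ hB
      rwa [LocalEven.CD.cj_cj, inv_mul_cancel, LocalEven.CD.cj_one] at this
    · rw [← e, e']
    · rw [← e, e', cj, Subgroup.map_bot]

/-- The pointwise stabiliser in `A` of a set of vectors. -/
def stab (ρ : Representation (ZMod 2) X V) (A : Subgroup X) (G : Submodule (ZMod 2) V) :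
    Subgroup X where
  carrier := {a | a ∈ A ∧ ∀ g ∈ G, ρ a g = g}
  one_mem' := ⟨one_mem _, fun g _ => rho_one ρ g⟩
  mul_mem' := fun {a b} ha hb => ⟨mul_mem ha.1 hb.1, fun g hg => by
    rw [rho_mul, hb.2 g hg, ha.2 g hg]⟩
  inv_mem' := fun {a} ha => ⟨inv_mem ha.1, fun g hg => by
    conv_lhs => rw [← ha.2 g hg]
    exact rho_inv_self ρ a g⟩

theorem stab_le (A : Subgroup X) (G : Submodule (ZMod 2) V) : stab ρ A G ≤ A := fun _ h => h.1

theorem meas_le (h : Min ρ A) {B : Subgroup X} (hB : B ≤ A) :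
    Nat.card B * Nat.card (fixp ρ B) ≤ Nat.card V := by
  by_cases h0 : B = ⊥
  · rw [h0, Subgroup.card_bot, one_mul]
    exact Nat.card_le_card_of_injective _ Subtype.val_injective
  by_cases hA : B = A
  · rw [hA, h.meas]
  exact (h.least B hB hA h0).le

/-- A minimal offender is an offender on every subspace. -/
theorem restrict (h : Min ρ A) (G : Submodule (ZMod 2) V) :
    Nat.card G * Nat.card (stab ρ A G) ≤ Nat.card A * Nat.card ↥(G ⊓ fixp ρ A) := by
  have hle : G ⊔ fixp ρ A ≤ fixp ρ (stab ρ A G) :=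
    sup_le (fun g hg a ha => ha.2 g hg) (fixp_anti (stab_le A G))
  have h1 := (Nat.mul_le_mul_left (Nat.card (stab ρ A G))
    (Nat.card_le_card_of_injective _ (Submodule.inclusion_injective hle))).trans
    (h.meas_le (stab_le A G))
  rw [← h.meas, card_eq_two_pow (W := ↥(G ⊔ fixp ρ A)), card_eq_two_pow (W := fixp ρ A)] at h1
  rw [card_eq_two_pow (W := G), card_eq_two_pow (W := ↥(G ⊓ fixp ρ A))]
  have h2 := Submodule.finrank_sup_add_finrank_inf_eq G (fixp ρ A)
  refine Nat.le_of_mul_le_mul_right ?_ (Nat.two_pow_pos (finrank (ZMod 2) (fixp ρ A)))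
  calc 2 ^ finrank (ZMod 2) G * Nat.card (stab ρ A G) * 2 ^ finrank (ZMod 2) (fixp ρ A)
      = Nat.card (stab ρ A G) * 2 ^ finrank (ZMod 2) ↥(G ⊔ fixp ρ A) *
          2 ^ finrank (ZMod 2) ↥(G ⊓ fixp ρ A) := by
        rw [mul_assoc (Nat.card (stab ρ A G)), ← pow_add, h2, pow_add]; ring
    _ ≤ Nat.card A * 2 ^ finrank (ZMod 2) (fixp ρ A) * 2 ^ finrank (ZMod 2) ↥(G ⊓ fixp ρ A) :=
        Nat.mul_le_mul_right _ h1
    _ = _ := by ring

end Min

/-- A nilpotent family of operators cannot generate a module from its images. -/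
theorem le_of_le_sum_image {W : Type*} [AddCommGroup W] [Module (ZMod 2) W] {ι : Type*}
    (s : Finset ι) (n : ι → Module.End (ZMod 2) W) (hn : ∀ i v, n i (n i v) = 0)
    {U : Submodule (ZMod 2) W} (hU : ∀ i, U.map (n i) ≤ U) :
    ∀ K : Submodule (ZMod 2) W, (∀ i, K.map (n i) ≤ K) →
      (∀ i j v, n i (n j v) = n j (n i v)) → U ≤ (⨆ i ∈ s, U.map (n i)) ⊔ K → U ≤ K := by
  classical
  induction s using Finset.induction_on with
  | empty => intro K _ _ h; simpa using h
  | insert a s _ ih =>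
    intro K hK hc h
    rw [Finset.iSup_insert] at h
    have hK' : ∀ i, (U.map (n a) ⊔ K).map (n i) ≤ U.map (n a) ⊔ K := by
      intro i
      rw [Submodule.map_sup]
      refine sup_le ?_ ((hK i).trans le_sup_right)
      refine le_trans ?_ le_sup_left
      rintro _ ⟨_, ⟨u, hu, rfl⟩, rfl⟩
      exact ⟨n i u, hU i ⟨u, hu, rfl⟩, hc a i u⟩
    have h1 : U ≤ U.map (n a) ⊔ K :=
      ih _ hK' hc (by rwa [← sup_assoc, sup_comm (⨆ i ∈ s, U.map (n i))])
    refine h1.trans (sup_le ?_ le_rfl)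
    rintro _ ⟨u, hu, rfl⟩
    obtain ⟨_, ⟨x, -, rfl⟩, k, hk, rfl⟩ := Submodule.mem_sup.1 (h1 hu)
    rw [map_add, hn, zero_add]
    exact hK a ⟨k, hk, rfl⟩

/-- A minimal offender acts quadratically. -/
theorem Min.quadratic {A : Subgroup X} (h : Min ρ A) {a : X} (ha : a ∈ A) (v : V) :
    ρ a v - v ∈ fixp ρ A := by
  classical
  set n : A → Module.End (ZMod 2) V := fun b => ρ b - 1 with hn
  have hcomm : ∀ (b c : A) (w : V), n b (n c w) = n c (n b w) := by
    intro b c w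
    simp only [hn, LinearMap.sub_apply, Module.End.one_apply, map_sub]
    rw [← rho_mul, ← rho_mul, comm_of_sq h.sq b.2 c.2]
    abel
  have hnn : ∀ (b : A) (w : V), n b (n b w) = 0 := by
    intro b w
    simp only [hn, LinearMap.sub_apply, Module.End.one_apply, map_sub]
    rw [← rho_mul, h.sq b b.2, rho_one]
    calc w - ρ b w - (ρ b w - w) = (w - ρ b w) + (w - ρ b w) := by abel
      _ = 0 := ZModModule.add_self _
  by_cases hv : v ∈ fixp ρ A
  · rw [hv a ha, sub_self]; exact zero_mem _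
  set K := fixp ρ A
  set M := Submodule.span (ZMod 2) (Set.range fun b : A => n b v) ⊔ K with hM
  have hKn : ∀ (b : A) k, k ∈ K → n b k = 0 := fun b k hk => by simp [hn, hk b b.2]
  have hvM : v ∉ M := by
    intro hvM
    set U := Submodule.span (ZMod 2) (Set.insert v (Set.range fun b : A => n b v))
    have hU : ∀ b, U.map (n b) ≤ U := by
      intro b
      rw [Submodule.map_span, Submodule.span_le]
      rintro _ ⟨u, hu, rfl⟩
      rcases hu with rfl | ⟨c, rfl⟩
      · exact Submodule.subset_span (Or.inr ⟨b, rfl⟩)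
      · have e : n b (n c v) = n (b * c) v - n b v - n c v := by
          simp only [hn, LinearMap.sub_apply, Module.End.one_apply, map_sub, Subgroup.coe_mul,
            rho_mul]
          abel
        show n b (n c v) ∈ U
        rw [e]
        exact sub_mem (sub_mem (Submodule.subset_span (Or.inr ⟨_, rfl⟩))
          (Submodule.subset_span (Or.inr ⟨_, rfl⟩))) (Submodule.subset_span (Or.inr ⟨_, rfl⟩))
    have := Fintype.ofFinite A
    refine hv (le_of_le_sum_image Finset.univ n hnn hU K (fun b => ?_) hcomm ?_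
      (Submodule.subset_span (Or.inl rfl)))
    · rintro _ ⟨k, hk, rfl⟩; rw [hKn b k hk]; exact zero_mem _
    · have hspan : Submodule.span (ZMod 2) (Set.range fun b : A => n b v) ≤
          ⨆ i ∈ (Finset.univ : Finset A), U.map (n i) := by
        rw [Submodule.span_le]
        rintro _ ⟨b, rfl⟩
        exact Submodule.mem_iSup_of_mem b (Submodule.mem_iSup_of_mem (Finset.mem_univ b)
          ⟨v, Submodule.subset_span (Or.inl rfl), rfl⟩)
      rw [Submodule.span_le]
      rintro u (rfl | ⟨b, rfl⟩)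
      · exact sup_le_sup_right hspan K (hM ▸ hvM)
      · exact Submodule.mem_sup_left (hspan (Submodule.subset_span ⟨b, rfl⟩))
  set A' := Min.stab ρ A M with hA'
  have hA'v : ∀ b : A, n b v ∈ K → (b : X) ∈ A' := by
    intro b hb
    refine ⟨b.2, fun m hm => sub_eq_zero.1 ?_⟩
    show n b m = 0
    have hle : M ≤ LinearMap.ker (n b) := by
      refine sup_le (Submodule.span_le.2 ?_) fun k hk => hKn b k hk
      rintro _ ⟨c, rfl⟩
      exact LinearMap.mem_ker.2 ((hcomm b c v).trans (hKn c _ hb))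
    exact LinearMap.mem_ker.1 (hle hm)
  -- the count
  have hcount : Nat.card A * Nat.card K ≤ Nat.card A' * Nat.card M := by
    let f : A → ↥M ⧸ K.comap M.subtype := fun b =>
      Submodule.Quotient.mk ⟨n b v, Submodule.mem_sup_left (Submodule.subset_span ⟨b, rfl⟩)⟩
    have hf : ∀ b c, f b = f c → (b : X)⁻¹ * c ∈ A' := by
      intro b c e
      rw [Submodule.Quotient.eq] at e
      refine hA'v (b⁻¹ * c) ?_
      have e' : n b v - n c v ∈ K := e
      have e2 : n (b⁻¹ * c) v = ρ (b : X)⁻¹ (n c v - n b v) := by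
        simp only [hn, LinearMap.sub_apply, Module.End.one_apply, map_sub, Subgroup.coe_mul,
          InvMemClass.coe_inv, rho_mul, rho_inv_self]
        abel
      rw [e2, (sub_mem (zero_mem K) e' |> fun t => by simpa using t : n c v - n b v ∈ K)
        (b : X)⁻¹ (inv_mem b.2)]
      simpa using sub_mem (zero_mem K) e'
    have hK : Nat.card M = Nat.card (↥M ⧸ K.comap M.subtype) * Nat.card K := by
      rw [Submodule.card_eq_card_quotient_mul_card (K.comap M.subtype), mul_comm]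
      congr 1
      exact Nat.card_congr (Submodule.comapSubtypeEquivOfLe le_sup_right).toEquiv
    have h1 : Nat.card A ≤ Nat.card A' * Nat.card (↥M ⧸ K.comap M.subtype) := by
      rw [← Nat.card_prod]
      let g : A → A' × (↥M ⧸ K.comap M.subtype) := fun b =>
        (⟨((Function.invFun f (f b) : A) : X)⁻¹ * b, hf _ _ (Function.invFun_eq ⟨b, rfl⟩)⟩, f b)
      have : Finite (↥M ⧸ K.comap M.subtype) := Finite.of_surjective _ Quotient.mk''_surjective
      refine Nat.card_le_card_of_injective g fun b c e => ?_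
      have e2 : f b = f c := congrArg Prod.snd e
      have e1 := congrArg (fun t => ((Prod.fst t : A') : X)) e
      simp only [g, e2, mul_right_inj] at e1
      exact Subtype.ext e1
    rw [hK, ← mul_assoc]
    exact Nat.mul_le_mul_right _ h1
  rw [h.meas] at hcount
  by_cases hA'A : A' = A
  · intro b hb
    refine sub_eq_zero.1 ?_
    have hb' : b ∈ A' := hA'A.symm ▸ hb
    exact sub_eq_zero.2 (hb'.2 _ (Submodule.mem_sup_left (Submodule.subset_span ⟨⟨a, ha⟩, rfl⟩)))
  exfalso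
  by_cases h0 : A' = ⊥
  · rw [h0, Subgroup.card_bot, one_mul, card_eq_two_pow (W := V), card_eq_two_pow (W := M),
      Nat.pow_le_pow_iff_right (show 1 < 2 by norm_num)] at hcount
    have hne : M ≠ ⊤ := fun e => hvM (e ▸ trivial)
    have := Submodule.finrank_lt hne
    omega
  · refine (h.least A' (Min.stab_le A M) hA'A h0).not_ge (hcount.trans (Nat.mul_le_mul_left _ ?_))
    exact Nat.card_le_card_of_injective _ (Submodule.inclusion_injective
      (show M ≤ fixp ρ A' from fun m hm b hb => hb.2 m hm))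

/-- The translations `a - 1` of a minimal offender add up. -/
theorem Min.add_mul {A : Subgroup X} (h : Min ρ A) {a b : X} (ha : a ∈ A) (hb : b ∈ A) (v : V) :
    ρ (a * b) v - v = (ρ a v - v) + (ρ b v - v) := by
  have := h.quadratic hb v a ha
  rw [map_sub] at this
  rw [rho_mul, ← sub_eq_zero]
  have e : ρ a (ρ b v) = ρ b v - v + ρ a v := by rw [← this]; abel
  rw [e]; abel

end CfsgLib.S4NoFF
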