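import Cfsg.Agent.Lib.S4NoFF.Core
import Cfsg.Agent.Lib.S4NoFF.Plane
import Cfsg.Agent.Lib.S4NoFF.Charpoly

/-!
# A proper configuration is impossible

With `B = A ⊓ O₂(Y)` and `R₀` its normal closure, `R₀` pairs the span `U` of the conjugates of `W`
into the fixed points of `Y`. A smallest subspace on which this pairing is most deficient is
invariant under all products of translations, which is excluded by `no_regular_family`.
-/

set_option autoImplicit false
set_option linter.unusedSectionVars false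
set_option maxHeartbeats 1000000

namespace CfsgLib.S4NoFF

open CfsgLib.LocalEven.CD (cj)
open CfsgLib.Fusion hiding cj
open Module

universe u

variable {X : Type u} [Group X] [Finite X] {V : Type u} [AddCommGroup V] [Module (ZMod 2) V]
  [Finite V] {ρ : Representation (ZMod 2) X V}

/-- The translation `x - 1`. -/
def nn (ρ : Representation (ZMod 2) X V) (x : X) : Module.End (ZMod 2) V := ρ x - 1

theorem nn_apply (x : X) (v : V) : nn ρ x v = ρ x v - v := rfl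

theorem rho_eq_add (x : X) (v : V) : ρ x v = v + nn ρ x v := by rw [nn_apply]; abel

/-- A subgroup fixing a vector. -/
def fixer (ρ : Representation (ZMod 2) X V) (v : V) : Subgroup X where
  carrier := {x | ρ x v = v}
  one_mem' := rho_one ρ v
  mul_mem' := fun {x y} hx hy => by
    show ρ (x * y) v = v
    rw [rho_mul, hy, hx]
  inv_mem' := fun {x} hx => by
    show ρ x⁻¹ v = v
    conv_lhs => rw [← hx]
    exact rho_inv_self ρ x v

/-- A property closed under powers holds at an element if it holds at its two parts. -/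
theorem mem_of_parts {D : Subgroup X} {y : X} {n m : ℕ} (hm : Odd m) (_e : orderOf y = 2 ^ n * m)
    (h1 : y ^ m ∈ D) (h2 : y ^ 2 ^ n ∈ D) : y ∈ D := by
  have hco : Nat.gcd m (2 ^ n) = 1 := hm.coprime_two_right.pow_right n
  have hb2 := Nat.gcd_eq_gcd_ab m (2 ^ n)
  rw [hco, Nat.cast_one] at hb2
  have : y = (y ^ m) ^ (Nat.gcdA m (2 ^ n)) * (y ^ 2 ^ n) ^ (Nat.gcdB m (2 ^ n)) := by
    rw [← zpow_natCast, ← zpow_natCast, ← zpow_mul, ← zpow_mul, ← zpow_add, ← hb2, zpow_one]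
  rw [this]
  exact mul_mem (Subgroup.zpow_mem _ h1 _) (Subgroup.zpow_mem _ h2 _)

/-- The data: a proper configuration with an offender outside `O₂(Y)`. -/
structure Prop₄ (ρ : Representation (ZMod 2) X V) (W : Submodule (ZMod 2) V)
    (N Y T A : Subgroup X) : Prop where
  base : Base ρ W N
  cnf : Cnf ρ N Y T
  ne_top : Y ≠ ⊤
  minA : Min ρ A
  AT : A ≤ T
  notR : ¬ A ≤ oTwo Y

namespace Prop₄

variable {W : Submodule (ZMod 2) V} {N Y T A : Subgroup X} (d : Prop₄ ρ W N Y T A)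

include d

theorem AY : A ≤ Y := d.AT.trans d.cnf.TY

theorem W_le : W ≤ fixp ρ A := d.base.off A d.minA (d.AT.trans d.cnf.TN)

theorem cjA_le {y : X} (hy : y ∈ Y) : cj y A ≤ Y := by
  rintro _ ⟨a, ha, rfl⟩
  exact mul_mem (mul_mem hy (d.AY ha)) (inv_mem hy)

theorem exists_sep {y : X} (hy : y ∈ Y) (hyN : y ∉ N) : ∃ a ∈ A, a ∉ cj y N :=
  SetLike.not_le_iff_exists.1 (d.cnf.not_le_conj d.minA d.AT d.notR hy hyN)

theorem inv_fix : Inv ρ Y (fixp ρ Y) := fun y hy v hv => by rw [hv y hy]; exact hv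

theorem meet {y : X} (hy : y ∈ Y) (hyN : y ∉ N) :
    fixp ρ A ⊓ fixp ρ (cj y A) ≤ fixp ρ Y := by
  obtain ⟨a, ha, han⟩ := d.exists_sep hy hyN
  exact fun v hv =>
    d.cnf.mem_fixp_of_gen d.minA d.AT d.notR (d.AY ha) hy han (hv.1 a ha) hv.2

theorem fix_odd_A : fixp ρ (oddGen Y) ⊓ fixp ρ A ≤ fixp ρ Y := by
  intro v hv
  obtain ⟨y, hy, hyN⟩ := SetLike.not_le_iff_exists.1 d.cnf.not_oddGen_le
  refine d.meet (oddGen_le Y hy) hyN ⟨hv.2, ?_⟩
  rintro _ ⟨a, ha, rfl⟩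
  show ρ (y * a * y⁻¹) v = v
  rw [rho_mul, hv.1 y⁻¹ (inv_mem hy), rho_mul, hv.2 a ha, hv.1 y hy]

/-- A module fixed by `A ⊓ O₂(Y)` is centralised by the odd part of `Y`. -/
theorem kill {U : Submodule (ZMod 2) V} (hU : Inv ρ Y U)
    (hB : ∀ a ∈ A, a ∈ oTwo Y → ∀ u ∈ U, ρ a u = u) : U ≤ fixp ρ (oddGen Y) := by
  classical
  have : Fact (Nat.Prime 2) := ⟨Nat.prime_two⟩
  have c := d.cnf
  have hKinv : Inv ρ Y (fixp ρ (oddGen Y)) := inv_fixp fun y hy k hk => by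
    simpa using oddGen_conj Y (inv_mem hy) hk
  set U₀ := U ⊓ fixp ρ (oddGen Y) with hU₀
  have h0 : Inv ρ Y U₀ := inv_inf hU hKinv
  by_contra hne
  let U' : Submodule (ZMod 2) V :=
    { carrier := {u | u ∈ U ∧ ∀ r ∈ oTwo Y, ρ r u - u ∈ U₀}
      add_mem' := fun {u v} hu hv => ⟨add_mem hu.1 hv.1, fun r hr => by
        have := add_mem (hu.2 r hr) (hv.2 r hr)
        rwa [map_add, add_sub_add_comm]⟩
      zero_mem' := ⟨zero_mem _, fun r _ => by rw [map_zero, sub_zero]; exact zero_mem _⟩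
      smul_mem' := fun k {u} hu => ⟨U.smul_mem k hu.1, fun r hr => by
        rw [map_smul, ← smul_sub]; exact U₀.smul_mem k (hu.2 r hr)⟩ }
  have h1 : Inv ρ Y U' := fun y hy u hu => ⟨hU y hy u hu.1, fun r hr => by
    have h2 := h0 y hy _ (hu.2 _ (oTwo_conj Y (inv_mem hy) hr))
    rw [map_sub, ← rho_mul] at h2
    rw [← rho_mul]
    convert h2 using 3
    group⟩
  have hle : U₀ ≤ U' := fun u hu => ⟨hu.1, fun r hr =>
    sub_mem (h0 r (oTwo_le Y hr) u hu) hu⟩
  have hU'U : U' ≤ U := fun u hu => hu.1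
  -- there is a new fixed point
  have hne' : ¬ U' ≤ U₀ := by
    intro hle'
    have hne0 : (⊤ : Submodule (ZMod 2) (↥U ⧸ U₀.comap U.subtype)) ≠ ⊥ := by
      intro e
      refine hne fun u hu => ?_
      have h3 : (Submodule.Quotient.mk ⟨u, hu⟩ : ↥U ⧸ U₀.comap U.subtype) ∈
          (⊥ : Submodule (ZMod 2) _) := e ▸ trivial
      rw [Submodule.mem_bot, Submodule.Quotient.mk_eq_zero] at h3
      exact h3.2
    have : Finite (↥U ⧸ U₀.comap U.subtype) := Finite.of_surjective _ Quotient.mk''_surjective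
    obtain ⟨q, -, hq0, hq⟩ := exists_fixed (ρ := sectRep hU h0) (D := (oTwo Y).subgroupOf Y) hne0
      (inv_top _) fun r hr => by
        obtain ⟨k, hk⟩ := isPGroup_oTwo Y ⟨(r : X), hr⟩
        exact ⟨k, fun w _ => by
          rw [show r ^ 2 ^ k = 1 from Subtype.ext (by simpa using congrArg Subtype.val hk),
            rho_one]⟩
    obtain ⟨⟨u, hu⟩, rfl⟩ := Submodule.Quotient.mk_surjective _ q
    refine hq0 ((Submodule.Quotient.mk_eq_zero _).2 (hle' ⟨hu, fun r hr => ?_⟩))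
    have h4 := hq ⟨r, oTwo_le Y hr⟩ hr
    rw [sectRep_mk, Submodule.Quotient.eq] at h4
    exact h4
  -- the kernel of `Y` on `U' / U₀`
  set D₀ : Subgroup X :=
    { carrier := {x | x ∈ Y ∧ TrivOn ρ x U' U₀}
      one_mem' := ⟨one_mem _, fun u _ => by rw [rho_one, sub_self]; exact zero_mem _⟩
      mul_mem' := fun {p q} hp hq => ⟨mul_mem hp.1 hq.1, fun u hu => by
        have h2 := add_mem (h0 p hp.1 _ (hq.2 u hu)) (hp.2 u hu)
        rwa [map_sub, ← rho_mul, sub_add_sub_cancel] at h2⟩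
      inv_mem' := fun {p} hp => ⟨inv_mem hp.1, fun u hu => by
        have h2 := neg_mem (h0 p⁻¹ (inv_mem hp.1) _ (hp.2 u hu))
        rwa [map_sub, rho_inv_self, neg_sub] at h2⟩ } with hD₀
  have hD₀iff : ∀ x, x ∈ D₀ ↔ x ∈ Y ∧ TrivOn ρ x U' U₀ := fun _ => Iff.rfl
  have hK : ¬ oddGen Y ≤ D₀ := by
    intro hle0
    refine hne' fun u hu => ⟨hu.1, ?_⟩
    suffices h : oddGen Y ≤ fixer ρ u from fun k hk => h hk
    refine (Subgroup.closure_le _).2 fun z hz => ?_
    obtain ⟨hzY, htriv⟩ := (hD₀iff z).1 (hle0 (Subgroup.subset_closure hz))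
    have h5 : ρ z (ρ z u - u) = ρ z u - u := (htriv u hu).2 z (Subgroup.subset_closure hz)
    refine mem_of_odd hz.2 (k := 1) ?_
    show ρ (z ^ 2 ^ 1) u = u
    rw [map_sub] at h5
    have e : ρ z (ρ z u) = ρ z u - u + ρ z u := by rw [← h5]; abel
    calc ρ (z ^ 2 ^ 1) u = ρ z (ρ z u) := by rw [pow_one, sq, rho_mul]
      _ = (ρ z u + ρ z u) - u := by rw [e]; abel
      _ = u := by rw [ZModModule.add_self, zero_sub, ZModModule.neg_eq_self]
  have hnorm : ∀ y ∈ Y, ∀ z ∈ D₀, y * z * y⁻¹ ∈ D₀ := fun y hy z hz =>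
    ⟨mul_mem (mul_mem hy hz.1) (inv_mem hy), fun u hu => by
      have h2 := h0 y hy _ (hz.2 _ (h1 y⁻¹ (inv_mem hy) u hu))
      rwa [map_sub, rho_self_inv, ← rho_mul, ← rho_mul] at h2⟩
  have hker : ∀ a ∈ A, TrivOn ρ a U' U₀ → a ∈ oTwo Y := by
    intro a ha htriv
    rcases c.normal_cases (D := D₀) (fun x hx => hx.1) hnorm with h | ⟨-, h⟩
    · exact absurd h hK
    · exact h ⟨d.AT ha, (hD₀iff a).2 ⟨d.AY ha, htriv⟩⟩
  have hC : ∀ D : Subgroup X, D ≤ Y → (∀ y ∈ Y, ∀ z ∈ D, y * z * y⁻¹ ∈ D) →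
      (∀ z ∈ D, ∃ k : ℕ, TrivOn ρ (z ^ 2 ^ k) U' U₀) → ∀ z ∈ D, TrivOn ρ z U' U₀ := by
    intro D hDY hDn hD2 z hz
    rcases c.normal_cases hDY hDn with h | ⟨-, h⟩
    · refine absurd ((Subgroup.closure_le _).2 fun y hy => ?_) hK
      obtain ⟨k, hk⟩ := hD2 y (h (Subgroup.subset_closure hy))
      exact mem_of_odd hy.2 ((hD₀iff _).2 ⟨pow_mem hy.1 _, hk⟩)
    · have hR : oTwo Y ≤ D₀ := fun r hr =>
        (hD₀iff r).2 ⟨oTwo_le Y hr, fun u hu => hu.2 r hr⟩
      refine ((hD₀iff z).1 ?_).2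
      obtain ⟨n, m, hm, e⟩ := Nat.exists_eq_two_pow_mul_odd (orderOf_pos z).ne'
      have hzY := hDY hz
      refine mem_of_parts hm e (hR ?_) ?_
      · have hzp : IsPGroup 2 (Subgroup.zpowers (z ^ m)) := by
          obtain ⟨j, -, hj⟩ := (Nat.dvd_prime_pow Nat.prime_two).1
            (orderOf_dvd_of_pow_eq_one (show (z ^ m) ^ 2 ^ n = 1 by
              rw [← pow_mul, mul_comm, ← e, pow_orderOf_eq_one]))
          exact IsPGroup.iff_card.2 ⟨j, by rw [Nat.card_zpowers, hj]⟩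
        obtain ⟨x, hx, hxT⟩ := (isSylIn_inf c.syl hDY hDn).exists_conj_le hzp
          (Subgroup.zpowers_le.2 (pow_mem hz m))
        have h6 := oTwo_conj Y (inv_mem (hDY hx)) (h (hxT _ (Subgroup.mem_zpowers _)))
        simpa [mul_assoc] using h6
      · have hod : Odd (orderOf (z ^ 2 ^ n)) := by
          rw [orderOf_pow_of_dvd (by positivity) (by rw [e]; exact dvd_mul_right _ _), e,
            Nat.mul_div_cancel_left _ (by positivity)]
          exact hm
        obtain ⟨k, hk⟩ := hD2 _ (pow_mem hz (2 ^ n))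
        exact mem_of_odd hod ((hD₀iff _).2 ⟨pow_mem (pow_mem hzY _) _, hk⟩)
  have key := d.base.ctx.ind Y U' U₀ h1 h0 hle (Or.inl d.ne_top) hC A d.AY
    (fun e he u _ => by rw [d.minA.sq e he, rho_one, sub_self]; exact zero_mem _)
    (U₀ ⊔ U' ⊓ fixp ρ A) le_sup_left (sup_le hle inf_le_left)
    (fun e he u hu => by
      obtain ⟨p, hp, q, hq, rfl⟩ := Submodule.mem_sup.1 hu
      rw [map_add, hq.2 e he, add_sub_add_right_eq_sub]
      exact sub_mem (h0 e (d.AY he) p hp) hp) ?_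
  · exact d.notR fun a ha => hker a ha (key a ha)
  refine le_trans (le_of_eq ?_) ((d.minA.restrict U').trans (Nat.mul_le_mul_left _
    (Nat.card_le_card_of_injective _ (Submodule.inclusion_injective le_sup_right))))
  congr 1
  exact Nat.card_congr ⟨fun e => ⟨e.1.1, e.1.2, fun g hg =>
      hB _ e.1.2 (hker _ e.1.2 e.2) g (hU'U hg)⟩,
    fun e => ⟨⟨e.1, e.2.1⟩, fun g hg => by rw [e.2.2 g hg, sub_self]; exact zero_mem _⟩,
    fun _ => rfl, fun _ => rfl⟩

end Prop₄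

/-- The normal closure of `A ⊓ O₂(Y)`. -/
def rZero (A Y : Subgroup X) : Subgroup X :=
  Subgroup.closure {x | ∃ y ∈ Y, ∃ a ∈ A, a ∈ oTwo Y ∧ x = y * a * y⁻¹}

/-- The span of the `Y`-conjugates of `W`. -/
def uSpan (ρ : Representation (ZMod 2) X V) (Y : Subgroup X) (W : Submodule (ZMod 2) V) :
    Submodule (ZMod 2) V :=
  Submodule.span (ZMod 2) {v | ∃ y ∈ Y, ∃ w ∈ W, v = ρ y w}

namespace Prop₄

variable {W : Submodule (ZMod 2) V} {N Y T A : Subgroup X} (d : Prop₄ ρ W N Y T A)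

include d

theorem rZero_le : rZero A Y ≤ oTwo Y := by
  refine (Subgroup.closure_le _).2 ?_
  rintro _ ⟨y, hy, a, -, ha, rfl⟩
  exact oTwo_conj Y hy ha

theorem rZero_Y : rZero A Y ≤ Y := d.rZero_le.trans (oTwo_le Y)

theorem rZero_conj {x : X} (hx : x ∈ Y) {r : X} (hr : r ∈ rZero A Y) :
    x * r * x⁻¹ ∈ rZero A Y := by
  have h : rZero A Y ≤ (rZero A Y).comap (MulAut.conj x).toMonoidHom := by
    refine (Subgroup.closure_le _).2 ?_
    rintro _ ⟨y, hy, a, ha, haR, rfl⟩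
    refine Subgroup.subset_closure ⟨x * y, mul_mem hx hy, a, ha, haR, ?_⟩
    show x * (y * a * y⁻¹) * x⁻¹ = _
    group
  exact h hr

theorem mem_rZero {a : X} (ha : a ∈ A) (haR : a ∈ oTwo Y) : a ∈ rZero A Y :=
  Subgroup.subset_closure ⟨1, one_mem _, a, ha, haR, by group⟩

theorem rZero_W {r : X} (hr : r ∈ rZero A Y) {w : V} (hw : w ∈ W) :
    ρ r w - w ∈ fixp ρ Y := by
  let S : Subgroup X :=
    { carrier := {r | r ∈ Y ∧ ∀ w ∈ W, ρ r w - w ∈ fixp ρ Y}
      one_mem' := ⟨one_mem _, fun w _ => by rw [rho_one, sub_self]; exact zero_mem _⟩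
      mul_mem' := fun {p q} hp hq => ⟨mul_mem hp.1 hq.1, fun w hw => by
        have h1 := hq.2 w hw
        have h2 : ρ p (ρ q w - w) = ρ q w - w := h1 p hp.1
        rw [map_sub] at h2
        rw [rho_mul, show ρ p (ρ q w) - w = ρ q w - w + (ρ p w - w) by
          rw [← h2]; abel]
        exact add_mem h1 (hp.2 w hw)⟩
      inv_mem' := fun {p} hp => ⟨inv_mem hp.1, fun w hw => by
        have h1 := hp.2 w hw
        have h2 : ρ p⁻¹ (ρ p w - w) = ρ p w - w := h1 p⁻¹ (inv_mem hp.1)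
        rw [map_sub, rho_inv_self] at h2
        rw [show ρ p⁻¹ w - w = -(w - ρ p⁻¹ w) by abel, h2]
        exact neg_mem h1⟩ }
  suffices h : rZero A Y ≤ S from (h hr).2 w hw
  refine (Subgroup.closure_le _).2 ?_
  rintro _ ⟨y, hy, a, ha, haR, rfl⟩
  refine ⟨oTwo_le Y (oTwo_conj Y hy haR), fun w hw => ?_⟩
  by_cases hyN : y ∈ N
  · have hle : cj y A ≤ N := by
      rintro _ ⟨z, hz, rfl⟩
      exact mul_mem (mul_mem hyN (d.cnf.TN (d.AT hz))) (inv_mem hyN)
    rw [d.base.off _ (d.minA.conj y) hle hw (y * a * y⁻¹) ⟨a, ha, rfl⟩, sub_self]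
    exact zero_mem _
  · refine d.meet hy hyN ⟨sub_mem (d.W_le ?_) (d.W_le hw),
      (d.minA.conj y).quadratic (a := y * a * y⁻¹) ⟨a, ha, rfl⟩ w⟩
    have := d.cnf.TN (d.cnf.oTwo_le_T (oTwo_conj Y hy haR))
    rw [d.base.stab] at this
    exact this w hw

theorem inv_uSpan : Inv ρ Y (uSpan ρ Y W) := by
  intro x hx
  refine fun u hu => (Submodule.span_le (p := (uSpan ρ Y W).comap (ρ x))).2 ?_ hu
  rintro _ ⟨y, hy, w, hw, rfl⟩
  exact Submodule.subset_span ⟨x * y, mul_mem hx hy, w, hw, (rho_mul ρ x y w).symm⟩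

theorem W_le_uSpan : W ≤ uSpan ρ Y W := fun w hw =>
  Submodule.subset_span ⟨1, one_mem _, w, hw, (rho_one ρ w).symm⟩

theorem rZero_U {r : X} (hr : r ∈ rZero A Y) {u : V} (hu : u ∈ uSpan ρ Y W) :
    ρ r u - u ∈ fixp ρ Y := by
  refine (Submodule.span_le (p := (fixp ρ Y).comap (nn ρ r))).2 ?_ hu
  rintro _ ⟨y, hy, w, hw, rfl⟩
  show ρ r (ρ y w) - ρ y w ∈ fixp ρ Y
  have h := d.rZero_W (d.rZero_conj (inv_mem hy) hr) hw
  have e : ρ r (ρ y w) - ρ y w = ρ y (ρ (y⁻¹ * r * y⁻¹⁻¹) w - w) := by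
    rw [map_sub, ← rho_mul, ← rho_mul]
    congr 3
    group
  rw [e, h y hy]
  exact h

theorem split {y : X} (hy : y ∈ Y) (hyN : y ∉ N) {u : V} (hu : u ∈ uSpan ρ Y W) :
    ∃ f ∈ uSpan ρ Y W ⊓ fixp ρ A, ∃ g ∈ uSpan ρ Y W ⊓ fixp ρ (cj y A), f + g = u := by
  obtain ⟨a, ha, han⟩ := d.exists_sep hy hyN
  set U := uSpan ρ Y W
  set U' := U ⊓ fixp ρ A ⊔ U ⊓ fixp ρ (cj y A) with hU'
  have hU'U : U' ≤ U := sup_le inf_le_left inf_le_left
  have hstab : Y ≤ stabW ρ U' := by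
    rw [← d.cnf.gen_eq d.minA d.AT d.notR (d.AY ha) hy han]
    refine sup_le (Subgroup.zpowers_le.2 fun v hv => ?_) fun x hx v hv => ?_
    · rw [rho_eq_add]
      exact add_mem hv (Submodule.mem_sup_left
        ⟨sub_mem (d.inv_uSpan a (d.AY ha) v (hU'U hv)) (hU'U hv), d.minA.quadratic ha v⟩)
    · rw [rho_eq_add]
      exact add_mem hv (Submodule.mem_sup_right
        ⟨sub_mem (d.inv_uSpan x (d.cjA_le hy hx) v (hU'U hv)) (hU'U hv),
          (d.minA.conj y).quadratic hx v⟩)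
  have hle : U ≤ U' := Submodule.span_le.2 (by
    rintro _ ⟨z, hz, w, hw, rfl⟩
    exact hstab hz w (Submodule.mem_sup_left ⟨d.W_le_uSpan hw, d.W_le hw⟩))
  exact Submodule.mem_sup.1 (hle hu)

theorem fixed_of_moved {y a : X} (hy : y ∈ Y) (ha : a ∈ A) (han : a ∉ cj y N) {g : V}
    (hg : g ∈ fixp ρ (cj y A)) (hag : ρ a g - g ∈ fixp ρ Y) : g ∈ fixp ρ Y := by
  have hzN : y⁻¹ * a * y ∉ N := fun h => han (mem_cj'.2 h)
  obtain ⟨b, hb, hbn⟩ := d.exists_sep (mul_mem (mul_mem (inv_mem hy) (d.AY ha)) hy) hzN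
  refine d.cnf.mem_fixp_of_gen d.minA d.AT d.notR (a := y * b * y⁻¹) (h := a * y)
    (mul_mem (mul_mem hy (d.AY hb)) (inv_mem hy)) (mul_mem (d.AY ha) hy) ?_ ?_ ?_
  · intro h
    refine hbn (mem_cj'.2 ?_)
    have h2 := mem_cj'.1 h
    simpa [mul_assoc] using h2
  · exact hg _ ⟨b, hb, rfl⟩
  · rintro _ ⟨x, hx, rfl⟩
    show ρ (a * y * x * (a * y)⁻¹) g = g
    have h0 : ρ (y * x * y⁻¹) g = g := hg _ ⟨x, hx, rfl⟩
    have h1 : ρ (a * y * x * (a * y)⁻¹) (ρ a g) = ρ a g := by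
      rw [← rho_mul, show a * y * x * (a * y)⁻¹ * a = a * (y * x * y⁻¹) by group, rho_mul, h0]
    have h2 : ρ (a * y * x * (a * y)⁻¹) (ρ a g - g) = ρ a g - g := hag _ (mul_mem
      (mul_mem (mul_mem (d.AY ha) hy) (d.AY hx)) (inv_mem (mul_mem (d.AY ha) hy)))
    rw [map_sub, h1] at h2
    exact sub_right_inj.1 h2

theorem fix_rZero_le : uSpan ρ Y W ⊓ fixp ρ (rZero A Y) ≤ fixp ρ Y := by
  have hinv : Inv ρ Y (uSpan ρ Y W ⊓ fixp ρ (rZero A Y)) :=
    inv_inf d.inv_uSpan (inv_fixp fun y hy r hr => by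
      simpa using d.rZero_conj (inv_mem hy) hr)
  have hK := d.kill hinv fun a ha haR u hu => hu.2 a (d.mem_rZero ha haR)
  intro v hv
  obtain ⟨y, hy, hyN⟩ := SetLike.not_le_iff_exists.1 d.cnf.notle
  obtain ⟨a, ha, han⟩ := d.exists_sep hy hyN
  obtain ⟨f, hf, g, hg, rfl⟩ := d.split hy hyN hv.1
  have hav : ρ a (f + g) ∈ fixp ρ (oddGen Y) := hK (hinv a (d.AY ha) _ hv)
  have e : ρ a g - g = ρ a (f + g) - (f + g) := by rw [map_add, hf.2 a ha]; abel
  have hc : ρ a g - g ∈ fixp ρ Y :=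
    d.fix_odd_A ⟨e ▸ sub_mem hav (hK hv), d.minA.quadratic ha g⟩
  have hgC := d.fixed_of_moved hy ha han hg.2 hc
  refine add_mem (d.fix_odd_A ⟨?_, hf.2⟩) hgC
  have := sub_mem (hK hv) (fixp_anti (oddGen_le Y) hgC)
  rwa [add_sub_cancel_right] at this

theorem rZero_moves : ¬ ∀ r ∈ rZero A Y, ∀ w ∈ W, ρ r w = w := by
  intro h
  have hinv : Inv ρ Y (fixp ρ (rZero A Y)) := inv_fixp fun y hy r hr => by
    simpa using d.rZero_conj (inv_mem hy) hr
  have hK := d.kill hinv fun a ha haR u hu => hu a (d.mem_rZero ha haR)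
  refine d.cnf.not_oddGen_le fun k hk => ?_
  rw [d.base.stab]
  intro w hw
  rw [hK (fun r hr => h r hr w hw) k hk]
  exact hw

theorem moved_left {a : X} (ha : a ∈ A) (haR : a ∉ oTwo Y) {v : V} (hv : v ∈ uSpan ρ Y W)
    (hav : ρ a v - v ∈ fixp ρ Y) : v ∈ fixp ρ A := by
  obtain ⟨h, hh, han⟩ := d.cnf.exists_not_mem (d.AT ha) haR
  have hhN : h ∉ N := fun hN => han (mem_cj'.2
    (mul_mem (mul_mem (inv_mem hN) (d.cnf.TN (d.AT ha))) hN))
  obtain ⟨f, hf, g, hg, rfl⟩ := d.split hh hhN hv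
  have e : ρ a g - g = ρ a (f + g) - (f + g) := by rw [map_add, hf.2 a ha]; abel
  exact add_mem hf.2 (fixp_anti d.AY (d.fixed_of_moved hh ha han hg.2 (e ▸ hav)))

theorem moved_right {y b : X} (hy : y ∈ Y) (hb : b ∈ A) (hbR : b ∉ oTwo Y) {v : V}
    (hv : v ∈ uSpan ρ Y W) (h : ρ (y * b * y⁻¹) v - v ∈ fixp ρ Y) : v ∈ fixp ρ (cj y A) := by
  have h1 : ρ b (ρ y⁻¹ v) - ρ y⁻¹ v = ρ y⁻¹ (ρ (y * b * y⁻¹) v - v) := by
    rw [map_sub, ← rho_mul, ← rho_mul]
    congr 3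
    group
  have h2 := d.moved_left hb hbR (d.inv_uSpan _ (inv_mem hy) v hv)
    (by rw [h1]; exact d.inv_fix _ (inv_mem hy) _ h)
  rintro _ ⟨a, ha, rfl⟩
  show ρ (y * a * y⁻¹) v = v
  rw [rho_mul, rho_mul, h2 a ha, rho_self_inv]

/-- A proper configuration is impossible. -/
theorem false_of_proper : False := by
  classical
  have : Fact (Nat.Prime 2) := ⟨Nat.prime_two⟩
  have hz : ∀ t : ZMod 2, t = 0 ∨ t = 1 :=
    fun t => (Fin.exists_fin_two.mp ⟨t, rfl⟩ : t = 0 ∨ t = 1)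
  set U := uSpan ρ Y W
  set C₁ := U ⊓ fixp ρ Y with hC₁
  set D := U ⊓ fixp ρ A with hD
  have hC₁D : C₁ ≤ D := inf_le_inf_left _ (fixp_anti d.AY)
  obtain ⟨y, hy, hyN⟩ := SetLike.not_le_iff_exists.1 d.cnf.notle
  obtain ⟨b, hb, hbR⟩ := SetLike.not_le_iff_exists.1 d.notR
  set b' := y * b * y⁻¹ with hb'
  have hb'Y : b' ∈ Y := d.cjA_le hy ⟨b, hb, rfl⟩
  have hb'sq : b' * b' = 1 := (d.minA.conj y).sq _ ⟨b, hb, rfl⟩
  have hnU : ∀ x ∈ Y, ∀ u ∈ U, nn ρ x u ∈ U := fun x hx u hu =>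
    sub_mem (d.inv_uSpan x hx u hu) hu
  have hnC : ∀ x ∈ Y, ∀ v ∈ fixp ρ Y, nn ρ x v = 0 := fun x hx v hv => by
    rw [nn_apply, hv x hx, sub_self]
  -- the translations
  let L : X → Module.End (ZMod 2) V := fun a => nn ρ a * nn ρ b'
  have hbD : ∀ v ∈ D, nn ρ b' v ∈ U ⊓ fixp ρ (cj y A) := fun v hv =>
    ⟨hnU b' hb'Y v hv.1, (d.minA.conj y).quadratic ⟨b, hb, rfl⟩ v⟩
  have hbinj : ∀ v ∈ D, nn ρ b' v ∈ fixp ρ Y → v ∈ C₁ := fun v hv h =>
    ⟨hv.1, d.meet hy hyN ⟨hv.2, d.moved_right hy hb hbR hv.1 h⟩⟩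
  have hLD : ∀ a ∈ A, ∀ v ∈ D, L a v ∈ D := fun a ha v hv =>
    ⟨hnU a (d.AY ha) _ (hbD v hv).1, d.minA.quadratic ha _⟩
  have hLinj : ∀ a ∈ A, a ∉ oTwo Y → ∀ v ∈ D, L a v ∈ fixp ρ Y → v ∈ C₁ := fun a ha haR v hv h =>
    hbinj v hv (d.meet hy hyN
      ⟨d.moved_left ha haR (hbD v hv).1 h, (hbD v hv).2⟩)
  have hL0 : ∀ a ∈ A, ∀ v ∈ C₁, L a v = 0 := fun a ha v hv => by
    show nn ρ a (nn ρ b' v) = 0
    rw [hnC b' hb'Y v hv.2, map_zero]
  have hLR : ∀ a ∈ A, a ∈ oTwo Y → ∀ v ∈ D, L a v ∈ C₁ := fun a ha haR v hv =>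
    ⟨(hLD a ha v hv).1, d.rZero_U (d.mem_rZero ha haR) (hbD v hv).1⟩
  -- the maps induced by `R₀`
  let Mu : X → (U →ₗ[ZMod 2] V) := fun r => (nn ρ r).comp U.subtype
  have hMuadd : ∀ r ∈ rZero A Y, ∀ s ∈ rZero A Y, Mu (r * s) = Mu r + Mu s := by
    intro r hr s hs
    ext u
    show ρ (r * s) (u : V) - u = (ρ r (u : V) - u) + (ρ s (u : V) - u)
    have h := d.rZero_U hs u.2 r (d.rZero_Y hr)
    rw [map_sub] at h
    rw [rho_mul, show ρ r (ρ s (u : V)) = ρ s (u : V) - u + ρ r (u : V) by rw [← h]; abel]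
    abel
  have hMu1 : Mu 1 = 0 := by
    ext u
    show ρ 1 (u : V) - u = 0
    rw [rho_one, sub_self]
  let M : Submodule (ZMod 2) (U →ₗ[ZMod 2] V) :=
    { carrier := {μ | ∃ r ∈ rZero A Y, μ = Mu r}
      add_mem' := by
        rintro _ _ ⟨r, hr, rfl⟩ ⟨s, hs, rfl⟩
        exact ⟨r * s, mul_mem hr hs, (hMuadd r hr s hs).symm⟩
      zero_mem' := ⟨1, one_mem _, hMu1.symm⟩
      smul_mem' := by
        rintro k _ ⟨r, hr, rfl⟩
        rcases hz k with rfl | rfl
        · exact ⟨1, one_mem _, by rw [zero_smul, hMu1]⟩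
        · exact ⟨r, hr, by rw [one_smul]⟩ }
  have : Finite (U →ₗ[ZMod 2] V) := DFunLike.finite _
  let nU : ∀ x ∈ Y, U →ₗ[ZMod 2] U := fun x hx => (nn ρ x).restrict (hnU x hx)
  have hclosed : ∀ x (hx : x ∈ Y), x * x = 1 → ∀ μ ∈ M, μ.comp (nU x hx) ∈ M := by
    rintro x hx hxx _ ⟨r, hr, rfl⟩
    have hxi : x⁻¹ = x := inv_eq_of_mul_eq_one_right hxx
    have hc : x * r * x ∈ rZero A Y := by
      have := d.rZero_conj hx hr
      rwa [hxi] at this
    refine ⟨_, mul_mem hc hr, ?_⟩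
    rw [hMuadd _ hc r hr]
    ext u
    show nn ρ r (nn ρ x (u : V)) = nn ρ (x * r * x) (u : V) + nn ρ r (u : V)
    have h := d.rZero_U hr (d.inv_uSpan x hx u u.2) x hx
    rw [map_sub, ← rho_mul ρ x x, hxx, rho_one] at h
    simp only [nn_apply, map_sub, rho_mul]
    rw [show ρ x (ρ r (ρ x (u : V))) = ρ r (ρ x (u : V)) - ρ x (u : V) + u by rw [← h]; abel]
    rw [← sub_eq_zero]
    calc ρ r (ρ x (u : V)) - ρ x (u : V) - (ρ r (u : V) - u) -
          ((ρ r (ρ x (u : V)) - ρ x (u : V) + u - u) + (ρ r (u : V) - u))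
        = ((u : V) + u) - (ρ r (u : V) + ρ r (u : V)) := by abel
      _ = 0 := by rw [ZModModule.add_self, ZModModule.add_self, sub_zero]
  -- the annihilators and the deficiency
  let ann : Submodule (ZMod 2) V → Submodule (ZMod 2) (U →ₗ[ZMod 2] V) := fun G =>
    { carrier := {μ | ∀ u : U, (u : V) ∈ G → μ u = 0}
      add_mem' := fun {μ ν} hμ hν u hu => by rw [LinearMap.add_apply, hμ u hu, hν u hu, add_zero]
      zero_mem' := fun u _ => rfl
      smul_mem' := fun k μ hμ u hu => by rw [LinearMap.smul_apply, hμ u hu, smul_zero] }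
  let f : Submodule (ZMod 2) V → ℕ := fun G => finrank (ZMod 2) G + finrank (ZMod 2) ↥(M ⊓ ann G)
  have hMC : M ≤ ann C₁ := by
    rintro _ ⟨r, hr, rfl⟩ u hu
    exact hnC r (d.rZero_Y hr) u hu.2
  have hf0 : f C₁ = finrank (ZMod 2) C₁ + finrank (ZMod 2) M := by
    show _ + _ = _
    rw [inf_eq_left.2 hMC]
  -- the deficiency is positive somewhere
  have hWD : W ⊔ C₁ ≤ D := sup_le (le_inf d.W_le_uSpan d.W_le) hC₁D
  have hWpos : f C₁ < f (W ⊔ C₁) := by
    by_contra hle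
    push Not at hle
    have hann : M ⊓ ann (W ⊔ C₁) = M ⊓ ann W := by
      refine le_antisymm (fun μ hμ => ⟨hμ.1, fun u hu => hμ.2 u (Submodule.mem_sup_left hu)⟩) ?_
      rintro μ ⟨hμM, hμW⟩
      refine ⟨hμM, fun u hu => ?_⟩
      obtain ⟨w, hw, c, hc, e⟩ := Submodule.mem_sup.1 hu
      have hu' : u = ⟨w, d.W_le_uSpan hw⟩ + ⟨c, hc.1⟩ := Subtype.ext e.symm
      rw [hu', map_add, hμW ⟨w, _⟩ hw, hMC hμM ⟨c, _⟩ hc, add_zero]
    have hW1 : W ⊓ C₁ = W ⊓ fixp ρ Y := by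
      rw [hC₁, ← inf_assoc, inf_eq_left.2 d.W_le_uSpan]
    have hdim := Submodule.finrank_sup_add_finrank_inf_eq W C₁
    rw [hf0] at hle
    simp only [f] at hle
    have hann' : finrank (ZMod 2) ↥(M ⊓ ann (W ⊔ C₁)) = finrank (ZMod 2) ↥(M ⊓ ann W) :=
      congrArg (fun S : Submodule (ZMod 2) (U →ₗ[ZMod 2] V) => finrank (ZMod 2) S) hann
    rw [hW1] at hdim
    let res : M →ₗ[ZMod 2] (W →ₗ[ZMod 2] V) :=
      (LinearMap.lcomp (ZMod 2) V (Submodule.inclusion d.W_le_uSpan)).domRestrict M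
    have hker : finrank (ZMod 2) (LinearMap.ker res) = finrank (ZMod 2) ↥(M ⊓ ann W) := by
      rw [← Submodule.finrank_map_subtype_eq M (LinearMap.ker res)]
      refine congrArg (fun S : Submodule (ZMod 2) (U →ₗ[ZMod 2] V) => finrank (ZMod 2) S) ?_
      ext μ
      constructor
      · rintro ⟨ν, hν, rfl⟩
        refine ⟨ν.2, fun u hu => ?_⟩
        exact LinearMap.congr_fun hν ⟨u, hu⟩
      · exact fun h => ⟨⟨μ, h.1⟩, LinearMap.ext fun w => h.2 _ w.2, rfl⟩
    have hrn := res.finrank_range_add_finrank_ker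
    rw [hker] at hrn
    refine d.rZero_moves fun r hr w hw => sub_eq_zero.1 ((Submodule.mem_bot (ZMod 2)).1 ?_)
    have hRN : rZero A Y ≤ N := (d.rZero_le.trans d.cnf.oTwo_le_T).trans d.cnf.TN
    refine d.base.ctx.ind N W ⊥ (fun x hx w hw => ?_) (inv_bot N) bot_le (Or.inl d.base.proper)
      d.base.o2W _ hRN (fun e he v hv => ?_) (W ⊓ fixp ρ Y) bot_le inf_le_left
      (fun e he v hv => ?_) ?_ r hr w hw
    · rw [d.base.stab] at hx
      exact hx w hw
    · rw [Submodule.mem_bot]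
      have h := LinearMap.congr_fun (hMuadd e he e he) ⟨v, d.W_le_uSpan hv⟩
      simp only [Mu, LinearMap.add_apply, LinearMap.comp_apply, Submodule.subtype_apply,
        nn_apply] at h
      rw [h, ZModModule.add_self]
    · rw [hv.2 e (d.rZero_Y he), sub_self]
      exact zero_mem _
    let ψ : ↥(rZero A Y) →* Multiplicative (W →ₗ[ZMod 2] V) :=
      { toFun := fun e => Multiplicative.ofAdd (res ⟨Mu e, e, e.2, rfl⟩)
        map_one' := by
          show Multiplicative.ofAdd (res ⟨Mu 1, _⟩) = 1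
          rw [show (⟨Mu 1, _⟩ : M) = 0 from Subtype.ext hMu1, map_zero]
          rfl
        map_mul' := fun e e' => by
          rw [← ofAdd_add, ← map_add]
          exact congrArg (fun t => Multiplicative.ofAdd (res t))
            (Subtype.ext (hMuadd e e.2 e' e'.2)) }
    have hcard := Subgroup.card_eq_card_quotient_mul_card_subgroup ψ.ker
    rw [Nat.card_congr (QuotientGroup.quotientKerEquivRange ψ).toEquiv] at hcard
    have hrange : Nat.card ψ.range = Nat.card (LinearMap.range res) := by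
      refine Nat.card_congr
        ⟨fun t => ⟨Multiplicative.toAdd t.1, ?_⟩, fun t => ⟨Multiplicative.ofAdd t.1, ?_⟩,
          fun _ => rfl, fun _ => rfl⟩
      · obtain ⟨e, he⟩ := t.2
        exact ⟨⟨Mu e, e, e.2, rfl⟩, congrArg Multiplicative.toAdd he⟩
      · obtain ⟨⟨μ, r, hr, rfl⟩, he⟩ := t.2
        exact ⟨⟨r, hr⟩, congrArg Multiplicative.ofAdd he⟩
    have : Finite (W →ₗ[ZMod 2] V) := DFunLike.finite _
    rw [hcard, hrange, card_eq_two_pow (W := LinearMap.range res), card_eq_two_pow (W := W),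
      card_eq_two_pow (W := ↥(W ⊓ fixp ρ Y))]
    have hkc : Nat.card {e : ↥(rZero A Y) // TrivOn ρ e W ⊥} = Nat.card ψ.ker := by
      refine Nat.card_congr (Equiv.subtypeEquivRight fun e => ?_)
      constructor
      · intro h
        refine congrArg Multiplicative.ofAdd (LinearMap.ext fun w => ?_)
        exact (Submodule.mem_bot _).1 (h w w.2)
      · intro h w hw
        rw [Submodule.mem_bot]
        exact LinearMap.congr_fun (congrArg Multiplicative.toAdd h) ⟨w, hw⟩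
    rw [hkc, mul_right_comm, ← pow_add, mul_comm]
    rw [mul_comm _ (Nat.card ψ.ker)]
    exact Nat.mul_le_mul_left _ (Nat.pow_le_pow_right (by norm_num) (by omega))
  -- a smallest maximiser
  obtain ⟨G₀, hG₀, hmax⟩ := Set.exists_max_image {G : Submodule (ZMod 2) V | C₁ ≤ G ∧ G ≤ D} f
    (Set.toFinite _) ⟨C₁, le_rfl, hC₁D⟩
  obtain ⟨G, ⟨hGI, hGmax⟩, hGmin⟩ := Set.exists_min_image
    {G : Submodule (ZMod 2) V | (C₁ ≤ G ∧ G ≤ D) ∧ f G₀ ≤ f G} (fun G => finrank (ZMod 2) G)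
    (Set.toFinite _) ⟨G₀, hG₀, le_rfl⟩
  obtain ⟨hCG, hGD⟩ := hGI
  have hGC : f C₁ < f G := (hWpos.trans_le (hmax _ ⟨le_sup_right, hWD⟩)).trans_le hGmax
  have hfle : ∀ G' : Submodule (ZMod 2) V, C₁ ≤ G' → G' ≤ D → f G' ≤ f G :=
    fun G' h1 h2 => (hmax G' ⟨h1, h2⟩).trans hGmax
  have hle_max : ∀ G' : Submodule (ZMod 2) V, C₁ ≤ G' → G' ≤ D → f G₀ ≤ f G' → G ≤ G' := by
    intro G' h1 h2 h3
    have h4 := Submodule.finrank_sup_add_finrank_inf_eq G G'
    have hsup : M ⊓ ann (G ⊔ G') = (M ⊓ ann G) ⊓ (M ⊓ ann G') := by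
      refine le_antisymm (fun μ hμ => ⟨⟨hμ.1, fun u hu => hμ.2 u (Submodule.mem_sup_left hu)⟩,
        hμ.1, fun u hu => hμ.2 u (Submodule.mem_sup_right hu)⟩) ?_
      rintro μ ⟨⟨hM, hg⟩, -, hg'⟩
      refine ⟨hM, fun u hu => ?_⟩
      obtain ⟨p, hp, q, hq, e⟩ := Submodule.mem_sup.1 hu
      have hu' : u = ⟨p, (hGD hp).1⟩ + ⟨q, (h2 hq).1⟩ := Subtype.ext e.symm
      rw [hu', map_add, hg ⟨p, _⟩ hp, hg' ⟨q, _⟩ hq, add_zero]
    have hinf : (M ⊓ ann G) ⊔ (M ⊓ ann G') ≤ M ⊓ ann (G ⊓ G') :=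
      sup_le (fun μ hμ => ⟨hμ.1, fun u hu => hμ.2 u hu.1⟩)
        (fun μ hμ => ⟨hμ.1, fun u hu => hμ.2 u hu.2⟩)
    have h5 := Submodule.finrank_sup_add_finrank_inf_eq (M ⊓ ann G) (M ⊓ ann G')
    have h6 := Submodule.finrank_mono hinf
    have h7 := hmax (G ⊔ G') ⟨hCG.trans le_sup_left, sup_le hGD h2⟩
    simp only [f] at h7 hGmax h3
    have h7' : finrank (ZMod 2) ↥(M ⊓ ann (G ⊔ G')) =
        finrank (ZMod 2) ↥((M ⊓ ann G) ⊓ (M ⊓ ann G')) :=
      congrArg (fun S : Submodule (ZMod 2) (U →ₗ[ZMod 2] V) => finrank (ZMod 2) S) hsup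
    have h8 : f G₀ ≤ f (G ⊓ G') := by simp only [f]; omega
    have h9 := hGmin (G ⊓ G') ⟨⟨le_inf hCG h1, inf_le_left.trans hGD⟩, h8⟩
    exact (inf_eq_left.1 (Submodule.eq_of_le_of_finrank_le inf_le_left h9))
  have hGne : ¬ G ≤ C₁ := fun h => (le_antisymm hCG h ▸ hGC).false
  -- subspaces under injective translations
  have hrank : ∀ φ : Module.End (ZMod 2) V, (∀ v ∈ C₁, φ v = 0) →
      (∀ v ∈ G, φ v ∈ fixp ρ Y → v ∈ C₁) →
      finrank (ZMod 2) ↥(G.map φ ⊔ C₁) = finrank (ZMod 2) G := by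
    intro φ h0 h1
    have hi : G.map φ ⊓ C₁ = ⊥ := by
      rw [eq_bot_iff]
      rintro _ ⟨⟨v, hv, rfl⟩, hc⟩
      rw [Submodule.mem_bot, h0 v (h1 v hv hc.2)]
    have hk : (LinearMap.ker (φ.domRestrict G)).map G.subtype = C₁ := by
      refine le_antisymm ?_ fun v hv => ⟨⟨v, hCG hv⟩, h0 v hv, rfl⟩
      rintro _ ⟨v, hv, rfl⟩
      refine h1 v v.2 ?_
      rw [show φ (v : V) = 0 from hv]
      exact zero_mem _
    have e1 := (φ.domRestrict G).finrank_range_add_finrank_ker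
    rw [LinearMap.range_domRestrict, ← Submodule.finrank_map_subtype_eq G
      (LinearMap.ker (φ.domRestrict G)), hk] at e1
    have e2 := Submodule.finrank_sup_add_finrank_inf_eq (G.map φ) C₁
    rw [hi, finrank_bot] at e2
    omega
  -- composition with the translations
  let LU : ∀ a ∈ A, U →ₗ[ZMod 2] U := fun a ha =>
    (nU a (d.AY ha)).comp (nU b' hb'Y)
  have hLM : ∀ a (ha : a ∈ A), ∀ μ ∈ M, μ.comp (LU a ha) ∈ M := fun a ha μ hμ => by
    rw [← LinearMap.comp_assoc]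
    exact hclosed b' hb'Y hb'sq _ (hclosed a (d.AY ha) (d.minA.sq a ha) μ hμ)
  -- invariance
  have hLG : ∀ a ∈ A, ∀ v ∈ G, L a v ∈ G := by
    intro a ha v hv
    by_cases haR : a ∈ oTwo Y
    · exact hCG (hLR a ha haR v (hGD hv))
    set G' := G.map (L a) ⊔ C₁ with hG'
    have hdim : finrank (ZMod 2) G' = finrank (ZMod 2) G :=
      hrank (L a) (hL0 a ha) (fun w hw => hLinj a ha haR w (hGD hw))
    have hG'D : G' ≤ D := sup_le (by
      rintro _ ⟨w, hw, rfl⟩; exact hLD a ha w (hGD hw)) hC₁D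
    have hann : finrank (ZMod 2) ↥(M ⊓ ann G) ≤ finrank (ZMod 2) ↥(M ⊓ ann G') := by
      let ψ : M →ₗ[ZMod 2] M :=
        { toFun := fun μ => ⟨μ.1.comp (LU a ha), hLM a ha μ μ.2⟩
          map_add' := fun μ ν => Subtype.ext (LinearMap.add_comp _ _ _)
          map_smul' := fun k μ => Subtype.ext (LinearMap.smul_comp _ _ _) }
      let K : Submodule (ZMod 2) M := (ann G).comap M.subtype
      have e1 : finrank (ZMod 2) K = finrank (ZMod 2) ↥(M ⊓ ann G) := by
        rw [← Submodule.finrank_map_subtype_eq M K, Submodule.map_comap_subtype]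
      have e2 : finrank (ZMod 2) (K.comap ψ) = finrank (ZMod 2) ↥(M ⊓ ann G') := by
        rw [← Submodule.finrank_map_subtype_eq M (K.comap ψ)]
        refine congrArg (fun S : Submodule (ZMod 2) (U →ₗ[ZMod 2] V) => finrank (ZMod 2) S) ?_
        ext μ
        constructor
        · rintro ⟨ν, hν, rfl⟩
          refine ⟨ν.2, fun u hu => ?_⟩
          obtain ⟨_, ⟨p, hp, rfl⟩, q, hq, e⟩ := Submodule.mem_sup.1 hu
          have hu' : u = ⟨L a p, (hLD a ha p (hGD hp)).1⟩ + ⟨q, hq.1⟩ := Subtype.ext e.symm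
          show ν.1 u = 0
          rw [hu', map_add, hMC ν.2 ⟨q, _⟩ hq, add_zero]
          exact hν ⟨p, (hGD hp).1⟩ hp
        · rintro ⟨hμM, hμ⟩
          refine ⟨⟨μ, hμM⟩, fun u hu => ?_, rfl⟩
          exact hμ (LU a ha u) (Submodule.mem_sup_left ⟨u, hu, rfl⟩)
      -- a preimage is at least as large
      have e3 := (K.mkQ.comp ψ).finrank_range_add_finrank_ker
      rw [LinearMap.ker_comp, Submodule.ker_mkQ] at e3
      have e4 := (LinearMap.range (K.mkQ.comp ψ)).finrank_le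
      have e5 := K.finrank_quotient_add_finrank
      omega
    have hle := hle_max G' le_sup_right hG'D (hGmax.trans (by simp only [f]; omega))
    rw [Submodule.eq_of_le_of_finrank_le hle hdim.le]
    exact Submodule.mem_sup_left ⟨v, hv, rfl⟩
  -- the quotient
  set C' := C₁.comap G.subtype with hC'
  have : Finite (↥G ⧸ C') := Finite.of_surjective _ Quotient.mk''_surjective
  have hmk : ∀ v : G, (Submodule.Quotient.mk v : ↥G ⧸ C') = 0 ↔ (v : V) ∈ C₁ := fun v =>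
    Submodule.Quotient.mk_eq_zero _
  let lA : ∀ a ∈ A, Module.End (ZMod 2) (↥G ⧸ C') := fun a ha =>
    Submodule.mapQ C' C' ((L a).restrict (hLG a ha)) fun v hv => by
      show L a (v : V) ∈ C₁
      have h0 : L a (v : V) = 0 := hL0 a ha _ hv
      rw [h0]
      exact zero_mem _
  have hlA : ∀ a (ha : a ∈ A) (v : G),
      lA a ha (Submodule.Quotient.mk v) = Submodule.Quotient.mk ⟨L a v, hLG a ha v v.2⟩ :=
    fun _ _ _ => rfl
  let LL : Submodule (ZMod 2) (Module.End (ZMod 2) (↥G ⧸ C')) :=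
    { carrier := {φ | ∃ a, ∃ ha : a ∈ A, φ = lA a ha}
      add_mem' := by
        rintro _ _ ⟨a, ha, rfl⟩ ⟨a', ha', rfl⟩
        refine ⟨a * a', mul_mem ha ha', Submodule.linearMap_qext _ (LinearMap.ext fun v => ?_)⟩
        show lA a ha (Submodule.Quotient.mk v) + lA a' ha' (Submodule.Quotient.mk v) = _
        rw [hlA a ha, hlA a' ha', ← Submodule.Quotient.mk_add]
        exact congrArg Submodule.Quotient.mk (Subtype.ext (d.minA.add_mul ha ha' _).symm)
      zero_mem' := by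
        refine ⟨1, one_mem _, Submodule.linearMap_qext _ (LinearMap.ext fun v => ?_)⟩
        symm
        show lA 1 (one_mem _) (Submodule.Quotient.mk v) = 0
        rw [hlA 1 (one_mem _), hmk]
        show ρ 1 (nn ρ b' (v : V)) - nn ρ b' (v : V) ∈ C₁
        rw [rho_one, sub_self]
        exact zero_mem _
      smul_mem' := by
        rintro k _ ⟨a, ha, rfl⟩
        rcases hz k with rfl | rfl
        · refine ⟨1, one_mem _, Submodule.linearMap_qext _ (LinearMap.ext fun v => ?_)⟩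
          rw [zero_smul]
          symm
          show lA 1 (one_mem _) (Submodule.Quotient.mk v) = 0
          rw [hlA 1 (one_mem _), hmk]
          show ρ 1 (nn ρ b' (v : V)) - nn ρ b' (v : V) ∈ C₁
          rw [rho_one, sub_self]
          exact zero_mem _
        · exact ⟨a, ha, by rw [one_smul]⟩ }
  have : Finite (Module.End (ZMod 2) (↥G ⧸ C')) := DFunLike.finite _
  let res : M →ₗ[ZMod 2] ((↥G ⧸ C') →ₗ[ZMod 2] V) :=
    { toFun := fun μ => C'.liftQ (μ.1.comp (Submodule.inclusion (hGD.trans inf_le_left)))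
        fun v hv => hMC μ.2 _ hv
      map_add' := fun μ ν => Submodule.linearMap_qext _ (LinearMap.ext fun v => rfl)
      map_smul' := fun k μ => Submodule.linearMap_qext _ (LinearMap.ext fun v => rfl) }
  have hresapp : ∀ (μ : M) (v : G),
      res μ (Submodule.Quotient.mk v) = μ.1 ⟨v, (hGD v.2).1⟩ := fun _ _ => rfl
  set NN := LinearMap.range res with hNN
  have : Finite ((↥G ⧸ C') →ₗ[ZMod 2] V) := DFunLike.finite _
  have hNNdim : finrank (ZMod 2) NN + finrank (ZMod 2) ↥(M ⊓ ann G) = finrank (ZMod 2) M := by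
    have e := res.finrank_range_add_finrank_ker
    rw [← e, ← Submodule.finrank_map_subtype_eq M (LinearMap.ker res)]
    refine congrArg (fun S : Submodule (ZMod 2) (U →ₗ[ZMod 2] V) =>
      finrank (ZMod 2) NN + finrank (ZMod 2) S) ?_
    symm
    ext μ
    constructor
    · rintro ⟨ν, hν, rfl⟩
      exact ⟨ν.2, fun u hu => LinearMap.congr_fun hν (Submodule.Quotient.mk ⟨u, hu⟩)⟩
    · exact fun h => ⟨⟨μ, h.1⟩, Submodule.linearMap_qext _ (LinearMap.ext fun v => h.2 _ v.2), rfl⟩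
  have hPdim : finrank (ZMod 2) (↥G ⧸ C') + finrank (ZMod 2) C₁ = finrank (ZMod 2) G := by
    rw [← C'.finrank_quotient_add_finrank, hC',
      (Submodule.comapSubtypeEquivOfLe hCG).finrank_eq]
  refine no_regular_family (P := ↥G ⧸ C') (C := V) (A := LL) LL.subtype ?_ ?_ NN ?_ ?_ ?_ ?_
  · rintro ⟨_, a, ha, rfl⟩ hne
    have haR : a ∉ oTwo Y := by
      intro haR
      refine hne (Subtype.ext (Submodule.linearMap_qext _ (LinearMap.ext fun v => ?_)))
      exact (hmk _).2 (hLR a ha haR v (hGD v.2))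
    refine (injective_iff_map_eq_zero (lA a ha)).2 fun q hq => ?_
    obtain ⟨v, rfl⟩ := Submodule.Quotient.mk_surjective _ q
    rw [hlA a ha, hmk] at hq
    exact (hmk v).2 (hLinj a ha haR v (hGD v.2) hq.2)
  · rintro ⟨_, a, ha, rfl⟩ hne q hq
    have haR : a ∉ oTwo Y := by
      intro haR
      refine hne (Subtype.ext (Submodule.linearMap_qext _ (LinearMap.ext fun v => ?_)))
      exact (hmk _).2 (hLR a ha haR v (hGD v.2))
    obtain ⟨⟨w, hw⟩, rfl⟩ := Submodule.Quotient.mk_surjective _ q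
    change lA a ha (Submodule.Quotient.mk ⟨w, hw⟩) = _ at hq
    rw [hlA a ha, Submodule.Quotient.eq] at hq
    change L a w - w ∈ C₁ at hq
    refine (hmk _).2 ?_
    by_contra hwC
    set u := nn ρ b' w with hu
    have huC : u ∉ fixp ρ Y := fun h => hwC (hbinj w (hGD hw) h)
    have hwY : w ∉ fixp ρ Y := fun h => hwC ⟨(hGD hw).1, h⟩
    have huw : u + w ∉ fixp ρ Y := by
      intro h
      refine huC (d.meet hy hyN ⟨?_, (hbD w (hGD hw)).2⟩)
      have := sub_mem (fixp_anti d.AY h) (hGD hw).2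
      rwa [add_sub_cancel_right] at this
    refine d.base.ctx.noS3 (invHom_s3_of_plane (ρ := ρ) (a := a) (b := b') (u := u) (w := w)
      (U₀ := fixp ρ Y) (fun z hz => d.inv_fix a (d.AY ha) z hz)
      (fun z hz => d.inv_fix b' hb'Y z hz) ?_ ?_ ?_ ?_ huC hwY huw)
    · rw [(hGD hw).2 a ha, sub_self]; exact zero_mem _
    · rw [show ρ a u - (u + w) = (ρ a u - u) - w by abel]
      exact hq.2
    · rw [(hbD w (hGD hw)).2 b' ⟨b, hb, rfl⟩, sub_self]; exact zero_mem _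
    · rw [hu, nn_apply, show ρ b' w - (w + (ρ b' w - w)) = 0 by abel]; exact zero_mem _
  · rintro _ ⟨μ, rfl⟩ ⟨_, a, ha, rfl⟩
    refine ⟨⟨μ.1.comp (LU a ha), hLM a ha μ μ.2⟩, Submodule.linearMap_qext _
      (LinearMap.ext fun v => ?_)⟩
    show μ.1 (LU a ha ⟨v, _⟩) = res μ (lA a ha (Submodule.Quotient.mk v))
    rw [hlA a ha, hresapp]
    rfl
  · intro U'
    set G' := (U'.comap C'.mkQ).map G.subtype with hG'
    have h1 : C₁ ≤ G' := fun v hv => ⟨⟨v, hCG hv⟩, by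
      show (Submodule.Quotient.mk ⟨v, hCG hv⟩ : ↥G ⧸ C') ∈ U'
      rw [(hmk _).2 hv]
      exact zero_mem _, rfl⟩
    have hf' := hfle G' h1 ((Submodule.map_subtype_le _ _).trans hGD)
    simp only [f] at hf'
    have e1 : finrank (ZMod 2) U' + finrank (ZMod 2) C₁ = finrank (ZMod 2) G' := by
      rw [hG', Submodule.finrank_map_subtype_eq]
      have h := (C'.mkQ.domRestrict (U'.comap C'.mkQ)).finrank_range_add_finrank_ker
      rw [LinearMap.range_domRestrict, Submodule.map_comap_eq_of_surjective C'.mkQ_surjective,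
        LinearMap.ker_domRestrict, Submodule.ker_mkQ] at h
      rw [← h]
      congr 1
      rw [(Submodule.comapSubtypeEquivOfLe (show C' ≤ U'.comap C'.mkQ from fun v hv => by
        show C'.mkQ v ∈ U'
        rw [Submodule.mkQ_apply, (Submodule.Quotient.mk_eq_zero _).2 hv]
        exact zero_mem _)).finrank_eq, hC', (Submodule.comapSubtypeEquivOfLe hCG).finrank_eq]
    set res' := (LinearMap.lcomp (ZMod 2) V U'.subtype).comp res with hres'
    have e2 := res'.finrank_range_add_finrank_ker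
    have e3 : LinearMap.range res' = NN.map (LinearMap.lcomp (ZMod 2) V U'.subtype) :=
      LinearMap.range_comp _ _
    have e4 : (LinearMap.ker res').map M.subtype = M ⊓ ann G' := by
      ext μ
      constructor
      · rintro ⟨ν, hν, rfl⟩
        refine ⟨ν.2, fun u hu => ?_⟩
        obtain ⟨v, hv, e⟩ := hu
        have e' : (⟨(v : V), (hGD v.2).1⟩ : U) = u := Subtype.ext e
        rw [← e']
        exact LinearMap.congr_fun hν ⟨_, hv⟩
      · rintro ⟨hμM, hμ⟩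
        refine ⟨⟨μ, hμM⟩, LinearMap.ext fun ⟨q, hq⟩ => ?_, rfl⟩
        obtain ⟨v, rfl⟩ := Submodule.Quotient.mk_surjective _ q
        exact hμ _ ⟨v, hq, rfl⟩
    rw [e3, ← Submodule.finrank_map_subtype_eq M (LinearMap.ker res'), e4] at e2
    omega
  · rw [hf0] at hGC
    simp only [f] at hGC
    omega
  · -- the deficiency is at most the rank of the family
    set G2 := G.map (nn ρ b') ⊔ C₁ with hG2
    have hdim : finrank (ZMod 2) G2 = finrank (ZMod 2) G :=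
      hrank (nn ρ b') (fun v hv => hnC b' hb'Y v hv.2) (fun v hv => hbinj v (hGD hv))
    have hG2F : G2 ⊓ fixp ρ A ≤ C₁ := by
      rintro v ⟨hv, hvA⟩
      obtain ⟨p, hp, q, hq, rfl⟩ := Submodule.mem_sup.1 hv
      obtain ⟨w, hw, rfl⟩ := hp
      refine add_mem ⟨(hbD w (hGD hw)).1, d.meet hy hyN ⟨?_, (hbD w (hGD hw)).2⟩⟩ hq
      have := sub_mem hvA (fixp_anti d.AY hq.2)
      rwa [add_sub_cancel_right] at this
    obtain ⟨g₀, hg₀, hg₀C⟩ := SetLike.not_le_iff_exists.1 hGne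
    set St := Min.stab ρ A G2 with hSt
    set B := A ⊓ oTwo Y
    have hStB : ∀ a ∈ St, a ∈ B := fun a ha => ⟨ha.1, by
      by_contra haR
      refine hg₀C (hLinj a ha.1 haR g₀ (hGD hg₀) ?_)
      show nn ρ a (nn ρ b' g₀) ∈ fixp ρ Y
      rw [nn_apply, ha.2 _ (Submodule.mem_sup_left ⟨g₀, hg₀, rfl⟩), sub_self]
      exact zero_mem _⟩
    let g : A → LL := fun a => ⟨lA a a.2, a, a.2, rfl⟩
    have hg : ∀ a c : A, g a = g c → (a : X) * c ∈ B := by
      intro a c e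
      refine ⟨mul_mem a.2 c.2, ?_⟩
      by_contra haR
      refine hg₀C (hLinj _ (mul_mem a.2 c.2) haR g₀ (hGD hg₀) ?_)
      have e' := LinearMap.congr_fun (congrArg Subtype.val e) (Submodule.Quotient.mk ⟨g₀, hg₀⟩)
      simp only [g] at e'
      rw [hlA a a.2, hlA c c.2, Submodule.Quotient.eq] at e'
      have h2 : L (a : X) g₀ - L (c : X) g₀ ∈ C₁ := e'
      show nn ρ ((a : X) * c) (nn ρ b' g₀) ∈ fixp ρ Y
      rw [nn_apply, d.minA.add_mul a.2 c.2, ← ZModModule.sub_eq_add]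
      exact h2.2
    have k1 : Nat.card A ≤ Nat.card B * Nat.card LL := by
      rw [← Nat.card_prod]
      refine Nat.card_le_card_of_injective
        (fun a : A => ((⟨((Function.invFun g (g a) : A) : X) * a,
          hg _ _ (Function.invFun_eq ⟨a, rfl⟩)⟩ : B), g a)) fun a c e => ?_
      have e2 : g a = g c := congrArg Prod.snd e
      have e1 := congrArg (fun t => ((Prod.fst t : B) : X)) e
      simp only [e2, mul_right_inj] at e1
      exact Subtype.ext e1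
    have hMB : ∀ e : B, (Mu (e : X)).comp (nU b' hb'Y) ∈ M := fun e =>
      hclosed b' hb'Y hb'sq _ ⟨e, d.mem_rZero e.2.1 e.2.2, rfl⟩
    let ψ : B → NN := fun e => ⟨res ⟨_, hMB e⟩, _, rfl⟩
    have hψ : ∀ e c : B, ψ e = ψ c → (e : X) * c ∈ St := by
      intro e c h
      refine ⟨mul_mem e.2.1 c.2.1, fun v hv => ?_⟩
      obtain ⟨p, hp, q, hq, rfl⟩ := Submodule.mem_sup.1 hv
      obtain ⟨w, hw, rfl⟩ := hp
      have hqq : ρ ((e : X) * c) q = q := hq.2 _ (d.AY (mul_mem e.2.1 c.2.1))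
      have h' : nn ρ (e : X) (nn ρ b' w) = nn ρ (c : X) (nn ρ b' w) :=
        LinearMap.congr_fun (congrArg Subtype.val h) (Submodule.Quotient.mk ⟨w, hw⟩)
      have e3 : nn ρ ((e : X) * c) (nn ρ b' w) = nn ρ (e : X) (nn ρ b' w) + nn ρ (c : X) (nn ρ b' w) :=
        d.minA.add_mul e.2.1 c.2.1 _
      rw [map_add, hqq, rho_eq_add ((e : X) * c), e3, h', ZModModule.add_self, add_zero]
    have k2 : Nat.card B ≤ Nat.card St * Nat.card NN := by
      rw [← Nat.card_prod]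
      refine Nat.card_le_card_of_injective
        (fun e : B => ((⟨((Function.invFun ψ (ψ e) : B) : X) * e,
          hψ _ _ (Function.invFun_eq ⟨e, rfl⟩)⟩ : St), ψ e)) fun a c e => ?_
      have e2 : ψ a = ψ c := congrArg Prod.snd e
      have e1 := congrArg (fun t => ((Prod.fst t : St) : X)) e
      simp only [e2, mul_right_inj] at e1
      exact Subtype.ext e1
    have k3 := (d.minA.restrict G2).trans (Nat.mul_le_mul_left _
      (Nat.card_le_card_of_injective _ (Submodule.inclusion_injective hG2F)))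
    rw [card_eq_two_pow (W := G2), hdim, card_eq_two_pow (W := C₁)] at k3
    rw [card_eq_two_pow (W := LL)] at k1
    rw [card_eq_two_pow (W := NN)] at k2
    have hpos : 0 < Nat.card St := Nat.card_pos
    have k4 : 2 ^ finrank (ZMod 2) G * Nat.card St ≤
        2 ^ (finrank (ZMod 2) NN + finrank (ZMod 2) LL + finrank (ZMod 2) C₁) * Nat.card St := by
      refine k3.trans ((Nat.mul_le_mul_right _ (k1.trans (Nat.mul_le_mul_right _ k2))).trans
        (le_of_eq ?_))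
      rw [pow_add, pow_add]; ring
    have := (Nat.pow_le_pow_iff_right (show 1 < 2 by norm_num)).1
      (Nat.le_of_mul_le_mul_right k4 hpos)
    omega

end Prop₄

/-- A proper configuration is impossible. -/
theorem proper_false {W : Submodule (ZMod 2) V} {N Y T : Subgroup X} (b : Base ρ W N)
    (c : Cnf ρ N Y T) (hY : Y ≠ ⊤) : False := by
  obtain ⟨A, hA, hAT, hAR⟩ := c.exists_off
  exact Prop₄.false_of_proper ⟨b, c, hY, hA, hAT, hAR⟩

end CfsgLib.S4NoFF
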