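import Cfsg.Agent.Lib.S4NoFF.Basic
import Cfsg.Agent.Lib.LocalEven.S4FreeMin

/-!
# The statement in group language, and the Thompson subgroup

`NoMinAll`: in a group without section `S₄`, a normal elementary abelian `2`-subgroup `V` such that
`O₂(G / C(V)) = 1` has no minimal offender; consequently `J(T) ≤ C(V)`.
-/

set_option autoImplicit false

namespace CfsgLib.S4NoFF

open Cfsg CfsgLib.PLocal CfsgLib.LocalEven.S4F
open CfsgLib.LocalEven.CD (cen)

universe u

/-- No minimal offender on a normal elementary abelian subgroup with `O₂(G / C(V)) = 1`. -/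
def NoMinAll : Prop :=
  ∀ (G : Type u) [Group G] [Finite G], ¬ InvHom (Equiv.Perm (Fin 4)) G →
    ∀ V : Subgroup G, V.Normal → IsElementaryAbelian 2 V →
      (∀ D : Subgroup G, D.Normal → cen V ≤ D → (∃ k, (cen V).relIndex D = 2 ^ k) → D = cen V) →
      ∀ A, ¬ Min V A

/-- The Thompson subgroup of a `2`-group over `V` centralises `V`. -/
theorem thompson_le_of (h : NoMinAll.{u}) {G : Type u} [Group G] [Finite G]
    (hS4 : ¬ InvHom (Equiv.Perm (Fin 4)) G) {V T : Subgroup G} (hVn : V.Normal)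
    (hV : IsElementaryAbelian 2 V)
    (hC : ∀ D : Subgroup G, D.Normal → cen V ≤ D → (∃ k, (cen V).relIndex D = 2 ^ k) → D = cen V)
    (hVT : V ≤ T) : thompsonSubgroupOf 2 T ≤ T ⊓ cen V := by
  have : Fact (Nat.Prime 2) := ⟨Nat.prime_two⟩
  rw [thompsonSubgroupOf_eq_sSup]
  refine sSup_le fun A hA => le_inf hA.1 ?_
  by_contra hAC
  obtain ⟨B, -, hB⟩ := exists_min hV hA.2.1 hAC (V := V) (by
    refine le_trans (le_of_eq ?_) ((isBestOffenderOn_of_maxEAOf hV hVT hA).1 (A ⊓ cen V) inf_le_left)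
    rw [mul_comm]
    congr 2
    rw [show V ⊓ Subgroup.centralizer ((A ⊓ cen V : Subgroup G) : Set G) = V from
      inf_eq_left.2 ((CfsgLib.LocalEven.CD.le_cen_cen V).trans
        (CfsgLib.LocalEven.CD.cen_anti inf_le_right))])
  exact h G hS4 V hVn hV hC B hB

end CfsgLib.S4NoFF
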